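import Cfsg.Agent.Lib.Spor.RuRec.CheckDefs

/-! The finite checks for the automorphisms. -/

set_option autoImplicit false
set_option maxRecDepth 100000
set_option maxHeartbeats 4000000
set_option Elab.async false

open Cfsg.Agent.Spor.Cos

namespace Cfsg.Agent.Spor.RuRec

theorem mask_ok : ∀ v < 1755, chkMask v = true :=
  fun v hv => List.all_eq_true.1 (show ((List.range 1755).all chkMask) = true by decide +kernel) v (List.mem_range.2 hv)

theorem clEdge_ok : octTree.all chkClEdge = true := by decide +kernel

theorem clRoot_ok : Nat.beq (maskT.at 0) (Cfsg.Agent.Spor.SuzRec.maskOf (Cfsg.Agent.Spor.SuzRec.ptsOf oct10)) = true := by decide +kernel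

theorem steps_ok : chkSteps autSteps 1 = true := by decide +kernel

theorem steps_prod : 1755 * stepsProd autSteps = 35942400 := by decide +kernel

end Cfsg.Agent.Spor.RuRec
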