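import Cfsg.Agent.Lib.Spor.SuzRec.STree

/-! The orbits of the five-group and the search. -/

set_option autoImplicit false
set_option maxRecDepth 100000
set_option maxHeartbeats 4000000

open Cfsg.Agent.Spor.Cos

namespace Cfsg.Agent.Spor.RuRec

/-- An orbit of the five-group. -/
def five0 : ℕ × List (ℕ × ℕ × ℕ) := (0, [(1705, 0, 0), (8, 0, 1), (90, 1705, 0), (266, 1705, 1), (331, 8, 1), (1505, 90, 0), (808, 90, 1), (1046, 266, 1), (363, 331, 1), (1214, 1505, 0), (633, 1505, 1), (65, 808, 1), (1259, 1046, 1), (109, 363, 1), (1704, 1214, 1), (245, 633, 1), (586, 65, 1), (404, 1259, 1), (1032, 1704, 1), (1176, 245, 1), (376, 586, 1), (565, 1032, 1), (883, 1176, 1), (132, 565, 1)])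

/-- An orbit of the five-group. -/
def five1 : ℕ × List (ℕ × ℕ × ℕ) := (1, [(1352, 1, 0), (1400, 1, 1), (1461, 1352, 0), (1316, 1352, 1), (673, 1400, 1), (695, 1461, 0), (790, 1461, 1), (793, 1316, 1), (518, 673, 1), (1295, 695, 0), (179, 695, 1), (147, 790, 1), (1462, 793, 1), (163, 518, 1), (1127, 1295, 1), (968, 179, 1), (1028, 147, 1), (764, 1462, 1), (1040, 1127, 1), (1185, 968, 1), (755, 1028, 1), (1298, 1040, 1), (1465, 1185, 1), (880, 1298, 1)])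

/-- An orbit of the five-group. -/
def five2 : ℕ × List (ℕ × ℕ × ℕ) := (2, [(405, 2, 0), (513, 2, 1), (856, 405, 0), (1721, 405, 1), (1148, 513, 1), (1241, 856, 0), (601, 856, 1), (1001, 1721, 1), (71, 1148, 1), (636, 1241, 0), (117, 1241, 1), (646, 601, 1), (21, 1001, 1), (38, 71, 1), (515, 636, 1), (1168, 117, 1), (1224, 646, 1), (304, 21, 1), (621, 515, 1), (986, 1168, 1), (116, 1224, 1), (1272, 621, 1), (310, 986, 1), (381, 1272, 1)])

/-- An orbit of the five-group. -/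
def five3 : ℕ × List (ℕ × ℕ × ℕ) := (3, [(1740, 3, 0), (713, 3, 1), (1627, 1740, 0), (840, 1740, 1), (450, 713, 1), (553, 1627, 0), (846, 1627, 1), (1360, 840, 1), (231, 450, 1), (1212, 553, 0), (131, 553, 1), (873, 846, 1), (956, 1360, 1), (647, 231, 1), (1216, 1212, 1), (419, 131, 1), (978, 873, 1), (879, 956, 1), (947, 1216, 1), (816, 419, 1), (783, 978, 1), (319, 947, 1), (516, 816, 1), (1151, 319, 1)])

/-- An orbit of the five-group. -/
def five4 : ℕ × List (ℕ × ℕ × ℕ) := (4, [(727, 4, 0), (1043, 4, 1), (707, 727, 0), (642, 727, 1), (661, 1043, 1), (1330, 707, 0), (271, 707, 1), (680, 642, 1), (125, 661, 1), (68, 1330, 0), (366, 1330, 1), (858, 271, 1), (1338, 680, 1), (355, 125, 1), (1114, 68, 1), (157, 366, 1), (1687, 858, 1), (439, 1338, 1), (222, 1114, 1), (69, 157, 1), (844, 1687, 1), (494, 222, 1), (458, 69, 1), (262, 494, 1)])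

/-- An orbit of the five-group. -/
def five5 : ℕ × List (ℕ × ℕ × ℕ) := (5, [(191, 5, 0), (1079, 5, 1), (716, 191, 0), (1213, 191, 1), (512, 1079, 1), (1234, 716, 0), (403, 716, 1), (570, 1213, 1), (1015, 512, 1), (882, 1234, 0), (428, 1234, 1), (1333, 403, 1), (200, 570, 1), (829, 1015, 1), (412, 882, 1), (114, 428, 1), (1023, 1333, 1), (1637, 200, 1), (9, 412, 1), (1529, 114, 1), (1480, 1023, 1), (1062, 9, 1), (831, 1529, 1), (613, 1062, 1)])

/-- An orbit of the five-group. -/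
def five6 : ℕ × List (ℕ × ℕ × ℕ) := (6, [(1366, 6, 0), (1619, 6, 1), (540, 1366, 0), (45, 1366, 1), (467, 1619, 1), (390, 540, 0), (786, 540, 1), (597, 45, 1), (1322, 467, 1), (929, 390, 0), (1228, 390, 1), (1320, 786, 1), (544, 597, 1), (1082, 1322, 1), (1751, 929, 1), (875, 1228, 1), (1044, 1320, 1), (1279, 544, 1), (315, 1751, 1), (1420, 875, 1), (950, 1044, 1), (585, 315, 1), (1381, 1420, 1), (1014, 585, 1)])

/-- An orbit of the five-group. -/
def five7 : ℕ × List (ℕ × ℕ × ℕ) := (7, [(543, 7, 0), (123, 7, 1), (681, 543, 0), (1220, 543, 1), (351, 123, 1), (1242, 681, 0), (121, 681, 1), (150, 1220, 1), (966, 351, 1), (1688, 1242, 0), (481, 1242, 1), (578, 121, 1), (1171, 150, 1), (1110, 966, 1), (791, 1688, 1), (1181, 481, 1), (1541, 578, 1), (701, 1171, 1), (815, 791, 1), (1050, 1181, 1), (187, 1541, 1), (1743, 815, 1), (1660, 1050, 1), (1277, 1743, 1)])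

/-- An orbit of the five-group. -/
def five8 : ℕ × List (ℕ × ℕ × ℕ) := (10, [(1716, 10, 0), (1402, 10, 1), (457, 1716, 0), (1315, 1716, 1), (182, 1402, 1), (297, 457, 0), (389, 457, 1), (864, 1315, 1), (921, 182, 1), (884, 297, 0), (1146, 297, 1), (733, 389, 1), (1678, 864, 1), (301, 921, 1), (1255, 884, 1), (1473, 1146, 1), (120, 733, 1), (535, 1678, 1), (1583, 1255, 1), (1719, 1473, 1), (1020, 120, 1), (1475, 1583, 1), (335, 1719, 1), (896, 1475, 1)])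

/-- An orbit of the five-group. -/
def five9 : ℕ × List (ℕ × ℕ × ℕ) := (11, [(1664, 11, 0), (828, 11, 1), (1523, 1664, 0), (1237, 1664, 1), (23, 828, 1), (436, 1523, 0), (577, 1523, 1), (666, 1237, 1), (1296, 23, 1), (700, 436, 0), (493, 436, 1), (926, 577, 1), (1746, 666, 1), (1502, 1296, 1), (248, 700, 1), (356, 493, 1), (620, 926, 1), (820, 1746, 1), (251, 248, 1), (1341, 356, 1), (28, 620, 1), (598, 251, 1), (1198, 1341, 1), (1371, 598, 1)])

/-- An orbit of the five-group. -/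
def five10 : ℕ × List (ℕ × ℕ × ℕ) := (12, [(1662, 12, 0), (1754, 12, 1), (1119, 1662, 0), (468, 1662, 1), (692, 1754, 1), (1577, 1119, 0), (314, 1119, 1), (409, 468, 1), (279, 692, 1), (1160, 1577, 0), (664, 1577, 1), (54, 314, 1), (698, 409, 1), (1686, 279, 1), (1589, 1160, 1), (1749, 664, 1), (1550, 54, 1), (762, 698, 1), (650, 1589, 1), (1184, 1749, 1), (1386, 1550, 1), (1741, 650, 1), (622, 1184, 1), (983, 1741, 1)])

/-- An orbit of the five-group. -/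
def five11 : ℕ × List (ℕ × ℕ × ℕ) := (13, [(1709, 13, 0), (903, 13, 1), (1665, 1709, 0), (198, 1709, 1), (133, 903, 1), (485, 1665, 0), (415, 1665, 1), (827, 198, 1), (1516, 133, 1), (1604, 485, 0), (906, 485, 1), (1059, 415, 1), (1233, 827, 1), (1622, 1516, 1), (1620, 1604, 1), (44, 906, 1), (1628, 1059, 1), (1574, 1233, 1), (1730, 1620, 1), (1379, 44, 1), (1421, 1628, 1), (378, 1730, 1), (1149, 1379, 1), (313, 378, 1)])

/-- An orbit of the five-group. -/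
def five12 : ℕ × List (ℕ × ℕ × ℕ) := (14, [(782, 14, 0), (571, 14, 1), (1689, 782, 0), (1252, 782, 1), (805, 571, 1), (1012, 1689, 0), (463, 1689, 1), (377, 1252, 1), (1498, 805, 1), (853, 1012, 0), (85, 1012, 1), (918, 463, 1), (184, 377, 1), (1109, 1498, 1), (1449, 853, 1), (930, 85, 1), (1083, 918, 1), (1518, 184, 1), (383, 1449, 1), (1335, 930, 1), (1358, 1083, 1), (1102, 383, 1), (1122, 1335, 1), (587, 1102, 1)])

/-- An orbit of the five-group. -/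
def five13 : ℕ × List (ℕ × ℕ × ℕ) := (15, [(834, 15, 0), (193, 15, 1), (240, 834, 0), (336, 834, 1), (964, 193, 1), (1633, 240, 0), (417, 240, 1), (643, 336, 1), (242, 964, 1), (825, 1633, 0), (388, 1633, 1), (1552, 417, 1), (779, 643, 1), (364, 242, 1), (387, 825, 1), (169, 388, 1), (243, 1552, 1), (100, 779, 1), (1431, 387, 1), (1142, 169, 1), (971, 243, 1), (1030, 1431, 1), (557, 1142, 1), (1726, 1030, 1)])

/-- An orbit of the five-group. -/
def five14 : ℕ × List (ℕ × ℕ × ℕ) := (16, [(997, 16, 0), (1101, 16, 1), (1256, 997, 0), (1413, 997, 1), (1573, 1101, 1), (1584, 1256, 0), (1008, 1256, 1), (1355, 1413, 1), (303, 1573, 1), (874, 1584, 0), (634, 1584, 1), (1618, 1008, 1), (87, 1355, 1), (674, 303, 1), (1319, 874, 1), (67, 634, 1), (1555, 1618, 1), (527, 87, 1), (973, 1319, 1), (691, 67, 1), (590, 1555, 1), (1250, 973, 1), (991, 691, 1), (1018, 1250, 1)])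

/-- An orbit of the five-group. -/
def five15 : ℕ × List (ℕ × ℕ × ℕ) := (17, [(1221, 17, 0), (1047, 17, 1), (1052, 1221, 0), (913, 1221, 1), (1227, 1047, 1), (1339, 1052, 0), (478, 1052, 1), (39, 913, 1), (797, 1227, 1), (1287, 1339, 0), (1404, 1339, 1), (559, 478, 1), (746, 39, 1), (1080, 797, 1), (102, 1287, 1), (208, 1404, 1), (1706, 559, 1), (1285, 746, 1), (177, 102, 1), (1445, 208, 1), (628, 1706, 1), (1581, 177, 1), (1497, 1445, 1), (1017, 1581, 1)])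

/-- An orbit of the five-group. -/
def five16 : ℕ × List (ℕ × ℕ × ℕ) := (18, [(78, 18, 0), (894, 18, 1), (1174, 78, 0), (1539, 78, 1), (1312, 894, 1), (1138, 1174, 0), (962, 1174, 1), (406, 1539, 1), (965, 1312, 1), (435, 1138, 0), (459, 1138, 1), (1346, 962, 1), (374, 406, 1), (1499, 965, 1), (1667, 435, 1), (447, 459, 1), (705, 1346, 1), (1651, 374, 1), (630, 1667, 1), (455, 447, 1), (1422, 705, 1), (980, 630, 1), (1107, 455, 1), (1175, 980, 1)])

/-- An orbit of the five-group. -/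
def five17 : ℕ × List (ℕ × ℕ × ℕ) := (19, [(1205, 19, 0), (1542, 19, 1), (1747, 1205, 0), (946, 1205, 1), (648, 1542, 1), (195, 1747, 0), (847, 1747, 1), (29, 946, 1), (521, 648, 1), (1609, 195, 0), (1556, 195, 1), (373, 847, 1), (1430, 29, 1), (81, 521, 1), (728, 1609, 1), (511, 1556, 1), (887, 373, 1), (386, 1430, 1), (589, 728, 1), (763, 511, 1), (545, 887, 1), (93, 589, 1), (960, 763, 1), (445, 93, 1)])

/-- An orbit of the five-group. -/
def five18 : ℕ × List (ℕ × ℕ × ℕ) := (20, [(1170, 20, 0), (504, 20, 1), (456, 1170, 0), (247, 1170, 1), (1282, 504, 1), (449, 456, 0), (812, 456, 1), (140, 247, 1), (509, 1282, 1), (1072, 449, 0), (1378, 449, 1), (657, 812, 1), (1632, 140, 1), (237, 509, 1), (469, 1072, 1), (1150, 1378, 1), (668, 657, 1), (631, 1632, 1), (146, 469, 1), (979, 1150, 1), (461, 668, 1), (1593, 146, 1), (151, 979, 1), (489, 1593, 1)])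

/-- An orbit of the five-group. -/
def five19 : ℕ × List (ℕ × ℕ × ℕ) := (22, [(1737, 22, 0), (398, 22, 1), (1409, 1737, 0), (522, 1737, 1), (104, 398, 1), (506, 1409, 0), (908, 1409, 1), (771, 522, 1), (31, 104, 1), (1085, 506, 0), (1738, 506, 1), (175, 908, 1), (1266, 771, 1), (1582, 31, 1), (891, 1085, 1), (1436, 1738, 1), (1209, 175, 1), (961, 1266, 1), (1433, 891, 1), (580, 1436, 1), (256, 1209, 1), (928, 1433, 1), (775, 580, 1), (533, 928, 1)])

/-- An orbit of the five-group. -/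
def five20 : ℕ × List (ℕ × ℕ × ℕ) := (24, [(850, 24, 0), (1569, 24, 1), (976, 850, 0), (1692, 850, 1), (996, 1569, 1), (255, 976, 0), (969, 976, 1), (611, 1692, 1), (1532, 996, 1), (264, 255, 0), (1607, 255, 1), (951, 969, 1), (848, 611, 1), (710, 1532, 1), (1051, 264, 1), (416, 1607, 1), (1525, 951, 1), (230, 848, 1), (1207, 1051, 1), (1481, 416, 1), (33, 1525, 1), (379, 1207, 1), (1103, 1481, 1), (92, 379, 1)])

/-- An orbit of the five-group. -/
def five21 : ℕ × List (ℕ × ℕ × ℕ) := (25, [(1248, 25, 0), (1496, 25, 1), (352, 1248, 0), (480, 1248, 1), (152, 1496, 1), (1653, 352, 0), (640, 352, 1), (395, 480, 1), (819, 152, 1), (672, 1653, 0), (568, 1653, 1), (1467, 640, 1), (632, 395, 1), (134, 819, 1), (524, 672, 1), (900, 568, 1), (1075, 1467, 1), (730, 632, 1), (106, 524, 1), (103, 900, 1), (1486, 1075, 1), (394, 106, 1), (318, 103, 1), (1133, 394, 1)])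

/-- An orbit of the five-group. -/
def five22 : ℕ × List (ℕ × ℕ × ℕ) := (26, [(1540, 26, 0), (1580, 26, 1), (1710, 1540, 0), (867, 1540, 1), (1585, 1580, 1), (1428, 1710, 0), (124, 1710, 1), (1592, 867, 1), (475, 1585, 1), (1054, 1428, 0), (822, 1428, 1), (300, 124, 1), (1469, 1592, 1), (1701, 475, 1), (1734, 1054, 1), (901, 822, 1), (30, 300, 1), (36, 1469, 1), (1211, 1734, 1), (1270, 901, 1), (1426, 30, 1), (402, 1211, 1), (431, 1270, 1), (798, 402, 1)])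

/-- An orbit of the five-group. -/
def five23 : ℕ × List (ℕ × ℕ × ℕ) := (27, [(246, 27, 0), (1509, 27, 1), (98, 246, 0), (693, 246, 1), (1416, 1509, 1), (851, 98, 0), (919, 98, 1), (784, 693, 1), (1655, 1416, 1), (74, 851, 0), (361, 851, 1), (902, 919, 1), (1157, 784, 1), (671, 1655, 1), (1646, 74, 1), (1624, 361, 1), (714, 902, 1), (154, 1157, 1), (1590, 1646, 1), (1661, 1624, 1), (832, 714, 1), (139, 1590, 1), (699, 1661, 1), (64, 139, 1)])

/-- An orbit of the five-group. -/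
def five24 : ℕ × List (ℕ × ℕ × ℕ) := (32, [(393, 32, 0), (1415, 32, 1), (96, 393, 0), (448, 393, 1), (1073, 1415, 1), (1058, 96, 0), (645, 96, 1), (1345, 448, 1), (312, 1073, 1), (1423, 1058, 0), (1544, 1058, 1), (1024, 645, 1), (920, 1345, 1), (1517, 312, 1), (1452, 1423, 1), (142, 1544, 1), (579, 1024, 1), (143, 920, 1), (1403, 1452, 1), (172, 142, 1), (452, 579, 1), (1464, 1403, 1), (1172, 172, 1), (349, 1464, 1)])

/-- An orbit of the five-group. -/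
def five25 : ℕ × List (ℕ × ℕ × ℕ) := (34, [(1594, 34, 0), (444, 34, 1), (46, 1594, 0), (1448, 1594, 1), (1217, 444, 1), (952, 46, 0), (186, 46, 1), (392, 1448, 1), (1733, 1217, 1), (1197, 952, 0), (1253, 952, 1), (1519, 186, 1), (662, 392, 1), (594, 1733, 1), (1457, 1197, 1), (849, 1253, 1), (910, 1519, 1), (464, 662, 1), (592, 1457, 1), (382, 849, 1), (437, 910, 1), (365, 592, 1), (1140, 382, 1), (119, 365, 1)])

/-- An orbit of the five-group. -/
def five26 : ℕ × List (ℕ × ℕ × ℕ) := (35, [(479, 35, 0), (1068, 35, 1), (214, 479, 0), (651, 479, 1), (1321, 1068, 1), (602, 214, 0), (486, 214, 1), (1591, 651, 1), (753, 1321, 1), (1262, 602, 0), (881, 602, 1), (503, 486, 1), (724, 1591, 1), (1332, 753, 1), (1545, 1262, 1), (1722, 881, 1), (605, 503, 1), (1139, 724, 1), (817, 1545, 1), (627, 1722, 1), (1508, 605, 1), (334, 817, 1), (949, 627, 1), (556, 334, 1)])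

/-- An orbit of the five-group. -/
def five27 : ℕ × List (ℕ × ℕ × ℕ) := (37, [(1263, 37, 0), (711, 37, 1), (1351, 1263, 0), (658, 1263, 1), (1281, 711, 1), (1159, 1351, 0), (1703, 1351, 1), (471, 658, 1), (1099, 1281, 1), (276, 1159, 0), (889, 1159, 1), (197, 1703, 1), (75, 471, 1), (57, 1099, 1), (1641, 276, 1), (189, 889, 1), (833, 197, 1), (897, 75, 1), (517, 1641, 1), (1112, 189, 1), (1650, 833, 1), (1095, 517, 1), (58, 1112, 1), (1384, 1095, 1)])

/-- An orbit of the five-group. -/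
def five28 : ℕ × List (ℕ × ℕ × ℕ) := (40, [(941, 40, 0), (1612, 40, 1), (708, 941, 0), (990, 941, 1), (813, 1612, 1), (660, 708, 0), (859, 708, 1), (1501, 990, 1), (1361, 813, 1), (548, 660, 0), (1385, 660, 1), (1244, 859, 1), (60, 1501, 1), (1305, 1361, 1), (1111, 548, 1), (838, 1385, 1), (1752, 1244, 1), (286, 60, 1), (137, 1111, 1), (423, 838, 1), (821, 1752, 1), (1504, 137, 1), (188, 423, 1), (1432, 1504, 1)])

/-- An orbit of the five-group. -/
def five29 : ℕ × List (ℕ × ℕ × ℕ) := (41, [(1147, 41, 0), (1690, 41, 1), (362, 1147, 0), (353, 1147, 1), (1643, 1690, 1), (43, 362, 0), (917, 362, 1), (1299, 353, 1), (1564, 1643, 1), (1554, 43, 0), (1487, 43, 1), (1098, 917, 1), (1223, 1299, 1), (1424, 1564, 1), (484, 1554, 1), (399, 1487, 1), (466, 1098, 1), (539, 1223, 1), (174, 484, 1), (765, 399, 1), (1458, 466, 1), (238, 174, 1), (1165, 765, 1), (84, 238, 1)])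

/-- An orbit of the five-group. -/
def five30 : ℕ × List (ℕ × ℕ × ℕ) := (42, [(337, 42, 0), (1349, 42, 1), (1679, 337, 0), (931, 337, 1), (1548, 1349, 1), (644, 1679, 0), (1254, 1679, 1), (904, 931, 1), (170, 1548, 1), (1247, 644, 0), (1029, 644, 1), (1659, 1254, 1), (95, 904, 1), (740, 170, 1), (888, 1247, 1), (1561, 1029, 1), (507, 1659, 1), (1038, 95, 1), (1390, 888, 1), (1440, 1561, 1), (1278, 507, 1), (206, 1390, 1), (1483, 1440, 1), (487, 206, 1)])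

/-- An orbit of the five-group. -/
def five31 : ℕ × List (ℕ × ℕ × ℕ) := (47, [(1491, 47, 0), (287, 47, 1), (265, 1491, 0), (1100, 1491, 1), (56, 287, 1), (1634, 265, 0), (1359, 265, 1), (549, 1100, 1), (1303, 56, 1), (1694, 1634, 0), (1134, 1634, 1), (614, 1359, 1), (1615, 549, 1), (1236, 1303, 1), (1189, 1694, 1), (567, 1134, 1), (830, 614, 1), (1173, 1615, 1), (770, 1189, 1), (749, 567, 1), (1071, 830, 1), (923, 770, 1), (1685, 749, 1), (1045, 923, 1)])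

/-- An orbit of the five-group. -/
def five32 : ℕ × List (ℕ × ℕ × ℕ) := (48, [(327, 48, 0), (574, 48, 1), (995, 327, 0), (678, 327, 1), (1723, 574, 1), (97, 995, 0), (357, 995, 1), (563, 678, 1), (912, 1723, 1), (731, 97, 0), (1153, 97, 1), (525, 357, 1), (1037, 563, 1), (530, 912, 1), (138, 731, 1), (1240, 1153, 1), (1202, 525, 1), (933, 1037, 1), (886, 138, 1), (232, 1240, 1), (155, 1202, 1), (1275, 886, 1), (1472, 232, 1), (757, 1275, 1)])

/-- An orbit of the five-group. -/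
def five33 : ℕ × List (ℕ × ℕ × ℕ) := (49, [(1434, 49, 0), (1515, 49, 1), (476, 1434, 0), (1606, 1434, 1), (442, 1515, 1), (741, 476, 0), (1141, 476, 1), (1614, 1606, 1), (1031, 442, 1), (203, 741, 0), (591, 741, 1), (810, 1141, 1), (1067, 1614, 1), (617, 1031, 1), (1336, 203, 1), (307, 591, 1), (718, 810, 1), (1739, 1067, 1), (839, 1336, 1), (546, 307, 1), (91, 718, 1), (955, 839, 1), (1557, 546, 1), (1162, 955, 1)])

/-- An orbit of the five-group. -/
def five34 : ℕ × List (ℕ × ℕ × ℕ) := (50, [(192, 50, 1), (1522, 192, 1), (738, 1522, 1), (1674, 738, 1)])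

/-- An orbit of the five-group. -/
def five35 : ℕ × List (ℕ × ℕ × ℕ) := (51, [(743, 51, 0), (1414, 51, 1), (136, 743, 0), (1377, 743, 1), (1163, 1414, 1), (1260, 136, 0), (618, 136, 1), (799, 1377, 1), (1105, 1163, 1), (1293, 1260, 0), (1302, 1260, 1), (841, 618, 1), (1158, 799, 1), (1586, 1105, 1), (432, 1293, 1), (268, 1302, 1), (1301, 841, 1), (482, 1158, 1), (1289, 432, 1), (1602, 268, 1), (210, 1301, 1), (769, 1289, 1), (1417, 1602, 1), (789, 769, 1)])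

/-- An orbit of the five-group. -/
def five36 : ℕ × List (ℕ × ℕ × ℕ) := (52, [(83, 52, 0), (360, 52, 1), (869, 83, 0), (1676, 83, 1), (1595, 360, 1), (1191, 869, 0), (1625, 869, 1), (61, 1676, 1), (638, 1595, 1), (637, 1191, 0), (560, 1191, 1), (425, 1625, 1), (1136, 61, 1), (321, 638, 1), (1106, 637, 1), (1078, 560, 1), (721, 425, 1), (202, 1136, 1), (288, 1106, 1), (474, 1078, 1), (1565, 721, 1), (1533, 288, 1), (434, 474, 1), (1331, 1533, 1)])

/-- An orbit of the five-group. -/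
def five37 : ℕ × List (ℕ × ℕ × ℕ) := (53, [(460, 53, 0), (916, 53, 1), (898, 460, 0), (1397, 460, 1), (1021, 916, 1), (1357, 898, 0), (1329, 898, 1), (1039, 1397, 1), (1350, 1021, 1), (761, 1357, 0), (1663, 1357, 1), (1208, 1329, 1), (499, 1039, 1), (1239, 1350, 1), (927, 761, 1), (171, 1663, 1), (1456, 1208, 1), (1748, 499, 1), (569, 927, 1), (552, 171, 1), (283, 1456, 1), (1356, 569, 1), (1084, 552, 1), (776, 1356, 1)])

/-- An orbit of the five-group. -/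
def five38 : ℕ × List (ℕ × ℕ × ℕ) := (55, [(1670, 55, 0), (937, 55, 1), (1363, 1670, 0), (340, 1670, 1), (1180, 937, 1), (144, 1363, 0), (89, 1363, 1), (1297, 340, 1), (684, 1180, 1), (1347, 144, 0), (1490, 144, 1), (1425, 89, 1), (1368, 1297, 1), (682, 684, 1), (1034, 1347, 1), (1370, 1490, 1), (141, 1425, 1), (1372, 1368, 1), (702, 1034, 1), (322, 1370, 1), (180, 141, 1), (686, 702, 1), (497, 322, 1), (1069, 686, 1)])

/-- An orbit of the five-group. -/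
def five39 : ℕ × List (ℕ × ℕ × ℕ) := (59, [(1537, 59, 0), (639, 59, 1), (1640, 1537, 0), (1727, 1537, 1), (1443, 639, 1), (1365, 1640, 0), (270, 1640, 1), (1613, 1727, 1), (309, 1443, 1), (737, 1365, 0), (118, 1365, 1), (367, 270, 1), (676, 1613, 1), (1076, 309, 1), (1393, 737, 1), (1671, 118, 1), (1460, 367, 1), (940, 676, 1), (807, 1393, 1), (285, 1671, 1), (234, 1460, 1), (877, 807, 1), (1563, 285, 1), (1629, 877, 1)])

/-- An orbit of the five-group. -/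
def five40 : ℕ × List (ℕ × ℕ × ℕ) := (62, [(165, 62, 0), (1700, 62, 1), (1154, 165, 0), (612, 165, 1), (496, 1700, 1), (317, 1154, 0), (670, 1154, 1), (694, 612, 1), (994, 496, 1), (599, 317, 0), (129, 317, 1), (878, 670, 1), (294, 694, 1), (320, 994, 1), (1506, 599, 1), (948, 129, 1), (261, 878, 1), (616, 294, 1), (519, 1506, 1), (944, 948, 1), (1702, 261, 1), (348, 519, 1), (989, 944, 1), (626, 348, 1)])

/-- An orbit of the five-group. -/
def five41 : ℕ × List (ℕ × ℕ × ℕ) := (63, [(1656, 63, 0), (985, 63, 1), (259, 1656, 0), (219, 1656, 1), (1492, 985, 1), (1374, 259, 0), (667, 259, 1), (217, 219, 1), (1064, 1492, 1), (454, 1374, 0), (1238, 1374, 1), (1199, 667, 1), (400, 217, 1), (1081, 1064, 1), (1750, 454, 1), (1048, 1238, 1), (1711, 1199, 1), (1273, 400, 1), (1717, 1750, 1), (1546, 1048, 1), (369, 1711, 1), (922, 1717, 1), (1681, 1546, 1), (1543, 922, 1)])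

/-- An orbit of the five-group. -/
def five42 : ℕ × List (ℕ × ℕ × ℕ) := (66, [(1410, 66, 0), (734, 66, 1), (1152, 1410, 0), (802, 1410, 1), (1061, 734, 1), (688, 1152, 0), (1190, 1152, 1), (1672, 802, 1), (1442, 1061, 1), (1219, 688, 0), (1682, 688, 1), (414, 1190, 1), (1596, 1672, 1), (890, 1442, 1), (1407, 1219, 1), (1016, 1682, 1), (1485, 414, 1), (1231, 1596, 1), (371, 1407, 1), (911, 1016, 1), (1007, 1485, 1), (1010, 371, 1), (909, 911, 1), (785, 1010, 1)])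

/-- An orbit of the five-group. -/
def five43 : ℕ × List (ℕ × ℕ × ℕ) := (70, [(953, 70, 0), (1401, 70, 1), (438, 953, 0), (959, 953, 1), (655, 1401, 1), (421, 438, 0), (717, 438, 1), (1284, 959, 1), (1166, 655, 1), (218, 421, 0), (885, 421, 1), (1026, 717, 1), (329, 1284, 1), (385, 1166, 1), (490, 218, 1), (794, 885, 1), (745, 1026, 1), (339, 329, 1), (1249, 490, 1), (199, 794, 1), (1411, 745, 1), (1243, 1249, 1), (876, 199, 1), (76, 1243, 1)])

/-- An orbit of the five-group. -/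
def five44 : ℕ × List (ℕ × ℕ × ℕ) := (72, [(564, 72, 0), (865, 72, 1), (1695, 564, 0), (1167, 564, 1), (872, 865, 1), (1439, 1695, 0), (1348, 1695, 1), (441, 1167, 1), (250, 872, 1), (1327, 1439, 0), (665, 1439, 1), (1121, 1348, 1), (1226, 441, 1), (1675, 250, 1), (723, 1327, 1), (939, 665, 1), (1408, 1121, 1), (345, 1226, 1), (1600, 723, 1), (1683, 939, 1), (624, 1408, 1), (1630, 1600, 1), (945, 1683, 1), (1290, 1630, 1)])

/-- An orbit of the five-group. -/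
def five45 : ℕ × List (ℕ × ℕ × ℕ) := (73, [(502, 73, 0), (1526, 73, 1), (595, 502, 0), (1342, 502, 1), (936, 1526, 1), (1566, 595, 0), (1714, 595, 1), (582, 1342, 1), (842, 936, 1), (988, 1566, 0), (1673, 1566, 1), (126, 1714, 1), (1126, 582, 1), (278, 842, 1), (719, 988, 1), (720, 1673, 1), (1022, 126, 1), (161, 1126, 1), (1512, 719, 1), (1429, 720, 1), (253, 1022, 1), (258, 1512, 1), (1306, 1429, 1), (1524, 258, 1)])

/-- An orbit of the five-group. -/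
def five46 : ℕ × List (ℕ × ℕ × ℕ) := (77, [(333, 77, 0), (1398, 77, 1), (1691, 333, 0), (1696, 333, 1), (760, 1398, 1), (477, 1691, 0), (289, 1691, 1), (1468, 1696, 1), (1376, 760, 1), (277, 477, 0), (1478, 477, 1), (1562, 289, 1), (1507, 1468, 1), (1192, 1376, 1), (1510, 277, 1), (1354, 1478, 1), (1307, 1562, 1), (520, 1507, 1), (225, 1510, 1), (1503, 1354, 1), (1117, 1307, 1), (677, 225, 1), (1484, 1503, 1), (706, 677, 1)])

/-- An orbit of the five-group. -/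
def five47 : ℕ × List (ℕ × ℕ × ℕ) := (79, [(1597, 79, 0), (244, 79, 1), (1621, 1597, 0), (1042, 1597, 1), (501, 244, 1), (1169, 1621, 0), (1444, 1621, 1), (541, 1042, 1), (780, 501, 1), (196, 1169, 0), (975, 1169, 1), (1090, 1444, 1), (809, 541, 1), (773, 780, 1), (80, 196, 1), (1314, 975, 1), (993, 1090, 1), (1164, 809, 1), (551, 80, 1), (532, 1314, 1), (391, 993, 1), (216, 551, 1), (1707, 532, 1), (1610, 216, 1)])

/-- An orbit of the five-group. -/
def five48 : ℕ × List (ℕ × ℕ × ℕ) := (82, [(1131, 82, 0), (1399, 82, 1), (1459, 1131, 0), (1097, 1131, 1), (110, 1399, 1), (212, 1459, 0), (424, 1459, 1), (1006, 1097, 1), (1053, 110, 1), (1129, 212, 0), (892, 212, 1), (575, 424, 1), (1736, 1006, 1), (1145, 1053, 1), (1089, 1129, 1), (101, 892, 1), (1179, 575, 1), (925, 1736, 1), (128, 1089, 1), (1455, 101, 1), (837, 1179, 1), (292, 128, 1), (1328, 1455, 1), (1156, 292, 1)])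

/-- An orbit of the five-group. -/
def five49 : ℕ × List (ℕ × ℕ × ℕ) := (86, [(772, 86, 0), (407, 86, 1), (1337, 772, 0), (529, 772, 1), (555, 407, 1), (1135, 1337, 0), (1729, 1337, 1), (176, 529, 1), (1718, 555, 1), (1392, 1135, 0), (934, 1135, 1), (1626, 1729, 1), (1466, 176, 1), (1367, 1718, 1), (1276, 1392, 1), (293, 934, 1), (1066, 1626, 1), (967, 1466, 1), (1353, 1276, 1), (1104, 293, 1), (954, 1066, 1), (1450, 1353, 1), (1642, 1104, 1), (1074, 1450, 1)])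

/-- An orbit of the five-group. -/
def five50 : ℕ × List (ℕ × ℕ × ℕ) := (88, [(94, 88, 0), (1514, 88, 1), (1283, 94, 0), (453, 94, 1), (1657, 1514, 1), (178, 1283, 0), (508, 1283, 1), (1264, 453, 1), (1094, 1657, 1), (712, 178, 0), (159, 178, 1), (1558, 508, 1), (296, 1264, 1), (1658, 1094, 1), (500, 712, 1), (732, 159, 1), (1732, 1558, 1), (977, 296, 1), (943, 500, 1), (915, 732, 1), (164, 1732, 1), (1269, 943, 1), (1547, 915, 1), (1375, 1269, 1)])

/-- An orbit of the five-group. -/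
def five51 : ℕ × List (ℕ × ℕ × ℕ) := (99, [(862, 99, 0), (534, 99, 1), (1177, 862, 0), (1033, 862, 1), (603, 534, 1), (1567, 1177, 0), (1194, 1177, 1), (787, 1033, 1), (341, 603, 1), (145, 1567, 0), (1000, 1567, 1), (581, 1194, 1), (1568, 787, 1), (1343, 341, 1), (446, 145, 1), (1638, 1000, 1), (689, 581, 1), (1453, 1568, 1), (384, 446, 1), (492, 1638, 1), (1647, 689, 1), (1230, 384, 1), (1011, 492, 1), (818, 1230, 1)])

/-- An orbit of the five-group. -/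
def five52 : ℕ × List (ℕ × ℕ × ℕ) := (105, [(538, 105, 0), (347, 105, 1), (281, 538, 0), (736, 538, 1), (1677, 347, 1), (1362, 281, 0), (1668, 281, 1), (1753, 736, 1), (451, 1677, 1), (593, 1362, 0), (411, 1362, 1), (370, 1668, 1), (625, 1753, 1), (233, 451, 1), (726, 593, 1), (792, 411, 1), (1387, 370, 1), (744, 625, 1), (656, 726, 1), (824, 792, 1), (1699, 1387, 1), (156, 656, 1), (1382, 824, 1), (1538, 156, 1)])

/-- An orbit of the five-group. -/
def five53 : ℕ × List (ℕ × ℕ × ℕ) := (107, [(429, 107, 0), (715, 107, 1), (893, 429, 0), (1364, 429, 1), (1636, 715, 1), (774, 893, 0), (1559, 893, 1), (687, 1364, 1), (826, 1636, 1), (380, 774, 0), (510, 774, 1), (1096, 1559, 1), (1520, 687, 1), (440, 826, 1), (619, 380, 1), (306, 510, 1), (855, 1096, 1), (236, 1520, 1), (1274, 619, 1), (1144, 306, 1), (739, 855, 1), (308, 1274, 1), (788, 1144, 1), (1639, 308, 1)])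

/-- An orbit of the five-group. -/
def five54 : ℕ × List (ℕ × ℕ × ℕ) := (108, [(697, 108, 0), (465, 108, 1), (1412, 697, 0), (1229, 697, 1), (615, 465, 1), (1268, 1412, 0), (754, 1412, 1), (583, 1229, 1), (316, 615, 1), (1092, 1268, 0), (190, 1268, 1), (703, 754, 1), (505, 583, 1), (767, 316, 1), (226, 1092, 1), (325, 190, 1), (1232, 703, 1), (1631, 505, 1), (1454, 226, 1), (1725, 325, 1), (972, 1232, 1), (1286, 1454, 1), (483, 1725, 1), (1005, 1286, 1)])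

/-- An orbit of the five-group. -/
def five55 : ℕ × List (ℕ × ℕ × ℕ) := (111, [(228, 111, 0), (1528, 111, 1), (181, 228, 0), (1187, 228, 1), (992, 1528, 1), (1193, 181, 0), (1196, 181, 1), (907, 1187, 1), (1482, 992, 1), (1406, 1193, 0), (1210, 1193, 1), (669, 1196, 1), (1513, 907, 1), (756, 1482, 1), (148, 1406, 1), (1666, 1210, 1), (1323, 669, 1), (1697, 1513, 1), (823, 148, 1), (1427, 1666, 1), (562, 1323, 1), (1579, 823, 1), (1009, 1427, 1), (1120, 1579, 1)])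

/-- An orbit of the five-group. -/
def five56 : ℕ × List (ℕ × ℕ × ℕ) := (112, [(1560, 112, 0), (1124, 112, 1), (811, 1560, 0), (1116, 1560, 1), (871, 1124, 1), (344, 811, 0), (249, 811, 1), (324, 1116, 1), (1477, 871, 1), (800, 344, 0), (160, 344, 1), (704, 249, 1), (269, 324, 1), (1161, 1477, 1), (201, 800, 1), (970, 160, 1), (473, 704, 1), (1313, 269, 1), (1036, 201, 1), (1471, 970, 1), (561, 473, 1), (207, 1036, 1), (330, 1471, 1), (290, 207, 1)])

/-- An orbit of the five-group. -/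
def five57 : ℕ × List (ℕ × ℕ × ℕ) := (113, [(696, 113, 0), (1235, 113, 1), (1093, 696, 0), (1405, 696, 1), (267, 1235, 1), (162, 1093, 0), (1553, 1093, 1), (1500, 1405, 1), (935, 267, 1), (1728, 162, 0), (346, 162, 1), (298, 1553, 1), (1380, 1500, 1), (963, 935, 1), (1616, 1728, 1), (1645, 346, 1), (629, 298, 1), (223, 1380, 1), (766, 1616, 1), (1745, 1645, 1), (224, 629, 1), (397, 766, 1), (758, 1745, 1), (1288, 397, 1)])

/-- An orbit of the five-group. -/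
def five58 : ℕ × List (ℕ × ℕ × ℕ) := (115, [(1130, 115, 0), (554, 115, 1), (311, 1130, 0), (981, 1130, 1), (1002, 554, 1), (280, 311, 0), (1534, 311, 1), (1113, 981, 1), (1088, 1002, 1), (354, 280, 0), (291, 280, 1), (1311, 1534, 1), (260, 1113, 1), (1391, 1088, 1), (273, 354, 1), (1143, 291, 1), (185, 1311, 1), (1057, 260, 1), (1108, 273, 1), (566, 1143, 1), (1125, 185, 1), (685, 1108, 1), (332, 566, 1), (1535, 685, 1)])

/-- An orbit of the five-group. -/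
def five59 : ℕ × List (ℕ × ℕ × ℕ) := (122, [(801, 122, 0), (211, 122, 1), (558, 801, 0), (1204, 801, 1), (974, 211, 1), (1588, 558, 0), (173, 558, 1), (275, 1204, 1), (1309, 974, 1), (1118, 1588, 0), (413, 1588, 1), (1531, 173, 1), (166, 275, 1), (649, 1309, 1), (1463, 1118, 1), (372, 413, 1), (868, 1531, 1), (433, 166, 1), (1265, 1463, 1), (750, 372, 1), (229, 868, 1), (1086, 1265, 1), (1294, 750, 1), (982, 1086, 1)])

/-- An orbit of the five-group. -/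
def five60 : ℕ × List (ℕ × ℕ × ℕ) := (127, [(857, 127, 0), (1003, 127, 1), (239, 857, 0), (1684, 857, 1), (359, 1003, 1), (1419, 239, 0), (1536, 239, 1), (1041, 1684, 1), (204, 359, 1), (1652, 1419, 0), (526, 1419, 1), (1308, 1536, 1), (299, 1041, 1), (1715, 204, 1), (302, 1652, 1), (675, 526, 1), (778, 1308, 1), (690, 299, 1), (1712, 302, 1), (282, 675, 1), (635, 778, 1), (252, 1712, 1), (274, 282, 1), (777, 252, 1)])

/-- An orbit of the five-group. -/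
def five61 : ℕ × List (ℕ × ℕ × ℕ) := (130, [(205, 130, 0), (1713, 130, 1), (420, 205, 0), (984, 205, 1), (863, 1713, 1), (987, 420, 0), (1317, 420, 1), (914, 984, 1), (1369, 863, 1), (768, 987, 0), (606, 987, 1), (1731, 1317, 1), (1225, 914, 1), (514, 1369, 1), (183, 768, 1), (854, 606, 1), (572, 1731, 1), (1251, 1225, 1), (1451, 183, 1), (427, 854, 1), (418, 572, 1), (1735, 1451, 1), (1742, 427, 1), (573, 1735, 1)])

/-- An orbit of the five-group. -/
def five62 : ℕ × List (ℕ × ℕ × ℕ) := (135, [(861, 135, 0), (1013, 135, 1), (1070, 861, 0), (1027, 861, 1), (1654, 1013, 1), (1521, 1070, 0), (576, 1070, 1), (241, 1027, 1), (735, 1654, 1), (1115, 1521, 0), (729, 1521, 1), (323, 576, 1), (1474, 241, 1), (1344, 735, 1), (1388, 1115, 1), (1551, 729, 1), (1599, 323, 1), (1479, 1474, 1), (1340, 1388, 1), (1055, 1551, 1), (338, 1599, 1), (747, 1340, 1), (1326, 1055, 1), (1635, 747, 1)])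

/-- An orbit of the five-group. -/
def five63 : ℕ × List (ℕ × ℕ × ℕ) := (149, [(1137, 149, 0), (1511, 149, 1), (1527, 1137, 1), (1324, 1511, 1)])

/-- An orbit of the five-group. -/
def five64 : ℕ × List (ℕ × ℕ × ℕ) := (153, [(998, 153, 0), (1123, 153, 1), (1183, 998, 0), (957, 998, 1), (542, 1123, 1), (1292, 1183, 0), (1019, 1183, 1), (272, 957, 1), (1476, 542, 1), (938, 1292, 0), (1182, 1292, 1), (759, 1019, 1), (215, 272, 1), (257, 1476, 1), (1495, 938, 1), (725, 1182, 1), (1708, 759, 1), (295, 215, 1), (999, 1495, 1), (396, 725, 1), (1530, 1708, 1), (1178, 999, 1), (659, 396, 1), (748, 1178, 1)])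

/-- An orbit of the five-group. -/
def five65 : ℕ × List (ℕ × ℕ × ℕ) := (158, [(358, 158, 0), (1572, 158, 1), (1441, 358, 0), (1680, 358, 1), (722, 1572, 1), (326, 1441, 0), (806, 1441, 1), (209, 1680, 1), (843, 722, 1), (796, 326, 0), (600, 326, 1), (1576, 806, 1), (1195, 209, 1), (905, 843, 1), (1394, 796, 1), (536, 600, 1), (803, 1576, 1), (1598, 1195, 1), (1446, 1394, 1), (1437, 536, 1), (1245, 803, 1), (343, 1446, 1), (1488, 1437, 1), (547, 343, 1)])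

/-- An orbit of the five-group. -/
def five66 : ℕ × List (ℕ × ℕ × ℕ) := (167, [(426, 167, 0), (1608, 167, 1), (814, 426, 0), (1617, 426, 1), (1200, 1608, 1), (1418, 814, 0), (1065, 814, 1), (1395, 1617, 1), (709, 1200, 1), (1261, 1418, 0), (1004, 1418, 1), (1291, 1065, 1), (498, 1395, 1), (932, 709, 1), (528, 1261, 1), (588, 1004, 1), (1246, 1291, 1), (899, 498, 1), (1470, 528, 1), (375, 588, 1), (1257, 1246, 1), (220, 1470, 1), (263, 375, 1), (1571, 220, 1)])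

/-- An orbit of the five-group. -/
def five67 : ℕ × List (ℕ × ℕ × ℕ) := (168, [(254, 168, 0), (924, 168, 1), (870, 254, 0), (752, 254, 1), (653, 924, 1), (1049, 870, 0), (368, 870, 1), (1304, 752, 1), (607, 653, 1), (835, 1049, 0), (1693, 1049, 1), (836, 368, 1), (1128, 1304, 1), (1605, 607, 1), (284, 835, 1), (1258, 1693, 1), (1271, 836, 1), (1025, 1128, 1), (1724, 284, 1), (1310, 1258, 1), (495, 1271, 1), (491, 1724, 1), (852, 1310, 1), (1644, 491, 1)])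

/-- An orbit of the five-group. -/
def five68 : ℕ × List (ℕ × ℕ × ℕ) := (194, [(1300, 194, 0), (1203, 194, 1), (1493, 1300, 0), (958, 1300, 1), (804, 1203, 1), (795, 1493, 0), (604, 1493, 1), (305, 958, 1), (342, 804, 1), (1570, 795, 0), (895, 795, 1), (550, 604, 1), (531, 305, 1), (472, 342, 1), (654, 1570, 1), (422, 895, 1), (1601, 550, 1), (663, 531, 1), (328, 654, 1), (1438, 422, 1), (523, 1601, 1), (1578, 328, 1), (410, 1438, 1), (1334, 1578, 1)])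

/-- An orbit of the five-group. -/
def five69 : ℕ × List (ℕ × ℕ × ℕ) := (213, [(781, 213, 0), (742, 213, 1), (609, 781, 0), (942, 781, 1), (1063, 742, 1), (1575, 609, 0), (1186, 609, 1), (462, 942, 1), (1494, 1063, 1), (1318, 1575, 0), (1383, 1575, 1), (1222, 1186, 1), (1218, 462, 1), (1132, 1494, 1), (751, 1318, 1), (470, 1383, 1), (401, 1222, 1), (1389, 1218, 1), (408, 751, 1), (1435, 470, 1), (1649, 401, 1), (1280, 408, 1), (1325, 1435, 1), (623, 1280, 1)])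

/-- An orbit of the five-group. -/
def five70 : ℕ × List (ℕ × ℕ × ℕ) := (221, [(1091, 221, 0), (1587, 221, 1), (235, 1091, 0), (866, 1091, 1), (1669, 1587, 1), (1215, 235, 0), (1698, 235, 1), (1201, 866, 1), (584, 1669, 1), (1077, 1215, 0), (683, 1215, 1), (641, 1698, 1), (1188, 1201, 1), (443, 584, 1), (227, 1077, 1), (1744, 683, 1), (610, 641, 1), (1396, 1188, 1), (1087, 227, 1), (596, 1744, 1), (860, 610, 1), (1447, 1087, 1), (1549, 596, 1), (1603, 1447, 1)])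

/-- An orbit of the five-group. -/
def five71 : ℕ × List (ℕ × ℕ × ℕ) := (350, [(1206, 350, 0), (608, 350, 1), (1623, 1206, 0), (1373, 608, 1)])

/-- An orbit of the five-group. -/
def five72 : ℕ × List (ℕ × ℕ × ℕ) := (430, [(1720, 430, 0), (1155, 1720, 0), (1060, 1155, 0), (1611, 1060, 0)])

/-- An orbit of the five-group. -/
def five73 : ℕ × List (ℕ × ℕ × ℕ) := (488, [(1056, 488, 0), (1267, 488, 1), (1648, 1056, 0), (679, 1056, 1)])

/-- An orbit of the five-group. -/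
def five74 : ℕ × List (ℕ × ℕ × ℕ) := (537, [(1035, 537, 0), (845, 1035, 0), (652, 845, 0), (1489, 652, 0)])

/-- The orbits of the five-group. -/
def orbs : List (ℕ × List (ℕ × ℕ × ℕ)) := [five0, five1, five2, five3, five4, five5, five6, five7, five8, five9, five10, five11, five12, five13, five14, five15, five16, five17, five18, five19, five20, five21, five22, five23, five24, five25, five26, five27, five28, five29, five30, five31, five32, five33, five34, five35, five36, five37, five38, five39, five40, five41, five42, five43, five44, five45, five46, five47, five48, five49, five50, five51, five52, five53, five54, five55, five56, five57, five58, five59, five60, five61, five62, five63, five64, five65, five66, five67, five68, five69, five70, five71, five72, five73, five74]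

/-- Words to their first points. -/
def repW : List (List ℕ) := [[], [3], [2, 3], [0, 2, 3], [1, 2, 3], [3, 2, 3], [1, 0, 2, 3], [2, 3, 2, 3], [3, 0, 2, 3], [0, 3, 2, 3], [3, 1, 2, 3], [0, 2, 3, 2, 3], [3, 2, 0, 2, 3], [0, 5, 3], [0, 2, 0, 2, 3], [1, 2, 0, 2, 3], [2, 1, 0, 2, 3], [1, 5, 3], [2, 3, 1, 2, 3], [2, 0, 3, 2, 3], [3, 5, 3], [3, 2, 1, 0, 2, 3], [3, 5, 3, 4, 3], [5, 0, 2, 3], [2, 0, 5, 3], [2, 0, 4, 2, 3], [3, 0, 5, 3], [5, 3, 4, 3], [1, 2, 3, 1, 2, 3], [2, 3, 2, 0, 2, 3], [3, 1, 5, 3], [0, 2, 3, 1, 2, 3], [3, 1, 2, 0, 2, 3], [3, 2, 0, 3, 2, 3], [3, 2, 3, 0, 2, 3], [0, 5, 3, 5, 3], [3, 2, 3, 5, 3], [0, 2, 3, 5, 3], [2, 5, 3, 4, 3], [2, 1, 0, 5, 3], [3, 5, 3, 5, 3], [1, 0, 5, 2, 3], [1, 2, 0, 2, 3, 2, 3], [0, 4, 5, 3], [3, 0, 2, 3, 0, 2, 3], [0, 3, 2, 0, 3, 2, 3], [5, 2, 3, 1, 5, 3], [1, 0, 2, 3, 0, 2, 3], [1, 2, 3, 2, 0, 2, 3], [0, 2, 0, 2, 3, 2, 3], [2, 3, 1, 5, 3], [3, 1, 2, 0, 3, 2, 3], [3,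 2, 3, 0, 2, 0, 2, 3], [1, 2, 1, 0, 2, 3, 2, 3], [4, 3, 1, 2, 0, 2, 3], [3, 1, 2, 3, 5, 3], [3, 2, 3, 1, 5, 3], [0, 2, 4, 3, 5, 2, 3], [5, 0, 5, 3, 5, 3], [0, 2, 4, 3], [4, 5, 3], [0, 3, 2, 0, 2, 3, 2, 3], [0, 2, 3, 2, 1, 0, 2, 3], [3, 1, 5, 3, 5, 3], [0, 3, 5, 2, 3], [1, 2, 0, 2, 3, 1, 2, 3], [1, 2, 3, 0, 5, 3], [2, 0, 2, 3, 5, 3], [5, 3, 2, 4, 3, 4, 3], [0, 5, 3, 1, 2, 3], [3, 4, 5, 0, 5, 3], [1, 4, 5, 3, 1, 2, 3], [5, 0, 5, 4, 3, 1, 2, 3], [4, 3, 5, 3, 4, 5, 2, 3], [4, 2, 3, 1, 5, 3]]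

/-- The orbits of their collinear points. -/
def eqs : List (List ℕ) := [[33, 52, 3, 3, 54, 51, 42, 61, 6, 11], [40, 8, 65, 66, 54, 41, 15, 42, 39, 35], [57, 64, 6, 29, 33, 49, 44, 73, 71, 39], [0, 33, 6, 27, 61, 4, 8, 0, 41, 23], [56, 45, 69, 3, 52, 46, 5, 52, 61, 62], [68, 24, 49, 68, 40, 55, 4, 36, 6, 62], [19, 43, 25, 5, 3, 0, 2, 14, 68, 57], [49, 58, 48, 60, 57, 48, 61, 37, 67, 59], [23, 43, 3, 18, 42, 17, 1, 50, 10, 42], [46, 15, 55, 12, 65, 68, 45, 56, 10, 55], [58, 21, 54, 21, 8, 18, 9, 57, 49, 12], [29, 23, 15, 24, 0, 42, 13, 46, 19, 23], [47, 53, 25, 10, 39, 72, 21, 19, 9, 55], [18, 53, 60, 70, 11, 23, 44, 47, 59, 45], [43, 43, 6, 70, 42, 50, 62, 49, 65, 47], [1, 30, 35, 56, 11, 29, 59, 35, 9, 31], [28, 47, 58, 59, 51, 27, 46, 53, 70, 44], [62, 30, 38, 69, 42, 8, 41, 39, 22, 54], [24, 8, 48, 60, 64, 22, 60, 10, 13, 46], [25, 24, 33, 37, 6, 25, 53, 11, 27, 12], [56, 51, 50, 30, 66, 37, 48, 25,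 37, 28], [10, 55, 57, 49, 41, 28, 42, 12, 10, 60], [26, 17, 52, 18, 66, 69, 47, 69, 64, 31], [3, 13, 8, 35, 11, 46, 25, 11, 29, 67], [67, 5, 30, 67, 11, 19, 48, 36, 66, 18], [12, 33, 47, 23, 51, 20, 6, 19, 67, 19], [37, 56, 50, 22, 35, 55, 33, 57, 52, 56], [16, 37, 51, 65, 3, 41, 45, 19, 64, 51], [21, 58, 41, 38, 45, 58, 48, 16, 29, 20], [62, 28, 58, 15, 71, 2, 35, 38, 11, 23], [20, 40, 37, 39, 15, 35, 24, 65, 17, 67], [15, 36, 59, 22, 33, 32, 57, 41, 47, 32], [31, 69, 33, 54, 35, 70, 57, 53, 36, 31], [0, 25, 3, 56, 49, 2, 31, 19, 26, 32], [44, 44, 36, 44, 36, 44, 36, 36, 36, 44], [26, 30, 55, 15, 70, 32, 29, 15, 1, 23], [31, 24, 41, 44, 68, 67, 54, 5, 34, 32], [30, 50, 20, 20, 27, 19, 7, 26, 66, 58], [66, 29, 62, 17, 52, 68, 53, 28, 62, 43], [2, 66, 44, 72, 61, 63, 30, 1, 12, 17], [64, 59, 51, 1, 30, 65, 55, 43, 65, 5], [17, 28, 54, 36, 3, 27, 54, 21, 31, 1], [11, 17, 0, 50, 1, 8, 60, 8, 14, 21], [14,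 53, 49, 40, 6, 14, 50, 38, 59, 8], [45, 34, 13, 2, 50, 74, 46, 36, 39, 16], [51, 52, 27, 44, 55, 9, 28, 4, 13, 58], [44, 60, 16, 52, 55, 9, 11, 18, 4, 23], [13, 22, 53, 12, 14, 62, 53, 31, 25, 16], [18, 28, 24, 7, 61, 70, 7, 20, 49, 57], [7, 68, 48, 2, 43, 14, 10, 5, 33, 21], [43, 42, 8, 26, 44, 74, 20, 14, 37, 56], [45, 64, 27, 16, 54, 0, 20, 40, 27, 25], [22, 0, 26, 38, 4, 45, 46, 61, 68, 4], [16, 47, 47, 69, 19, 12, 38, 13, 32, 43], [36, 51, 32, 41, 41, 17, 58, 0, 1, 10], [26, 5, 35, 46, 21, 12, 9, 40, 9, 45], [15, 26, 9, 26, 4, 69, 20, 57, 33, 50], [10, 6, 21, 48, 31, 32, 56, 2, 7, 26], [29, 7, 62, 16, 28, 45, 54, 37, 28, 10], [31, 43, 15, 70, 61, 7, 70, 40, 13, 16], [18, 69, 46, 13, 42, 21, 67, 64, 18, 7], [7, 3, 59, 63, 52, 0, 48, 4, 39, 70], [66, 58, 38, 17, 4, 5, 14, 29, 38, 47], [61, 61, 39, 61, 39, 61, 61, 39, 39, 39], [22, 51, 18, 73, 65, 27, 69, 40, 2, 60], [64, 14, 27, 40, 30, 40, 9, 70, 1,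 68], [37, 39, 20, 24, 62, 38, 22, 1, 67, 69], [68, 7, 36, 24, 24, 30, 23, 60, 66, 25], [49, 9, 5, 36, 52, 38, 6, 65, 67, 5], [64, 22, 60, 56, 53, 32, 66, 17, 4, 22], [16, 48, 59, 13, 65, 14, 32, 61, 59, 35], [29, 2, 2, 29, 29, 2, 29, 29, 2, 2], [39, 39, 12, 39, 39, 12, 39, 12, 12, 12], [64, 64, 2, 64, 64, 2, 2, 2, 2, 64], [44, 44, 50, 50, 44, 50, 50, 50, 44, 44]]

/-- A part of the search. -/
def cert1 : SuzRec.STree := (.node 62 (.node 69 (.node 47 (.node 18 (.bad 22) (.node 31 (.bad 22) (.node 53 (.node 28 (.bad 38) (.node 43 (.bad 38) (.node 5 (.node 56 (.bad 4) (.node 32 (.node 15 (.bad 31) (.node 19 (.bad 53) (.node 25 (.node 11 (.bad 19) (.node 14 (.bad 6) (.node 8 (.node 20 (.node 9 (.bad 56) (.node 23 (.bad 3) (.bad 29))) (.bad 50)) (.bad 50)))) (.bad 33)))) (.bad 69))) (.node 9 (.node 14 (.node 8 (.bad 43) (.node 25 (.bad 47) (.node 19 (.node 10 (.bad 12) (.node 7 (.node 20 (.bad 25) (.node 21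 (.bad 12) (.bad 49))) (.bad 49))) (.bad 6)))) (.bad 62)) (.bad 68))))) (.bad 47)))) (.node 5 (.node 14 (.node 19 (.bad 6) (.node 25 (.bad 6) (.node 32 (.node 43 (.bad 6) (.bad 53)) (.bad 53)))) (.bad 62)) (.bad 62))) (.node 5 (.node 18 (.node 31 (.node 47 (.node 56 (.node 9 (.node 15 (.node 19 (.bad 33) (.node 20 (.node 25 (.bad 33) (.node 32 (.bad 33) (.node 35 (.bad 15) (.node 41 (.node 8 (.bad 3) (.node 11 (.node 23 (.bad 3) (.node 24 (.node 7 (.bad 48) (.node 27 (.bad 3) (.node 37 (.bad 37) (.node 28 (.node 42 (.bad 8) (.bad 11)) (.bad 20))))) (.bad 11))) (.bad 23))) (.bad 31))))) (.bad 56))) (.bad 56)) (.bad 56)) (.bad 4)) (.bad 22)) (.bad 22)) (.bad 22)) (.bad 4))) (.node 5 (.node 24 (.node 28 (.node 40 (.node 43 (.node 14 (.bad 6) (.node 8 (.node 19 (.bad 6) (.node 23 (.bad 3) (.node 11 (.bad 23) (.node 15 (.node 25 (.bad 6) (.node 27 (.bad 3) (.node 20 (.node 7 (.bad 48) (.node 31 (.node 35 (.bad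 30) (.bad 29)) (.bad 47))) (.bad 37)))) (.bad 29))))) (.bad 43))) (.bad 38)) (.bad 5)) (.bad 38)) (.bad 5)) (.bad 4)))

/-- A part of the search. -/
def cert2 : SuzRec.STree := (.node 62 (.node 38 (.node 56 (.bad 4) (.node 69 (.bad 4) (.node 68 (.node 19 (.bad 6) (.node 22 (.bad 52) (.node 25 (.bad 6) (.node 26 (.bad 26) (.node 8 (.node 9 (.node 15 (.node 18 (.node 20 (.node 21 (.bad 10) (.node 31 (.node 32 (.node 24 (.bad 36) (.node 35 (.node 11 (.bad 15) (.node 23 (.bad 11) (.node 7 (.node 27 (.node 28 (.bad 29) (.node 37 (.node 40 (.bad 30) (.node 41 (.bad 3) (.node 42 (.node 10 (.bad 8) (.node 47 (.node 48 (.node 51 (.node 53 (.node 54 (.bad 0) (.node 55 (.node 58 (.bad 10) (.node 59 (.bad 15) (.node 60 (.node 65 (.bad 1) (.node 67 (.bad 7) (.node 70 (.bad 13) .sol))) (.bad 18)))) (.bad 5))) (.bad 12)) (.bad 20)) (.bad 18)) (.bad 12))) (.bad 8)))) (.bad 19))) (.bad 19)) (.bad 67)))) (.bad 26))) (.bad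 33)) (.bad 22))) (.bad 50)) (.bad 22)) (.bad 56)) (.bad 56)) (.bad 50)))))) (.node 9 (.bad 68) (.node 24 (.node 26 (.node 22 (.bad 52) (.bad 26)) (.bad 56)) (.bad 5)))))) (.bad 62)) (.node 28 (.node 38 (.bad 38) (.node 47 (.node 53 (.node 58 (.node 27 (.bad 16) (.node 51 (.bad 16) (.node 9 (.node 55 (.node 10 (.bad 12) (.node 19 (.bad 12) (.node 21 (.bad 10) (.node 7 (.node 25 (.bad 12) (.node 22 (.node 31 (.node 32 (.node 15 (.bad 31) (.node 26 (.bad 33) (.node 20 (.node 18 (.bad 48) (.node 24 (.bad 48) (.node 11 (.node 23 (.node 35 (.bad 15) (.node 37 (.node 40 (.node 41 (.bad 31) (.node 8 (.node 42 (.node 48 (.node 54 (.bad 0) (.node 56 (.bad 15) (.node 59 (.bad 7) (.node 60 (.bad 7) (.node 65 (.node 67 (.bad 7) (.node 68 (.node 69 (.node 70 (.bad 13) .sol) (.bad 4)) (.bad 5))) (.bad 1)))))) (.bad 28)) (.bad 8)) (.bad 3))) (.bad 5)) (.bad 19))) (.bad 11)) (.bad 19)))) (.bad 37)))) (.bad 53)) (.bad 47))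 (.bad 47))) (.bad 49))))) (.bad 45)) (.bad 45)))) (.bad 62)) (.bad 38)) (.bad 62))) (.bad 38)))

/-- A part of the search. -/
def cert3 : SuzRec.STree := (.node 68 (.node 9 (.node 22 (.bad 52) (.node 24 (.bad 5) (.node 26 (.bad 52) (.node 40 (.bad 5) (.node 55 (.bad 5) (.node 56 (.node 15 (.node 20 (.node 65 (.node 10 (.bad 9) (.node 60 (.node 67 (.node 35 (.bad 30) (.node 21 (.node 8 (.bad 10) (.node 18 (.bad 10) (.node 11 (.node 14 (.bad 42) (.node 19 (.bad 24) (.node 23 (.bad 29) (.bad 11)))) (.bad 46)))) (.bad 55))) (.bad 68)) (.bad 18))) (.bad 68)) (.bad 56)) (.bad 56)) (.bad 26))))))) (.bad 68)) (.node 22 (.node 26 (.bad 52) (.node 69 (.node 8 (.bad 17) (.node 20 (.bad 66) (.node 9 (.node 15 (.node 24 (.bad 66) (.node 37 (.bad 66) (.node 14 (.node 40 (.node 27 (.bad 65) (.node 7 (.node 19 (.node 11 (.node 23 (.bad 11) (.bad 3)) (.bad 19)) (.bad 37)) (.bad 37))) (.bad 5)) (.bad 50)))) (.bad 56)) (.bad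 56)))) (.bad 22))) (.node 26 (.node 56 (.node 19 (.bad 33) (.node 25 (.bad 33) (.node 14 (.node 31 (.bad 33) (.node 32 (.bad 33) (.node 24 (.node 41 (.node 43 (.node 8 (.bad 50) (.node 20 (.bad 50) (.node 37 (.bad 50) (.node 35 (.node 42 (.bad 8) (.node 53 (.node 28 (.bad 38) (.node 40 (.bad 43) (.node 27 (.node 11 (.bad 19) (.node 18 (.node 10 (.bad 8) (.node 7 (.node 21 (.bad 21) (.node 9 (.node 15 (.node 23 (.bad 3) (.node 47 (.node 48 (.node 51 (.node 54 (.node 55 (.node 58 (.bad 10) (.node 59 (.bad 15) (.node 60 (.node 65 (.bad 1) (.node 67 (.node 69 (.bad 4) (.node 70 (.bad 13) .sol)) (.bad 7))) (.bad 7)))) (.bad 5)) (.bad 0)) (.bad 0)) (.bad 18)) (.bad 12))) (.bad 15)) (.bad 12))) (.bad 58))) (.bad 24))) (.bad 51)))) (.bad 47))) (.bad 26))))) (.bad 6)) (.bad 36)) (.bad 36)))) (.bad 6)))) (.bad 26)) (.bad 52))))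

/-- A part of the search. -/
def cert4 : SuzRec.STree := (.node 5 (.node 14 (.node 19 (.bad 6) (.node 25 (.bad 6) (.node 43 (.bad 6) (.node 68 (.bad 6) (.node 24 (.node 40 (.node 8 (.bad 43) (.node 38 (.bad 43) (.node 22 (.node 26 (.node 9 (.bad 55) (.node 47 (.node 53 (.bad 43) (.node 10 (.node 21 (.node 7 (.bad 49) (.node 28 (.node 31 (.node 27 (.bad 41) (.node 11 (.node 20 (.node 23 (.node 15 (.bad 11) (.node 18 (.bad 8) (.node 32 (.bad 33) (.node 35 (.bad 15) (.node 37 (.node 41 (.node 42 (.bad 8) (.bad 42)) (.bad 3)) (.bad 19)))))) (.bad 3)) (.bad 37)) (.bad 19))) (.bad 47)) (.bad 38))) (.bad 10)) (.bad 12))) (.bad 53))) (.bad 52)) (.bad 52)))) (.bad 5)) (.bad 5)))))) (.node 43 (.node 19 (.bad 6) (.node 25 (.bad 6) (.node 68 (.bad 6) (.node 24 (.node 40 (.node 55 (.node 62 (.node 38 (.node 9 (.bad 68) (.node 42 (.bad 14) (.node 47 (.bad 14) (.node 10 (.node 15 (.bad 9) (.node 21 (.node 7 (.bad 49)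 (.node 8 (.bad 42) (.node 18 (.bad 8) (.node 11 (.node 23 (.bad 8) (.bad 11)) (.bad 46))))) (.bad 12))) (.bad 12))))) (.bad 62)) (.bad 5)) (.bad 5)) (.bad 5)) (.bad 5))))) cert2)) (.node 38 (.node 62 cert3 (.node 28 (.node 43 (.node 53 (.node 56 (.node 68 (.node 9 (.node 14 (.bad 6) (.node 19 (.bad 6) (.node 22 (.bad 52) (.node 25 (.bad 6) (.node 26 (.bad 52) (.node 15 (.node 20 (.node 31 (.node 32 (.bad 33) (.node 35 (.bad 15) (.node 41 (.node 47 (.bad 47) (.bad 31)) (.bad 31)))) (.bad 47)) (.bad 56)) (.bad 56))))))) (.bad 68)) (.bad 38)) (.bad 4)) (.bad 38)) (.bad 38)) (.bad 38))) (.node 9 (.node 14 (.node 47 (.node 58 (.node 62 (.bad 62) (.node 56 (.node 65 (.node 67 (.node 68 (.bad 68) (.node 22 (.node 24 (.node 26 (.node 19 (.bad 33) (.node 25 (.bad 33) (.node 28 (.node 31 (.bad 33) (.node 32 (.bad 31) (.node 40 (.node 15 (.bad 30) (.node 20 (.bad 30) (.node 21 (.bad 55) (.node 27 (.bad 65) (.node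 7 (.node 18 (.bad 48) (.node 11 (.node 8 (.bad 23) (.node 10 (.bad 10) (.node 23 (.node 35 (.bad 15) (.node 37 (.bad 20) (.node 41 (.node 42 (.bad 8) (.node 43 (.node 48 (.node 51 (.bad 20) (.node 53 (.node 54 (.node 55 (.node 59 (.bad 7) (.node 60 (.bad 7) (.node 69 (.node 70 (.bad 13) .sol) (.bad 4)))) (.bad 5)) (.bad 0)) (.bad 12))) (.bad 24)) (.bad 6))) (.bad 3)))) (.bad 3)))) (.bad 24))) (.bad 37)))))) (.bad 5)))) (.bad 38)))) (.bad 52)) (.bad 5)) (.bad 52))) (.bad 68)) (.bad 68)) (.bad 4))) (.bad 62)) (.bad 62)) (.bad 62)) (.bad 68))))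

/-- A part of the search. -/
def cert5 : SuzRec.STree := (.node 4 (.node 52 (.node 7 (.bad 61) (.node 48 (.bad 61) (.node 59 (.bad 61) (.node 70 (.bad 61) (.node 5 (.node 56 (.bad 4) (.node 62 (.bad 4) (.node 38 (.bad 62) (.node 69 (.bad 4) (.node 43 (.node 14 (.bad 6) (.bad 43)) (.node 14 (.bad 14) (.node 8 (.node 10 (.node 15 (.node 21 (.node 11 (.bad 42) (.node 9 (.node 18 (.bad 10) (.node 20 (.bad 56) (.bad 48))) (.bad 15))) (.bad 49)) (.bad 59)) (.bad 49)) (.bad 43)))))))) (.node 68 (.node 22 (.bad 52) (.node 24 (.bad 5) (.node 18 (.node 8 (.node 10 (.node 20 (.node 23 (.bad 3) (.node 11 (.bad 23) (.node 25 (.node 14 (.bad 6) (.node 19 (.bad 6) (.node 15 (.node 21 (.node 9 (.bad 10) (.node 26 (.bad 52) (.node 27 (.bad 3) (.node 28 (.node 31 (.node 32 (.bad 33) (.bad 31)) (.bad 15)) (.bad 48))))) (.bad 49)) (.bad 11)))) (.bad 67)))) (.bad 48)) (.bad 18)) (.bad 18)) (.bad 48)))) (.node 10 (.node 14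 (.node 21 (.node 8 (.bad 42) (.node 42 (.bad 8) (.node 11 (.bad 42) (.node 43 (.node 18 (.bad 8) (.node 19 (.bad 6) (.bad 24))) (.bad 14))))) (.bad 49)) (.bad 49)) (.bad 49)))))))) (.node 22 (.bad 52) (.node 26 (.bad 52) (.node 38 (.bad 52) (.node 68 (.bad 52) cert1))))) (.node 52 (.node 5 (.bad 4) (.node 56 (.bad 4) (.node 62 (.bad 4) (.node 69 (.bad 4) (.node 22 (.node 38 (.node 47 (.node 14 (.bad 62) (.node 53 (.node 32 (.bad 69) (.node 58 (.bad 62) (.node 60 (.bad 69) (.node 26 (.node 68 (.bad 52) (.node 24 (.node 28 (.node 40 (.node 43 (.node 19 (.bad 53) (.node 25 (.bad 19) (.bad 6))) (.bad 38)) (.bad 5)) (.bad 38)) (.bad 5))) (.node 9 (.node 15 (.node 18 (.node 20 (.node 31 (.node 25 (.bad 47) (.node 19 (.bad 25) (.bad 33))) (.bad 22)) (.bad 56)) (.bad 22)) (.bad 56)) (.bad 56)))))) (.bad 47))) (.node 18 (.node 26 (.node 31 (.node 19 (.bad 33) (.node 25 (.bad 33) (.node 32 (.bad 33) (.bad 53))))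 (.bad 22)) (.bad 22)) (.bad 22))) (.node 14 (.node 26 (.node 47 (.node 58 (.node 68 (.node 9 (.node 15 (.bad 56) (.node 19 (.bad 6) (.node 20 (.bad 56) (.node 24 (.node 25 (.bad 6) (.node 37 (.node 7 (.node 23 (.bad 67) (.node 11 (.bad 11) (.bad 29))) (.bad 37)) (.bad 66))) (.bad 66))))) (.bad 68)) (.bad 52)) (.bad 62)) (.bad 62)) (.bad 52)) (.bad 62))) (.node 26 (.node 32 (.node 19 (.bad 33) (.node 25 (.bad 33) (.node 31 (.bad 33) (.node 14 (.node 35 (.node 37 (.node 38 (.node 47 (.bad 47) (.node 18 (.node 43 (.node 8 (.bad 50) (.node 10 (.bad 8) (.node 9 (.node 15 (.bad 56) (.node 11 (.bad 15) (.node 20 (.bad 50) (.node 7 (.node 21 (.bad 10) (.bad 12)) (.bad 37))))) (.bad 12)))) (.bad 14)) (.bad 22))) (.bad 52)) (.bad 26)) (.bad 26)) (.bad 47))))) (.bad 69)) (.bad 52))))))) cert4))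

/-- A part of the search. -/
def cert6 : SuzRec.STree := (.node 18 (.node 10 (.bad 8) (.node 21 (.bad 10) (.node 11 (.node 14 (.node 32 (.node 43 (.bad 8) (.node 51 (.node 52 (.bad 0) (.node 5 (.node 22 (.bad 52) (.node 24 (.node 26 (.bad 52) (.node 31 (.bad 36) (.node 7 (.node 20 (.bad 48) (.node 19 (.node 15 (.bad 11) (.node 9 (.node 25 (.bad 6) (.bad 51)) (.bad 56))) (.bad 37))) (.bad 57)))) (.bad 18))) (.bad 4))) (.bad 54))) (.bad 54)) (.bad 42)) (.bad 42)))) (.node 21 (.node 28 (.bad 41) (.node 10 (.node 31 (.bad 41) (.node 43 (.bad 8) (.node 11 (.node 51 (.node 52 (.bad 0) (.node 5 (.node 22 (.bad 52) (.node 26 (.bad 52) (.node 38 (.bad 52) (.node 47 (.node 53 (.node 9 (.bad 12) (.node 19 (.bad 12) (.node 15 (.node 20 (.node 24 (.node 25 (.bad 12) (.bad 33)) (.bad 11)) (.bad 37)) (.bad 11)))) (.bad 47)) (.bad 22))))) (.bad 4))) (.node 19 (.node 32 (.node 37 (.node 52 (.node 58 (.node 9 (.bad 10)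 (.node 20 (.bad 28) (.node 7 (.node 26 (.bad 57) (.bad 37)) (.bad 37)))) (.bad 54)) (.bad 0)) (.bad 27)) (.bad 54)) (.bad 27))) (.node 14 (.node 25 (.node 35 (.node 51 (.node 52 (.node 60 (.node 22 (.bad 18) (.node 24 (.bad 18) (.node 7 (.node 5 (.bad 49) (.node 32 (.node 26 (.bad 57) (.node 15 (.node 19 (.bad 11) (.node 20 (.node 40 (.bad 1) (.node 9 (.node 47 (.bad 12) (.bad 25)) (.bad 55))) (.bad 25))) (.bad 35))) (.bad 36))) (.bad 48)))) (.bad 42)) (.bad 0)) (.bad 0)) (.bad 23)) (.bad 23)) (.bad 42))))) (.bad 21))) (.node 9 (.node 10 (.bad 10) (.node 11 (.node 14 (.node 32 (.node 43 (.node 51 (.node 52 (.bad 0) (.node 5 (.node 19 (.bad 6) (.node 15 (.node 22 (.bad 52) (.node 24 (.node 25 (.bad 6) (.node 20 (.node 26 (.bad 50) (.node 31 (.bad 36) (.bad 33))) (.bad 51))) (.bad 11))) (.bad 11))) (.bad 4))) (.bad 54)) (.bad 8)) (.bad 54)) (.bad 42)) (.bad 42))) (.bad 10))))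

/-- A part of the search. -/
def cert7 : SuzRec.STree := (.node 23 (.node 27 (.bad 3) (.node 41 (.bad 3) (.node 42 (.node 10 (.bad 8) (.node 15 (.bad 11) (.node 18 (.bad 8) (.node 19 (.bad 11) (.node 24 (.bad 11) (.node 43 (.bad 8) (.node 14 (.node 25 (.node 37 (.bad 19) (.node 40 (.bad 43) (.node 20 (.node 35 (.node 9 (.bad 15) (.node 21 (.node 26 (.node 7 (.bad 37) (.node 28 (.bad 29) (.bad 21))) (.bad 55)) (.bad 10))) (.bad 1)) (.bad 30)))) (.bad 6)) (.bad 6)))))))) (.node 51 (.node 54 (.node 15 (.node 19 (.bad 11) (.node 24 (.bad 11) (.node 28 (.bad 29) (.node 10 (.node 35 (.bad 29) (.node 25 (.node 26 (.bad 35) (.node 9 (.node 18 (.bad 46) (.node 7 (.node 20 (.node 21 (.node 14 (.bad 42) (.node 22 (.node 31 (.bad 41) (.node 32 (.bad 31) (.bad 33))) (.bad 52))) (.bad 10)) (.bad 37)) (.bad 48))) (.bad 55))) (.bad 23))) (.bad 21))))) (.node 35 (.node 9 (.bad 15) (.node 26 (.node 28 (.bad 29) (.node 10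 (.node 21 (.node 14 (.bad 42) (.node 31 (.bad 15) (.node 40 (.node 55 (.node 18 (.bad 46) (.node 43 (.node 53 (.node 19 (.bad 12) (.node 24 (.node 25 (.bad 12) (.bad 6)) (.bad 11))) (.bad 43)) (.bad 8))) (.bad 21)) (.bad 1)))) (.bad 10)) (.bad 21))) (.bad 56))) (.bad 1))) (.bad 0)) (.bad 0))))) (.node 42 (.node 41 (.node 27 (.bad 3) (.node 54 (.node 22 (.bad 17) (.node 26 (.node 51 (.bad 0) (.node 62 (.bad 17) (.node 68 (.node 69 (.bad 17) (.node 18 (.node 10 (.bad 8) (.node 21 (.bad 10) (.node 14 (.node 24 (.node 28 (.node 7 (.bad 48) (.node 31 (.bad 22) (.bad 41))) (.bad 41)) (.bad 18)) (.bad 42)))) (.bad 64))) (.bad 52)))) (.bad 52))) (.bad 41))) (.node 27 (.node 51 (.node 54 (.bad 0) (.node 67 (.node 25 (.bad 23) (.node 19 (.bad 25) (.node 14 (.node 15 (.node 24 (.node 35 (.bad 23) (.node 37 (.bad 19) (.bad 27))) (.bad 11)) (.bad 11)) (.bad 6)))) (.node 24 (.node 18 (.node 10 (.bad 8) (.node 19 (.node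 15 (.bad 11) (.node 25 (.bad 19) (.node 20 (.bad 25) (.node 26 (.node 31 (.node 22 (.node 32 (.bad 33) (.bad 31)) (.bad 22)) (.bad 36)) (.bad 56))))) (.bad 24))) (.bad 24)) (.bad 36)))) (.bad 27)) (.bad 3))) (.node 10 (.node 15 (.node 18 (.node 19 (.node 24 (.node 43 (.node 47 (.bad 53) (.node 51 (.node 41 (.bad 54) (.node 27 (.node 25 (.bad 19) (.node 20 (.bad 25) (.node 54 (.node 21 (.bad 41) (.node 9 (.node 28 (.bad 41) (.node 31 (.bad 41) (.node 40 (.bad 51) (.node 14 (.node 35 (.node 55 (.bad 45) (.node 26 (.bad 55) (.node 22 (.node 32 (.bad 31) (.bad 33)) (.bad 52)))) (.bad 1)) (.bad 43))))) (.bad 10))) (.bad 0)))) (.bad 3))) (.bad 0))) (.bad 8)) (.bad 11)) (.bad 11)) (.bad 8)) (.bad 11)) (.bad 8))))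

/-- A part of the search. -/
def cert8 : SuzRec.STree := (.node 5 (.node 56 (.bad 4) (.node 62 (.bad 4) (.node 68 (.node 69 (.bad 4) (.node 22 (.node 38 (.node 9 (.bad 68) (.node 14 (.bad 62) (.node 26 (.bad 52) (.bad 56)))) (.node 26 (.node 8 (.node 23 (.bad 3) (.node 27 (.bad 3) (.node 41 (.bad 3) (.node 42 (.node 54 (.node 32 (.node 24 (.bad 36) (.node 20 (.node 9 (.bad 56) (.node 14 (.bad 50) (.node 15 (.bad 56) (.node 11 (.bad 11) (.bad 29))))) (.bad 66))) (.node 10 (.node 47 (.node 51 (.node 11 (.bad 0) (.node 15 (.node 9 (.bad 56) (.node 18 (.node 19 (.bad 11) (.node 20 (.bad 56) (.node 7 (.node 14 (.bad 49) (.node 21 (.bad 10) (.node 24 (.bad 11) (.bad 66)))) (.bad 37)))) (.bad 46))) (.bad 29))) (.bad 54)) (.bad 53)) (.bad 54))) (.bad 17)) (.bad 8))))) (.node 41 (.node 23 (.bad 3) (.node 27 (.bad 3) (.node 42 (.node 54 (.node 24 (.bad 36) (.node 20 (.node 9 (.bad 56) (.node 15 (.bad 56) (.node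 11 (.bad 11) (.bad 29)))) (.bad 66))) (.bad 17)) (.bad 17)))) (.bad 17))) (.bad 52))) (.node 26 (.node 32 (.node 35 (.node 9 (.bad 55) (.node 37 (.node 38 (.node 14 (.bad 62) (.node 47 (.bad 62) (.node 53 (.node 19 (.node 25 (.bad 6) (.node 31 (.bad 33) (.bad 47))) (.bad 53)) (.bad 47)))) (.bad 52)) (.bad 26))) (.bad 26)) (.bad 69)) (.bad 52)))) (.bad 5)))) (.node 38 (.node 11 (.node 8 (.node 14 (.bad 42) (.node 21 (.bad 42) (.node 23 (.bad 3) (.node 25 (.bad 23) (.node 19 (.node 27 (.bad 3) (.node 24 (.node 35 (.bad 23) (.node 9 (.node 37 (.node 41 (.bad 3) (.node 42 (.node 15 (.bad 11) (.node 43 (.node 20 (.bad 50) (.node 7 (.node 26 (.bad 50) (.bad 37)) (.bad 37))) (.bad 6))) (.bad 8))) (.bad 19)) (.bad 55))) (.bad 19))) (.bad 6)))))) cert7) (.node 42 (.node 23 (.bad 11) (.node 51 (.node 54 (.node 8 (.node 22 (.bad 17) (.node 26 (.node 27 (.bad 3) (.node 41 (.bad 3) (.node 62 (.bad 17) (.node 68 (.node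 69 (.bad 17) (.node 56 (.node 14 (.bad 50) (.node 20 (.bad 50) (.node 9 (.node 15 (.node 19 (.bad 11) (.node 7 (.node 21 (.bad 10) (.node 24 (.bad 11) (.bad 66))) (.bad 37))) (.bad 56)) (.bad 56)))) (.bad 4))) (.bad 52))))) (.bad 52))) (.node 14 (.node 21 (.node 25 (.node 27 (.bad 51) (.node 35 (.node 41 (.node 10 (.bad 54) (.node 9 (.bad 10) (.node 15 (.bad 1) (.node 18 (.bad 10) (.bad 46))))) (.bad 3)) (.bad 23))) (.bad 23)) (.bad 42)) (.bad 42))) (.bad 0)) (.bad 0))) (.bad 0))) (.node 14 (.node 22 (.node 26 (.node 47 (.node 58 (.node 62 (.bad 62) (.node 68 (.node 9 (.node 40 (.bad 65) (.node 65 (.node 67 (.node 69 (.bad 22) (.node 56 (.node 32 (.bad 69) (.node 35 (.bad 26) (.node 37 (.bad 26) (.node 20 (.bad 37) (.bad 66))))) (.bad 4))) (.bad 68)) (.bad 68))) (.bad 68)) (.bad 52))) (.bad 62)) (.bad 62)) (.bad 52)) (.bad 52)) (.bad 62))))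

/-- A part of the search. -/
def cert9 : SuzRec.STree := (.node 4 (.node 8 (.bad 3) (.node 23 (.bad 3) (.node 27 (.bad 3) (.node 41 (.bad 3) (.node 42 (.node 54 cert6 (.node 11 (.node 21 (.node 28 (.node 31 (.node 51 (.node 20 (.node 25 (.node 35 (.bad 23) (.node 15 (.node 26 (.bad 56) (.node 37 (.bad 20) (.node 40 (.node 52 (.node 9 (.bad 45) (.node 5 (.node 55 (.bad 45) (.node 10 (.node 18 (.bad 8) (.bad 10)) (.bad 21))) (.bad 55))) (.bad 0)) (.bad 1)))) (.bad 1))) (.bad 51)) (.bad 51)) (.bad 0)) (.bad 41)) (.bad 41)) (.bad 41)) (.bad 0))) (.node 10 (.node 11 (.node 15 (.node 18 (.node 19 (.node 24 (.node 43 (.node 51 (.node 37 (.bad 27) (.node 25 (.node 5 (.bad 6) (.node 14 (.bad 6) (.node 20 (.node 7 (.bad 37) (.node 26 (.bad 37) (.bad 50))) (.bad 50)))) (.bad 19))) (.bad 0)) (.bad 8)) (.bad 11)) (.bad 11)) (.bad 8)) (.bad 11)) (.bad 0)) (.bad 8))))))) (.node 52 cert8 (.node 11 (.node 42 (.node 51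 (.node 54 (.node 8 (.node 14 (.bad 42) (.node 21 (.bad 42) (.node 23 (.bad 3) (.node 25 (.bad 23) (.node 27 (.bad 3) (.node 20 (.node 19 (.bad 25) (.node 5 (.node 15 (.node 24 (.node 35 (.bad 1) (.node 40 (.bad 1) (.bad 51))) (.bad 11)) (.bad 11)) (.bad 6))) (.bad 51))))))) (.node 41 (.node 10 (.bad 54) (.node 23 (.bad 3) (.node 27 (.bad 3) (.node 19 (.bad 27) (.node 15 (.node 24 (.node 25 (.bad 19) (.node 20 (.node 32 (.bad 54) (.node 26 (.node 9 (.bad 56) (.node 18 (.node 7 (.bad 48) (.node 21 (.bad 10) (.bad 12))) (.bad 46))) (.bad 33))) (.bad 51))) (.bad 11)) (.bad 11)))))) (.node 10 (.node 18 (.bad 8) (.node 21 (.node 23 (.bad 8) (.node 9 (.node 27 (.bad 41) (.bad 3)) (.bad 46))) (.bad 10))) (.node 32 (.node 58 (.node 21 (.bad 10) (.node 14 (.node 60 (.node 23 (.node 15 (.bad 11) (.node 18 (.bad 8) (.node 7 (.node 9 (.node 19 (.bad 11) (.node 24 (.bad 11) (.node 27 (.bad 3) (.node 35 (.bad 15) (.node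 25 (.node 37 (.bad 19) (.node 20 (.bad 37) (.bad 30))) (.bad 23)))))) (.bad 10)) (.bad 60)))) (.node 27 (.node 20 (.bad 51) (.node 25 (.bad 51) (.node 28 (.bad 41) (.node 7 (.node 31 (.bad 41) (.node 37 (.node 40 (.bad 51) (.node 48 (.bad 7) (.node 26 (.node 19 (.bad 37) (.node 9 (.node 15 (.node 18 (.bad 10) (.node 22 (.bad 31) (.node 24 (.bad 19) (.bad 11)))) (.bad 11)) (.bad 12))) (.bad 57)))) (.bad 58))) (.bad 58))))) (.bad 3))) (.bad 42)) (.bad 42))) (.bad 54)) (.bad 54))))) (.bad 0)) (.bad 0)) (.bad 0)) (.bad 0))))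

/-- A part of the search. -/
def cert10 : SuzRec.STree := (.node 23 (.node 42 (.node 10 (.bad 8) (.node 15 (.bad 11) (.node 18 (.bad 8) (.node 19 (.bad 11) (.node 24 (.bad 11) (.node 43 (.bad 8) (.node 47 (.node 51 (.bad 0) (.node 41 (.node 27 (.bad 3) (.node 25 (.node 20 (.node 54 (.bad 0) (.node 21 (.node 9 (.bad 10) (.node 28 (.node 31 (.node 40 (.node 14 (.bad 43) (.node 35 (.bad 1) (.node 55 (.node 26 (.node 22 (.bad 52) (.node 32 (.bad 33) (.bad 31))) (.bad 55)) (.bad 45)))) (.bad 51)) (.bad 41)) (.bad 41))) (.bad 41))) (.bad 25)) (.bad 19))) (.bad 54))) (.bad 53)))))))) (.node 41 (.node 27 (.bad 3) (.node 51 (.bad 27) (.node 54 (.node 67 (.node 24 (.bad 36) (.node 18 (.bad 24) (.node 10 (.node 19 (.bad 24) (.node 15 (.node 25 (.node 20 (.node 26 (.bad 56) (.node 31 (.bad 36) (.node 22 (.bad 22) (.node 32 (.bad 31) (.bad 33))))) (.bad 25)) (.bad 19)) (.bad 11))) (.bad 8)))) (.node 25 (.node 19 (.node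 14 (.bad 6) (.node 15 (.bad 11) (.node 24 (.bad 11) (.node 35 (.node 37 (.bad 27) (.bad 19)) (.bad 23))))) (.bad 25)) (.bad 23))) (.bad 0)))) (.node 27 (.node 54 (.bad 41) (.node 22 (.node 26 (.bad 52) (.node 51 (.node 62 (.node 68 (.bad 52) (.node 69 (.node 18 (.bad 64) (.node 10 (.node 21 (.node 14 (.bad 42) (.node 24 (.bad 18) (.node 28 (.bad 41) (.node 7 (.node 31 (.bad 41) (.bad 22)) (.bad 48))))) (.bad 10)) (.bad 8))) (.bad 17))) (.bad 17)) (.bad 0))) (.bad 17))) (.bad 3)))) (.node 27 (.node 41 (.node 42 (.node 51 (.bad 0) (.node 54 (.bad 0) (.node 15 (.node 35 (.bad 1) (.node 9 (.node 26 (.bad 56) (.node 28 (.node 10 (.bad 21) (.node 21 (.bad 10) (.node 14 (.node 31 (.node 40 (.bad 1) (.node 55 (.bad 21) (.node 18 (.node 43 (.bad 8) (.node 53 (.bad 43) (.node 19 (.node 24 (.bad 11) (.node 25 (.bad 6) (.bad 12))) (.bad 12)))) (.bad 46)))) (.bad 15)) (.bad 42)))) (.bad 29))) (.bad 15))) (.node 19 (.node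 24 (.node 28 (.node 10 (.bad 21) (.node 35 (.node 25 (.bad 23) (.node 26 (.node 9 (.bad 55) (.node 18 (.node 7 (.bad 48) (.node 20 (.bad 37) (.node 21 (.bad 10) (.node 14 (.node 22 (.bad 52) (.node 31 (.node 32 (.bad 33) (.bad 31)) (.bad 41))) (.bad 42))))) (.bad 46))) (.bad 35))) (.bad 29))) (.bad 29)) (.bad 11)) (.bad 11))))) (.node 10 (.node 15 (.node 18 (.node 19 (.node 24 (.node 43 (.node 14 (.bad 6) (.node 25 (.bad 6) (.node 37 (.node 40 (.node 20 (.bad 30) (.node 35 (.bad 1) (.node 9 (.node 21 (.bad 10) (.node 26 (.bad 55) (.node 7 (.node 28 (.bad 21) (.bad 29)) (.bad 37)))) (.bad 15)))) (.bad 43)) (.bad 19)))) (.bad 8)) (.bad 11)) (.bad 11)) (.bad 8)) (.bad 11)) (.bad 8))) (.bad 3)) (.bad 3)))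

/-- A part of the search. -/
def cert11 : SuzRec.STree := (.node 5 (.node 38 (.node 14 (.bad 62) (.node 22 (.bad 52) (.node 26 (.bad 52) (.node 47 (.bad 62) (.node 58 (.bad 62) (.node 62 (.node 68 (.bad 52) (.node 9 (.bad 68) (.node 40 (.node 65 (.bad 68) (.node 67 (.bad 68) (.node 69 (.node 56 (.bad 4) (.node 32 (.node 35 (.node 37 (.node 20 (.bad 66) (.bad 37)) (.bad 26)) (.bad 26)) (.bad 69))) (.bad 22)))) (.bad 65)))) (.bad 62))))))) (.node 11 (.node 42 (.bad 0) (.node 23 (.node 51 (.bad 0) (.node 54 (.bad 0) (.node 8 (.node 14 (.bad 42) (.node 21 (.bad 42) (.node 25 (.bad 23) (.node 27 (.node 35 (.bad 23) (.node 41 (.bad 3) (.node 10 (.node 9 (.node 15 (.node 18 (.bad 46) (.bad 10)) (.bad 1)) (.bad 10)) (.bad 54)))) (.bad 51))))) (.node 22 (.node 26 (.bad 52) (.node 27 (.node 41 (.node 62 (.node 68 (.bad 52) (.node 69 (.node 56 (.bad 4) (.node 14 (.node 20 (.node 9 (.bad 56) (.node 15 (.bad 56) (.node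 19 (.node 7 (.bad 37) (.node 21 (.node 24 (.bad 66) (.bad 11)) (.bad 10))) (.bad 11)))) (.bad 50)) (.bad 50))) (.bad 17))) (.bad 17)) (.bad 3)) (.bad 3))) (.bad 17))))) (.bad 11))) (.node 8 cert10 (.node 14 (.node 21 (.node 23 (.node 25 (.node 19 (.bad 6) (.node 27 (.node 24 (.bad 19) (.node 35 (.node 9 (.bad 55) (.node 37 (.bad 19) (.node 41 (.node 42 (.bad 8) (.node 15 (.node 43 (.bad 6) (.node 20 (.node 7 (.bad 37) (.node 26 (.bad 37) (.bad 50))) (.bad 50))) (.bad 11))) (.bad 3)))) (.bad 23))) (.bad 3))) (.bad 23)) (.bad 3)) (.bad 42)) (.bad 42))))) (.node 56 (.node 62 (.node 68 (.bad 5) (.node 69 (.node 22 (.node 26 (.bad 52) (.node 32 (.bad 69) (.node 35 (.bad 26) (.node 9 (.node 37 (.bad 26) (.node 38 (.bad 52) (.node 14 (.node 47 (.node 53 (.bad 47) (.node 19 (.bad 53) (.node 25 (.node 31 (.bad 47) (.bad 33)) (.bad 6)))) (.bad 62)) (.bad 62)))) (.bad 55))))) (.node 38 (.node 26 (.bad 52) (.node 8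 (.node 41 (.bad 17) (.node 23 (.node 27 (.node 42 (.bad 17) (.node 54 (.bad 17) (.node 24 (.node 20 (.bad 66) (.node 9 (.node 15 (.node 11 (.bad 29) (.bad 11)) (.bad 56)) (.bad 56))) (.bad 36)))) (.bad 3)) (.bad 3))) (.node 23 (.node 27 (.node 41 (.node 42 (.bad 8) (.node 54 (.bad 17) (.node 32 (.node 10 (.bad 54) (.node 47 (.bad 53) (.node 51 (.bad 54) (.node 11 (.node 15 (.bad 29) (.node 9 (.node 18 (.bad 46) (.node 19 (.node 20 (.node 7 (.bad 37) (.node 14 (.node 21 (.node 24 (.bad 66) (.bad 11)) (.bad 10)) (.bad 49))) (.bad 56)) (.bad 11))) (.bad 56))) (.bad 0))))) (.node 24 (.node 20 (.bad 66) (.node 9 (.node 14 (.node 15 (.node 11 (.bad 29) (.bad 11)) (.bad 56)) (.bad 50)) (.bad 56))) (.bad 36))))) (.bad 3)) (.bad 3)) (.bad 3)))) (.node 9 (.node 14 (.node 26 (.bad 56) (.bad 52)) (.bad 62)) (.bad 68)))) (.bad 4))) (.bad 4)) (.bad 4)))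

/-- A part of the search. -/
def cert12 : SuzRec.STree := (.node 18 (.node 21 (.node 9 (.bad 10) (.node 10 (.node 11 (.bad 42) (.node 14 (.bad 42) (.node 32 (.bad 54) (.node 43 (.bad 8) (.node 51 (.bad 54) (.node 52 (.node 5 (.bad 4) (.node 19 (.node 15 (.bad 11) (.node 22 (.node 24 (.bad 11) (.node 25 (.node 20 (.bad 51) (.node 26 (.node 31 (.bad 33) (.bad 36)) (.bad 50))) (.bad 6))) (.bad 52))) (.bad 6))) (.bad 0))))))) (.bad 10))) (.node 28 (.node 10 (.bad 21) (.node 31 (.node 43 (.node 11 (.node 14 (.bad 42) (.node 25 (.bad 23) (.node 35 (.bad 23) (.node 51 (.bad 0) (.node 52 (.bad 0) (.node 60 (.bad 42) (.node 22 (.node 24 (.node 7 (.bad 48) (.node 5 (.node 32 (.bad 36) (.node 26 (.node 15 (.bad 35) (.node 19 (.node 20 (.bad 25) (.node 40 (.node 9 (.bad 55) (.node 47 (.bad 25) (.bad 12))) (.bad 1))) (.bad 11))) (.bad 57))) (.bad 49))) (.bad 18)) (.bad 18)))))))) (.node 51 (.node 19 (.bad 27) (.node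 32 (.bad 54) (.node 37 (.bad 27) (.node 52 (.bad 0) (.node 58 (.bad 54) (.node 9 (.node 20 (.node 7 (.bad 37) (.node 26 (.bad 37) (.bad 57))) (.bad 28)) (.bad 10))))))) (.node 52 (.node 5 (.bad 4) (.node 22 (.node 26 (.node 38 (.node 47 (.bad 22) (.node 53 (.bad 47) (.node 9 (.node 19 (.node 15 (.bad 11) (.node 20 (.bad 37) (.node 24 (.bad 11) (.node 25 (.bad 33) (.bad 12))))) (.bad 12)) (.bad 12)))) (.bad 52)) (.bad 52)) (.bad 52))) (.bad 0)))) (.bad 8)) (.bad 41))) (.bad 41))) (.node 10 (.node 21 (.node 11 (.bad 42) (.node 14 (.bad 42) (.node 32 (.bad 54) (.node 43 (.node 51 (.bad 54) (.node 52 (.node 5 (.bad 4) (.node 22 (.node 24 (.bad 18) (.node 26 (.node 31 (.node 7 (.bad 57) (.node 20 (.node 19 (.bad 37) (.node 15 (.node 9 (.bad 56) (.node 25 (.bad 51) (.bad 6))) (.bad 11))) (.bad 48))) (.bad 36)) (.bad 52))) (.bad 52))) (.bad 0))) (.bad 8))))) (.bad 10)) (.bad 8)))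

/-- A part of the search. -/
def cert13 : SuzRec.STree := (.node 4 (.node 52 (.node 11 (.bad 0) (.node 42 (.bad 0) (.node 51 (.bad 0) (.node 54 (.bad 0) (.node 8 (.node 41 (.node 10 (.node 32 (.bad 54) (.node 58 (.bad 54) (.node 21 (.node 14 (.bad 42) (.node 60 (.bad 42) (.node 23 (.node 27 (.bad 3) (.node 20 (.node 25 (.node 28 (.node 7 (.bad 58) (.node 31 (.node 37 (.bad 58) (.node 40 (.node 48 (.node 26 (.bad 57) (.node 19 (.node 9 (.bad 12) (.node 15 (.bad 11) (.node 18 (.node 22 (.node 24 (.bad 11) (.bad 19)) (.bad 31)) (.bad 10)))) (.bad 37))) (.bad 7)) (.bad 51))) (.bad 41))) (.bad 41)) (.bad 51)) (.bad 51))) (.node 15 (.node 18 (.node 7 (.bad 60) (.node 9 (.bad 10) (.node 19 (.node 24 (.node 27 (.node 35 (.node 25 (.bad 23) (.node 37 (.node 20 (.bad 30) (.bad 37)) (.bad 19))) (.bad 15)) (.bad 3)) (.bad 11)) (.bad 11)))) (.bad 8)) (.bad 11))))) (.bad 10)))) (.node 18 (.node 21 (.bad 10) (.node 23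 (.node 9 (.bad 46) (.node 27 (.bad 3) (.bad 41))) (.bad 8))) (.bad 8))) (.node 10 (.node 23 (.node 27 (.node 19 (.node 15 (.bad 11) (.node 24 (.bad 11) (.node 25 (.node 20 (.bad 51) (.node 32 (.node 26 (.bad 33) (.node 9 (.node 18 (.bad 46) (.node 7 (.node 21 (.bad 12) (.bad 10)) (.bad 48))) (.bad 56))) (.bad 54))) (.bad 19)))) (.bad 27)) (.bad 3)) (.bad 3)) (.bad 54))) (.node 14 (.node 21 (.node 23 (.node 25 (.node 27 (.node 20 (.bad 51) (.node 19 (.node 5 (.bad 6) (.node 15 (.bad 11) (.node 24 (.bad 11) (.node 35 (.node 40 (.bad 51) (.bad 1)) (.bad 1))))) (.bad 25))) (.bad 3)) (.bad 23)) (.bad 3)) (.bad 42)) (.bad 42))))))) cert11) (.node 8 (.node 23 (.node 27 (.node 41 (.node 42 (.node 10 (.bad 8) (.node 11 (.bad 0) (.node 15 (.bad 11) (.node 18 (.bad 8) (.node 19 (.bad 11) (.node 24 (.bad 11) (.node 43 (.bad 8) (.node 51 (.bad 0) (.node 37 (.node 25 (.bad 19) (.node 5 (.node 14 (.node 20 (.bad 50) (.node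 7 (.node 26 (.bad 50) (.bad 37)) (.bad 37))) (.bad 6)) (.bad 6))) (.bad 27)))))))))) (.node 54 (.node 11 (.bad 0) (.node 21 (.bad 41) (.node 28 (.bad 41) (.node 31 (.bad 41) (.node 51 (.bad 0) (.node 20 (.bad 51) (.node 25 (.bad 51) (.node 35 (.node 15 (.bad 1) (.node 26 (.node 37 (.node 40 (.bad 1) (.node 52 (.bad 0) (.node 9 (.node 5 (.bad 55) (.node 55 (.node 10 (.bad 21) (.node 18 (.bad 10) (.bad 8))) (.bad 45))) (.bad 45)))) (.bad 20)) (.bad 56))) (.bad 23))))))))) cert12)) (.bad 3)) (.bad 3)) (.bad 3)) (.bad 3)))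

/-- A part of the search. -/
def cert14 : SuzRec.STree := (.node 68 (.node 22 (.node 26 (.bad 52) (.node 56 (.bad 26) (.node 19 (.node 25 (.node 14 (.bad 6) (.node 31 (.node 32 (.node 24 (.bad 36) (.node 41 (.bad 36) (.node 43 (.bad 6) (.node 8 (.node 20 (.node 37 (.node 35 (.bad 26) (.node 42 (.node 53 (.bad 47) (.node 28 (.node 40 (.node 27 (.bad 51) (.node 11 (.node 18 (.bad 24) (.node 10 (.node 7 (.bad 58) (.node 21 (.node 9 (.bad 12) (.node 15 (.bad 15) (.node 23 (.node 47 (.bad 12) (.node 48 (.bad 18) (.node 51 (.bad 0) (.node 54 (.bad 0) (.node 55 (.bad 5) (.node 58 (.node 59 (.node 60 (.bad 7) (.node 65 (.node 67 (.bad 7) (.node 69 (.node 70 .sol (.bad 13)) (.bad 4))) (.bad 1))) (.bad 15)) (.bad 10))))))) (.bad 3)))) (.bad 21))) (.bad 8))) (.bad 19))) (.bad 43)) (.bad 38))) (.bad 8))) (.bad 50)) (.bad 50)) (.bad 50))))) (.bad 33)) (.bad 33))) (.bad 33)) (.bad 33)))) (.node 26 (.node 69 (.bad 22)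 (.node 8 (.node 20 (.node 9 (.bad 56) (.node 15 (.bad 56) (.node 24 (.node 37 (.node 14 (.bad 50) (.node 40 (.bad 5) (.node 27 (.node 7 (.bad 37) (.node 19 (.bad 37) (.node 11 (.bad 19) (.node 23 (.bad 3) (.bad 11))))) (.bad 65)))) (.bad 66)) (.bad 66)))) (.bad 66)) (.bad 17))) (.bad 52))) (.node 9 (.bad 68) (.node 22 (.node 24 (.node 26 (.node 40 (.node 55 (.node 56 (.bad 26) (.node 15 (.bad 56) (.node 20 (.bad 56) (.node 65 (.bad 68) (.node 10 (.node 60 (.bad 18) (.node 67 (.bad 68) (.node 35 (.node 21 (.bad 55) (.node 8 (.node 18 (.node 11 (.bad 46) (.node 14 (.node 19 (.node 23 (.bad 11) (.bad 29)) (.bad 24)) (.bad 42))) (.bad 10)) (.bad 10))) (.bad 30)))) (.bad 9)))))) (.bad 5)) (.bad 5)) (.bad 52)) (.bad 5)) (.bad 52))))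

/-- A part of the search. -/
def cert15 : SuzRec.STree := (.node 62 (.node 28 (.bad 38) (.node 38 (.node 47 (.bad 62) (.node 53 (.bad 38) (.node 58 (.bad 62) (.node 27 (.node 51 (.node 9 (.bad 45) (.node 55 (.bad 45) (.node 10 (.node 19 (.node 21 (.node 7 (.bad 49) (.node 25 (.node 22 (.bad 47) (.node 31 (.bad 47) (.node 32 (.bad 53) (.node 15 (.node 26 (.node 20 (.bad 37) (.node 18 (.node 24 (.node 11 (.bad 19) (.node 23 (.bad 11) (.node 35 (.node 37 (.bad 19) (.node 40 (.bad 5) (.node 41 (.node 8 (.bad 3) (.node 42 (.bad 8) (.node 48 (.bad 28) (.node 54 (.node 56 (.node 59 (.node 60 (.node 65 (.bad 1) (.node 67 (.node 68 (.bad 5) (.node 69 (.bad 4) (.node 70 .sol (.bad 13)))) (.bad 7))) (.bad 7)) (.bad 7)) (.bad 15)) (.bad 0))))) (.bad 31)))) (.bad 15)))) (.bad 48)) (.bad 48))) (.bad 33)) (.bad 31))))) (.bad 12))) (.bad 10)) (.bad 12)) (.bad 12)))) (.bad 16)) (.bad 16))))) (.bad 38))) (.node 38 (.bad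 62) (.node 56 (.node 69 (.node 68 (.node 9 (.node 24 (.bad 5) (.node 26 (.bad 56) (.node 22 (.bad 26) (.bad 52)))) (.bad 68)) (.node 19 (.node 22 (.node 25 (.node 26 (.node 8 (.bad 50) (.node 9 (.bad 56) (.node 15 (.bad 56) (.node 18 (.bad 22) (.node 20 (.bad 50) (.node 21 (.node 31 (.bad 22) (.node 32 (.bad 33) (.node 24 (.node 35 (.bad 26) (.node 11 (.node 23 (.node 7 (.bad 67) (.node 27 (.bad 19) (.node 28 (.node 37 (.bad 19) (.node 40 (.node 41 (.node 42 (.bad 8) (.node 10 (.node 47 (.bad 12) (.node 48 (.bad 18) (.node 51 (.bad 20) (.node 53 (.bad 12) (.node 54 (.node 55 (.bad 5) (.node 58 (.node 59 (.node 60 (.bad 18) (.node 65 (.node 67 (.node 70 .sol (.bad 13)) (.bad 7)) (.bad 1))) (.bad 15)) (.bad 10))) (.bad 0)))))) (.bad 8))) (.bad 3)) (.bad 30))) (.bad 29)))) (.bad 11)) (.bad 15))) (.bad 36)))) (.bad 10))))))) (.bad 26)) (.bad 6)) (.bad 52)) (.bad 6))) (.bad 4)) (.bad 4))))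

/-- A part of the search. -/
def cert16 : SuzRec.STree := (.node 5 (.node 38 (.node 9 (.bad 68) (.node 14 (.bad 62) (.node 47 (.bad 62) (.node 58 (.bad 62) (.node 62 (.node 56 (.bad 4) (.node 65 (.bad 68) (.node 67 (.bad 68) (.node 68 (.node 22 (.bad 52) (.node 24 (.bad 5) (.node 26 (.bad 52) (.node 19 (.node 25 (.node 28 (.bad 38) (.node 31 (.node 32 (.node 40 (.bad 5) (.node 15 (.node 20 (.node 21 (.node 27 (.node 7 (.bad 37) (.node 18 (.node 11 (.bad 24) (.node 8 (.node 10 (.node 23 (.bad 3) (.node 35 (.node 37 (.node 41 (.bad 3) (.node 42 (.node 43 (.bad 6) (.node 48 (.bad 24) (.node 51 (.node 53 (.bad 12) (.node 54 (.bad 0) (.node 55 (.bad 5) (.node 59 (.node 60 (.node 69 (.bad 4) (.node 70 .sol (.bad 13))) (.bad 7)) (.bad 7))))) (.bad 20)))) (.bad 8))) (.bad 20)) (.bad 15))) (.bad 10)) (.bad 23))) (.bad 48))) (.bad 65)) (.bad 55)) (.bad 30)) (.bad 30))) (.bad 31)) (.bad 33))) (.bad 33)) (.bad 33)))))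 (.bad 68))))) (.bad 62)))))) (.node 62 (.node 28 (.bad 38) (.node 43 (.bad 38) (.node 53 (.bad 38) (.node 56 (.bad 4) (.node 68 (.bad 38) (.node 9 (.bad 68) (.node 14 (.node 19 (.node 22 (.node 25 (.node 26 (.node 15 (.bad 56) (.node 20 (.bad 56) (.node 31 (.bad 47) (.node 32 (.node 35 (.node 41 (.bad 31) (.node 47 (.bad 31) (.bad 47))) (.bad 15)) (.bad 33))))) (.bad 52)) (.bad 6)) (.bad 52)) (.bad 6)) (.bad 6)))))))) cert14)) (.node 14 (.node 43 cert15 (.node 19 (.node 25 (.node 68 (.node 24 (.bad 5) (.node 40 (.bad 5) (.node 55 (.bad 5) (.node 62 (.bad 5) (.node 38 (.bad 62) (.node 9 (.node 42 (.node 47 (.node 10 (.bad 12) (.node 15 (.node 21 (.bad 12) (.node 7 (.node 8 (.node 18 (.node 11 (.bad 46) (.node 23 (.bad 11) (.bad 8))) (.bad 8)) (.bad 42)) (.bad 49))) (.bad 9))) (.bad 14)) (.bad 14)) (.bad 68))))))) (.bad 6)) (.bad 6)) (.bad 6))) (.node 19 (.node 25 (.node 43 (.node 68 (.node 24 (.bad 5) (.node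 40 (.bad 5) (.node 8 (.node 38 (.node 22 (.bad 52) (.node 26 (.bad 52) (.node 9 (.node 47 (.bad 53) (.node 53 (.node 10 (.bad 12) (.node 21 (.bad 10) (.node 7 (.node 28 (.bad 38) (.node 31 (.bad 47) (.node 27 (.node 11 (.bad 19) (.node 20 (.bad 37) (.node 23 (.bad 3) (.node 15 (.node 18 (.node 32 (.node 35 (.node 37 (.bad 19) (.node 41 (.bad 3) (.node 42 (.bad 42) (.bad 8)))) (.bad 15)) (.bad 33)) (.bad 8)) (.bad 11))))) (.bad 41)))) (.bad 49)))) (.bad 43))) (.bad 55)))) (.bad 43)) (.bad 43)))) (.bad 6)) (.bad 6)) (.bad 6)) (.bad 6))))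

/-- A part of the search. -/
def cert17 : SuzRec.STree := (.node 62 (.node 5 (.bad 4) (.node 24 (.bad 5) (.node 28 (.bad 38) (.node 40 (.bad 5) (.node 43 (.bad 38) (.node 14 (.node 8 (.bad 43) (.node 19 (.node 23 (.node 11 (.node 15 (.bad 29) (.node 25 (.node 27 (.node 20 (.bad 37) (.node 7 (.node 31 (.bad 47) (.node 35 (.bad 29) (.bad 30))) (.bad 48))) (.bad 3)) (.bad 6))) (.bad 23)) (.bad 3)) (.bad 6))) (.bad 6))))))) (.node 69 (.node 5 (.bad 4) (.node 18 (.bad 22) (.node 31 (.bad 22) (.node 47 (.bad 22) (.node 56 (.bad 4) (.node 9 (.bad 56) (.node 15 (.bad 56) (.node 19 (.node 20 (.bad 56) (.node 25 (.node 32 (.node 35 (.node 41 (.bad 31) (.node 8 (.node 11 (.bad 23) (.node 23 (.node 24 (.bad 11) (.node 7 (.node 27 (.node 37 (.node 28 (.bad 20) (.node 42 (.bad 11) (.bad 8))) (.bad 37)) (.bad 3)) (.bad 48))) (.bad 3))) (.bad 3))) (.bad 15)) (.bad 33)) (.bad 33))) (.bad 33))))))))) (.node 47 (.node 5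 (.bad 62) (.node 14 (.bad 62) (.node 19 (.node 25 (.node 32 (.bad 53) (.node 43 (.bad 53) (.bad 6))) (.bad 6)) (.bad 6)))) (.node 18 (.node 31 (.node 53 (.bad 47) (.node 28 (.node 43 (.node 5 (.node 9 (.bad 68) (.node 14 (.bad 62) (.node 8 (.node 25 (.node 19 (.bad 6) (.node 10 (.node 7 (.bad 49) (.node 20 (.node 21 (.bad 49) (.bad 12)) (.bad 25))) (.bad 12))) (.bad 47)) (.bad 43)))) (.node 56 (.node 32 (.bad 69) (.node 15 (.node 19 (.node 25 (.bad 33) (.node 11 (.node 14 (.node 8 (.bad 50) (.node 20 (.bad 50) (.node 9 (.node 23 (.bad 29) (.bad 3)) (.bad 56)))) (.bad 6)) (.bad 19))) (.bad 53)) (.bad 31))) (.bad 4))) (.bad 38)) (.bad 38))) (.bad 22)) (.bad 22)))))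

/-- A part of the search. -/
def cert18 : SuzRec.STree := (.node 4 (.node 52 cert16 (.node 5 (.node 56 (.node 62 (.node 69 (.node 22 (.node 26 (.bad 52) (.node 32 (.bad 69) (.node 19 (.node 25 (.node 31 (.node 14 (.bad 47) (.node 35 (.bad 26) (.node 37 (.bad 26) (.node 38 (.bad 52) (.node 47 (.node 18 (.bad 22) (.node 43 (.bad 14) (.node 8 (.node 10 (.node 9 (.bad 12) (.node 15 (.node 11 (.node 20 (.node 7 (.bad 37) (.node 21 (.bad 12) (.bad 10))) (.bad 50)) (.bad 15)) (.bad 56))) (.bad 8)) (.bad 50)))) (.bad 47)))))) (.bad 33)) (.bad 33)) (.bad 33)))) (.node 38 (.node 14 (.bad 62) (.node 26 (.bad 52) (.node 47 (.bad 62) (.node 58 (.bad 62) (.node 68 (.bad 52) (.node 9 (.bad 68) (.node 15 (.node 19 (.node 20 (.node 24 (.bad 66) (.node 25 (.node 37 (.bad 66) (.node 7 (.bad 37) (.node 23 (.node 11 (.bad 29) (.bad 11)) (.bad 67)))) (.bad 6))) (.bad 56)) (.bad 6)) (.bad 56)))))))) (.node 47 (.node 18 (.bad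 22) (.node 26 (.bad 22) (.node 31 (.bad 22) (.node 19 (.node 25 (.node 32 (.bad 53) (.bad 33)) (.bad 33)) (.bad 33))))) (.node 14 (.node 53 (.bad 47) (.node 32 (.node 58 (.node 60 (.node 26 (.node 9 (.bad 56) (.node 15 (.bad 56) (.node 18 (.bad 22) (.node 20 (.bad 56) (.node 31 (.bad 22) (.node 25 (.node 19 (.bad 33) (.bad 25)) (.bad 47))))))) (.node 68 (.node 24 (.bad 5) (.node 28 (.bad 38) (.node 40 (.bad 5) (.node 43 (.bad 38) (.node 19 (.node 25 (.bad 6) (.bad 19)) (.bad 53)))))) (.bad 52))) (.bad 69)) (.bad 62)) (.bad 69))) (.bad 62))))) (.bad 4)) (.bad 4)) (.bad 4)) (.bad 4))) (.node 52 (.node 22 (.node 26 (.node 38 (.node 68 cert17 (.bad 52)) (.bad 52)) (.bad 52)) (.bad 52)) (.node 7 (.node 48 (.node 59 (.node 70 (.node 5 (.node 68 (.node 10 (.bad 49) (.node 14 (.bad 49) (.node 21 (.bad 49) (.node 8 (.node 42 (.node 11 (.node 43 (.bad 14) (.node 18 (.node 19 (.bad 24) (.bad 6)) (.bad 8))) (.bad 42))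 (.bad 8)) (.bad 42))))) (.node 22 (.node 24 (.node 18 (.bad 48) (.node 8 (.bad 18) (.node 10 (.bad 18) (.node 20 (.bad 48) (.node 23 (.node 11 (.node 25 (.bad 67) (.node 14 (.node 19 (.node 15 (.bad 11) (.node 21 (.bad 49) (.node 9 (.node 26 (.node 27 (.node 28 (.bad 48) (.node 31 (.bad 15) (.node 32 (.bad 31) (.bad 33)))) (.bad 3)) (.bad 52)) (.bad 10)))) (.bad 6)) (.bad 6))) (.bad 23)) (.bad 3)))))) (.bad 5)) (.bad 52))) (.node 56 (.node 62 (.node 38 (.node 69 (.node 43 (.node 14 (.node 8 (.bad 43) (.node 10 (.bad 49) (.node 15 (.bad 59) (.node 21 (.bad 49) (.node 11 (.node 9 (.bad 15) (.node 18 (.node 20 (.bad 48) (.bad 56)) (.bad 10))) (.bad 42)))))) (.bad 14)) (.node 14 (.bad 43) (.bad 6))) (.bad 4)) (.bad 62)) (.bad 4)) (.bad 4))) (.bad 61)) (.bad 61)) (.bad 61)) (.bad 61))))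

/-- A part of the search. -/
def cert19 : SuzRec.STree := (.node 0 (.node 3 (.node 4 (.node 8 (.bad 3) (.node 23 (.bad 3) (.node 27 (.bad 3) (.node 41 (.bad 3) (.node 15 (.node 35 (.node 11 (.bad 23) (.node 28 (.node 21 (.bad 41) (.node 31 (.bad 41) (.node 5 (.node 24 (.node 19 (.bad 11) (.node 9 (.node 10 (.node 7 (.bad 58) (.node 18 (.bad 8) (.bad 10))) (.bad 12)) (.bad 12))) (.bad 36)) (.bad 36)))) (.bad 29))) (.bad 1)) (.bad 1)))))) (.node 52 (.node 5 (.bad 4) (.node 11 (.bad 0) (.node 42 (.bad 0) (.node 8 (.bad 42) (.node 14 (.node 15 (.node 20 (.node 21 (.bad 42) (.node 23 (.bad 11) (.node 26 (.node 9 (.bad 56) (.node 10 (.bad 10) (.bad 12))) (.bad 50)))) (.bad 50)) (.bad 1)) (.bad 50)))))) (.node 7 (.node 48 (.node 59 (.node 14 (.bad 70) (.node 32 (.bad 70) (.node 35 (.bad 70) (.node 65 (.bad 70) (.node 8 (.node 11 (.bad 42) (.node 15 (.node 21 (.bad 42) (.node 23 (.bad 3) (.bad 29))) (.bad 1)))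 (.bad 1)))))) (.bad 61)) (.bad 61)) (.bad 61)))) (.node 4 (.bad 3) (.node 7 (.node 8 (.bad 3) (.node 23 (.bad 3) (.node 27 (.bad 3) (.node 41 (.bad 3) (.node 15 (.node 35 (.node 40 (.node 31 (.bad 59) (.node 5 (.node 9 (.bad 55) (.node 24 (.node 28 (.node 10 (.bad 58) (.node 18 (.bad 48) (.node 11 (.node 19 (.node 20 (.bad 48) (.node 14 (.node 21 (.bad 42) (.bad 10)) (.bad 50))) (.bad 12)) (.bad 46)))) (.bad 45)) (.bad 36))) (.bad 36))) (.bad 1)) (.bad 1)) (.bad 1)))))) (.bad 61)))) (.node 3 (.node 11 (.bad 0) (.node 42 (.bad 0) (.node 51 (.bad 0) (.node 52 (.bad 0) (.node 4 (.node 7 (.node 48 (.node 54 (.bad 0) (.node 8 (.node 14 (.bad 42) (.node 5 (.node 15 (.node 19 (.node 20 (.node 21 (.bad 42) (.node 23 (.bad 11) (.node 24 (.node 18 (.bad 48) (.node 9 (.node 10 (.bad 10) (.bad 8)) (.bad 10))) (.bad 11)))) (.bad 50)) (.bad 6)) (.bad 1)) (.bad 6))) (.bad 1))) (.bad 61)) (.bad 61)) (.bad 61)))))) (.node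 4 (.node 5 (.node 7 (.node 14 (.node 19 (.node 25 (.node 38 (.bad 62) (.node 43 (.node 47 (.bad 53) (.node 22 (.bad 47) (.node 31 (.bad 47) (.node 26 (.node 20 (.bad 37) (.node 32 (.node 15 (.bad 35) (.node 11 (.node 8 (.bad 42) (.node 23 (.node 10 (.bad 8) (.node 9 (.node 18 (.bad 8) (.node 21 (.bad 55) (.bad 12))) (.bad 12))) (.bad 11))) (.bad 29))) (.bad 33))) (.bad 33))))) (.bad 6))) (.bad 6)) (.bad 6)) (.bad 6)) (.bad 61)) (.bad 6)) (.bad 61))))

/-- A part of the search. -/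
def cert20 : SuzRec.STree := (.node 0 (.node 3 (.node 4 (.node 8 (.bad 3) (.node 23 (.bad 3) (.node 27 (.bad 3) (.node 41 (.bad 3) (.node 15 (.node 26 (.bad 56) (.node 14 (.node 20 (.node 9 (.bad 56) (.node 35 (.node 11 (.bad 23) (.node 28 (.node 21 (.bad 41) (.node 5 (.node 10 (.bad 10) (.bad 12)) (.bad 55))) (.bad 29))) (.bad 1))) (.bad 50)) (.bad 50))) (.bad 1)))))) (.node 52 (.node 5 (.bad 4) (.node 11 (.bad 0) (.node 42 (.bad 0) (.node 8 (.bad 42) (.node 14 (.node 15 (.node 20 (.node 21 (.bad 42) (.node 23 (.bad 11) (.node 26 (.bad 56) (.bad 50)))) (.bad 50)) (.bad 1)) (.bad 50)))))) (.node 7 (.node 48 (.node 59 (.node 14 (.bad 70) (.node 32 (.bad 70) (.node 35 (.bad 70) (.node 65 (.bad 70) (.node 8 (.node 11 (.bad 42) (.node 15 (.node 21 (.bad 42) (.node 23 (.bad 3) (.bad 29))) (.bad 1))) (.bad 1)))))) (.bad 61)) (.bad 61)) (.bad 61)))) (.node 4 (.bad 3) (.node 7 (.node 8 (.bad 3) (.node 23 (.bad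 3) (.node 27 (.bad 3) (.node 41 (.bad 3) (.node 15 (.node 35 (.node 40 (.node 31 (.bad 59) (.node 5 (.node 9 (.bad 55) (.node 19 (.node 24 (.node 11 (.node 25 (.bad 19) (.bad 33)) (.bad 11)) (.bad 36)) (.bad 33))) (.bad 36))) (.bad 1)) (.bad 1)) (.bad 1)))))) (.bad 61)))) (.node 3 (.node 11 (.bad 0) (.node 42 (.bad 0) (.node 51 (.bad 0) (.node 52 (.bad 0) (.node 4 (.node 7 (.node 48 (.node 54 (.bad 0) (.node 8 (.node 14 (.bad 42) (.node 15 (.node 20 (.node 9 (.bad 56) (.node 21 (.bad 42) (.node 10 (.bad 10) (.bad 12)))) (.bad 50)) (.bad 1))) (.bad 1))) (.bad 61)) (.bad 61)) (.bad 61)))))) (.node 4 (.node 7 (.node 19 (.node 25 (.node 26 (.node 9 (.bad 56) (.node 15 (.bad 56) (.node 20 (.bad 37) (.node 31 (.node 32 (.node 35 (.bad 15) (.node 8 (.node 11 (.node 14 (.bad 42) (.node 5 (.node 21 (.bad 42) (.node 10 (.node 18 (.node 23 (.bad 3) (.bad 11)) (.bad 10)) (.bad 12))) (.bad 6))) (.bad 29)) (.bad 1)))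 (.bad 33)) (.bad 33))))) (.bad 33)) (.bad 33)) (.bad 33)) (.bad 61)) (.bad 61))))

/-- A part of the search. -/
def cert21 : SuzRec.STree := (.node 0 (.node 8 (.node 11 (.bad 42) (.node 14 (.bad 42) (.node 21 (.bad 42) (.node 5 (.node 7 (.node 10 (.node 28 (.bad 21) (.node 15 (.node 23 (.bad 11) (.bad 29)) (.bad 29))) (.bad 49)) (.bad 49)) (.bad 49))))) (.node 41 (.node 10 (.bad 54) (.node 32 (.bad 54) (.node 51 (.bad 54) (.node 27 (.bad 51) (.node 18 (.node 21 (.bad 10) (.node 5 (.node 7 (.node 9 (.node 14 (.node 19 (.node 3 (.bad 27) (.node 4 (.bad 3) (.node 11 (.node 20 (.bad 48) (.node 22 (.node 23 (.bad 3) (.node 24 (.bad 48) (.bad 24))) (.bad 64))) (.bad 0)))) (.bad 12)) (.bad 49)) (.bad 12)) (.bad 49)) (.bad 49))) (.bad 64)))))) (.node 15 (.node 35 (.node 40 (.node 27 (.bad 51) (.node 42 (.node 3 (.bad 8) (.node 10 (.bad 8) (.node 18 (.bad 8) (.node 22 (.node 23 (.bad 8) (.node 4 (.node 26 (.bad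 52) (.node 14 (.node 9 (.bad 65) (.node 19 (.node 11 (.node 20 (.node 21 (.bad 42) (.bad 12)) (.bad 50)) (.bad 11)) (.bad 12))) (.bad 50))) (.bad 3))) (.bad 64))))) (.bad 1))) (.bad 1)) (.bad 1)) (.bad 1)))) (.node 3 (.node 52 (.node 11 (.bad 0) (.node 42 (.bad 0) (.node 51 (.bad 0) (.node 54 (.bad 0) (.node 8 (.node 14 (.bad 42) (.node 15 (.node 20 (.node 21 (.bad 42) (.node 5 (.node 4 (.node 7 (.node 9 (.bad 68) (.node 10 (.node 18 (.bad 48) (.bad 10)) (.bad 12))) (.bad 49)) (.bad 4)) (.bad 49))) (.bad 50)) (.bad 1))) (.bad 1)))))) (.node 4 (.node 7 (.node 48 (.node 59 (.node 14 (.bad 70) (.node 32 (.bad 70) (.node 35 (.bad 70) (.node 37 (.bad 7) (.node 8 (.node 20 (.node 18 (.bad 48) (.node 19 (.bad 37) (.node 5 (.node 24 (.bad 48) (.node 15 (.node 23 (.bad 35) (.bad 11)) (.bad 30))) (.bad 6)))) (.bad 50)) (.bad 50)))))) (.bad 61)) (.bad 61)) (.bad 61)) (.bad 61))) (.node 4 (.node 7 (.node 48 (.node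 52 (.node 59 (.node 14 (.bad 70) (.node 5 (.node 9 (.bad 68) (.node 19 (.node 25 (.node 32 (.bad 70) (.node 35 (.bad 70) (.node 37 (.bad 7) (.node 8 (.node 20 (.bad 37) (.bad 50)) (.bad 50))))) (.bad 6)) (.bad 6))) (.bad 6))) (.bad 61)) (.bad 61)) (.bad 61)) (.bad 61)) (.bad 61))))

/-- A part of the search. -/
def cert22 : SuzRec.STree := (.node 0 (.node 3 (.node 4 (.node 8 (.bad 3) (.node 23 (.bad 3) (.node 27 (.bad 3) (.node 41 (.bad 3) (.node 22 (.node 26 (.bad 52) (.node 14 (.node 20 (.node 32 (.bad 69) (.node 5 (.node 15 (.node 24 (.node 31 (.node 21 (.bad 41) (.node 25 (.bad 47) (.node 9 (.node 10 (.node 18 (.bad 8) (.bad 10)) (.bad 12)) (.bad 12)))) (.bad 36)) (.bad 36)) (.bad 35)) (.bad 36))) (.bad 50)) (.bad 50))) (.bad 17)))))) (.node 52 (.node 5 (.bad 4) (.node 11 (.bad 0) (.node 42 (.bad 0) (.node 8 (.bad 42) (.node 14 (.node 20 (.node 21 (.bad 42) (.node 22 (.node 26 (.node 27 (.bad 51) (.node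 37 (.node 19 (.bad 27) (.node 9 (.node 10 (.node 15 (.bad 56) (.node 18 (.bad 8) (.bad 10))) (.bad 12)) (.bad 12))) (.bad 50))) (.bad 50)) (.bad 17))) (.bad 50)) (.bad 50)))))) (.node 7 (.node 48 (.node 59 (.node 14 (.bad 70) (.node 32 (.bad 70) (.node 35 (.bad 70) (.node 65 (.bad 70) (.node 70 (.node 15 (.bad 59) (.node 8 (.node 11 (.bad 42) (.bad 29)) (.bad 1))) (.bad 61)))))) (.bad 61)) (.bad 61)) (.bad 61)))) (.node 4 (.bad 3) (.node 7 (.node 8 (.bad 3) (.node 23 (.bad 3) (.node 27 (.bad 3) (.node 41 (.bad 3) (.node 22 (.node 38 (.node 42 (.node 10 (.bad 8) (.node 18 (.bad 8) (.node 40 (.node 14 (.bad 43) (.node 5 (.node 9 (.bad 68) (.node 11 (.node 19 (.node 20 (.node 21 (.node 25 (.bad 51) (.bad 6)) (.bad 10)) (.bad 50)) (.bad 6)) (.bad 46))) (.bad 6))) (.bad 64)))) (.bad 17)) (.bad 17)) (.bad 17)))))) (.bad 61)))) (.node 3 (.node 11 (.bad 0) (.node 42 (.bad 0) (.node 51 (.bad 0) (.node 52 (.bad 0)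 (.node 4 (.node 7 (.node 48 (.node 54 (.bad 0) (.node 8 (.node 14 (.bad 42) (.node 5 (.node 19 (.node 20 (.node 21 (.bad 42) (.node 22 (.node 23 (.bad 25) (.node 15 (.node 24 (.node 10 (.bad 18) (.node 9 (.node 18 (.bad 48) (.bad 8)) (.bad 12))) (.bad 11)) (.bad 11))) (.bad 17))) (.bad 50)) (.bad 6)) (.bad 6))) (.bad 17))) (.bad 61)) (.bad 61)) (.bad 61)))))) (.node 4 (.node 5 (.node 7 (.node 14 (.node 19 (.node 25 (.node 38 (.bad 62) (.node 43 (.node 47 (.bad 53) (.node 22 (.bad 47) (.node 8 (.node 11 (.bad 42) (.node 15 (.node 21 (.bad 42) (.node 9 (.node 10 (.node 23 (.bad 3) (.bad 29)) (.bad 12)) (.bad 12))) (.bad 29))) (.bad 17)))) (.bad 6))) (.bad 6)) (.bad 6)) (.bad 6)) (.bad 61)) (.bad 6)) (.bad 61))))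

/-- A part of the search. -/
def cert23 : SuzRec.STree := (.node 0 (.node 3 (.node 4 (.node 8 (.bad 3) (.node 23 (.bad 3) (.node 27 (.bad 3) (.node 41 (.bad 3) (.node 22 (.node 26 (.bad 52) (.node 14 (.node 20 (.node 32 (.bad 69) (.node 5 (.node 15 (.node 9 (.bad 56) (.node 19 (.node 24 (.node 11 (.node 21 (.bad 42) (.node 7 (.node 10 (.bad 10) (.bad 12)) (.bad 57))) (.bad 11)) (.bad 36)) (.bad 33))) (.bad 35)) (.bad 36))) (.bad 50)) (.bad 50))) (.bad 17)))))) (.node 52 (.node 5 (.bad 4) (.node 11 (.bad 0) (.node 42 (.bad 0) (.node 8 (.bad 42) (.node 14 (.node 20 (.node 21 (.bad 42) (.node 22 (.node 26 (.node 9 (.bad 56) (.node 10 (.bad 10) (.bad 12))) (.bad 50)) (.bad 17))) (.bad 50)) (.bad 50)))))) (.node 7 (.node 48 (.node 59 (.node 14 (.bad 70) (.node 32 (.bad 70) (.node 35 (.bad 70) (.node 65 (.bad 70) (.node 70 (.node 15 (.bad 59) (.node 8 (.node 11 (.bad 42) (.bad 29)) (.bad 1))) (.bad 61))))))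 (.bad 61)) (.bad 61)) (.bad 61)))) (.node 4 (.bad 3) (.node 7 (.node 8 (.bad 3) (.node 23 (.bad 3) (.node 27 (.bad 3) (.node 41 (.bad 3) (.node 22 (.node 38 (.node 42 (.node 10 (.bad 8) (.node 18 (.bad 8) (.node 40 (.node 43 (.bad 8) (.node 14 (.bad 43) (.bad 50))) (.bad 64)))) (.bad 17)) (.bad 17)) (.bad 17)))))) (.bad 61)))) (.node 3 (.node 11 (.bad 0) (.node 42 (.bad 0) (.node 51 (.bad 0) (.node 52 (.bad 0) (.node 4 (.node 7 (.node 48 (.node 54 (.bad 0) (.node 8 (.node 14 (.bad 42) (.node 20 (.node 21 (.bad 42) (.node 22 (.node 26 (.bad 52) (.bad 50)) (.bad 17))) (.bad 50))) (.bad 17))) (.bad 61)) (.bad 61)) (.bad 61)))))) (.node 4 (.node 7 (.node 19 (.node 25 (.node 26 (.node 9 (.bad 56) (.node 15 (.bad 56) (.node 20 (.bad 37) (.node 31 (.node 32 (.node 22 (.bad 69) (.node 18 (.bad 22) (.node 27 (.node 8 (.bad 3) (.node 11 (.bad 19) (.node 14 (.node 21 (.node 10 (.bad 57) (.node 23 (.bad 3) (.bad 29)))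 (.bad 10)) (.bad 50)))) (.bad 64)))) (.bad 33)) (.bad 33))))) (.bad 33)) (.bad 33)) (.bad 33)) (.bad 61)) (.bad 61))))

/-- A part of the search. -/
def cert24 : SuzRec.STree := (.node 0 (.node 8 (.node 11 (.bad 42) (.node 14 (.bad 42) (.node 21 (.bad 42) (.node 5 (.node 7 (.node 10 (.node 28 (.bad 21) (.node 15 (.node 23 (.bad 11) (.bad 29)) (.bad 29))) (.bad 49)) (.bad 49)) (.bad 49))))) (.node 41 (.node 10 (.bad 54) (.node 32 (.bad 54) (.node 51 (.bad 54) (.node 27 (.bad 51) (.node 18 (.node 21 (.bad 10) (.node 5 (.node 7 (.node 9 (.node 14 (.node 19 (.node 3 (.bad 27) (.node 4 (.bad 3) (.node 11 (.node 20 (.bad 48) (.node 22 (.node 23 (.bad 3) (.node 24 (.bad 48) (.bad 24))) (.bad 64))) (.bad 0)))) (.bad 12)) (.bad 49)) (.bad 12)) (.bad 49)) (.bad 49))) (.bad 64)))))) (.node 22 (.node 38 (.node 4 (.bad 52) (.node 42 (.node 3 (.bad 8) (.node 7 (.node 10 (.bad 8) (.node 18 (.bad 8) (.node 23 (.bad 8)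 (.node 27 (.node 20 (.bad 51) (.node 14 (.node 5 (.bad 62) (.node 21 (.node 9 (.bad 10) (.node 11 (.bad 42) (.bad 46))) (.bad 49))) (.bad 50))) (.bad 3))))) (.bad 61))) (.bad 17))) (.bad 17)) (.bad 17)))) (.node 3 (.node 52 (.node 11 (.bad 0) (.node 42 (.bad 0) (.node 51 (.bad 0) (.node 54 (.bad 0) (.node 8 (.node 14 (.bad 42) (.node 20 (.node 21 (.bad 42) (.node 5 (.node 4 (.node 7 (.node 9 (.bad 68) (.node 10 (.node 18 (.bad 48) (.bad 10)) (.bad 12))) (.bad 49)) (.bad 4)) (.bad 49))) (.bad 50))) (.bad 17)))))) (.node 4 (.node 7 (.node 48 (.node 59 (.node 14 (.bad 70) (.node 32 (.bad 70) (.node 35 (.bad 70) (.node 37 (.bad 7) (.node 8 (.node 20 (.node 18 (.bad 48) (.node 19 (.bad 37) (.node 5 (.node 24 (.bad 48) (.node 23 (.node 25 (.node 11 (.bad 23) (.node 15 (.node 9 (.node 21 (.bad 10) (.node 10 (.node 22 (.bad 18) (.node 26 (.bad 26) (.bad 50))) (.bad 12))) (.bad 15)) (.bad 29))) (.bad 6)) (.bad 11)))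 (.bad 6)))) (.bad 50)) (.bad 50)))))) (.bad 61)) (.bad 61)) (.bad 61)) (.bad 61))) (.node 4 (.node 7 (.node 48 (.node 52 (.node 59 (.node 14 (.bad 70) (.node 5 (.node 9 (.bad 68) (.node 19 (.node 25 (.node 32 (.bad 70) (.node 35 (.bad 70) (.node 37 (.bad 7) (.node 8 (.node 20 (.bad 37) (.bad 50)) (.bad 50))))) (.bad 6)) (.bad 6))) (.bad 6))) (.bad 61)) (.bad 61)) (.bad 61)) (.bad 61)) (.bad 61))))

/-- A part of the search. -/
def cert25 : SuzRec.STree := (.node 0 (.node 3 (.node 27 (.node 4 (.bad 3) (.node 8 (.bad 3) (.node 20 (.bad 51) (.node 14 (.node 23 (.bad 3) (.node 25 (.bad 51) (.node 26 (.node 37 (.node 28 (.bad 20) (.node 11 (.node 15 (.node 19 (.node 7 (.bad 37) (.node 18 (.node 5 (.bad 24) (.node 24 (.bad 19) (.bad 24))) (.bad 48))) (.bad 19)) (.bad 29)) (.bad 29))) (.bad 50)) (.bad 50)))) (.bad 50))))) (.node 51 (.bad 27) (.node 18 (.node 22 (.node 28 (.node 40 (.node 20 (.bad 51) (.node 25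 (.bad 51) (.node 37 (.bad 20) (.node 8 (.node 4 (.bad 3) (.node 9 (.node 14 (.bad 43) (.bad 50)) (.bad 45))) (.bad 50))))) (.bad 64)) (.bad 16)) (.bad 64)) (.bad 64)))) (.node 4 (.bad 3) (.node 7 (.node 8 (.bad 3) (.node 23 (.bad 3) (.node 27 (.bad 3) (.node 41 (.bad 3) (.node 48 (.node 52 (.node 59 (.node 14 (.bad 70) (.node 5 (.node 9 (.bad 68) (.node 19 (.node 11 (.bad 24) (.node 15 (.node 18 (.bad 24) (.bad 46)) (.bad 29))) (.bad 6))) (.bad 6))) (.bad 61)) (.bad 61)) (.bad 61)))))) (.bad 61)))) (.node 3 (.node 11 (.bad 0) (.node 42 (.bad 0) (.node 51 (.bad 0) (.node 52 (.bad 0) (.node 4 (.node 7 (.node 48 (.node 54 (.bad 0) (.node 59 (.node 14 (.bad 70) (.node 5 (.node 8 (.node 19 (.node 18 (.bad 24) (.node 10 (.node 20 (.bad 37) (.bad 50)) (.bad 8))) (.bad 6)) (.bad 42)) (.bad 6))) (.bad 61))) (.bad 61)) (.bad 61)) (.bad 61)))))) (.node 4 (.node 5 (.node 7 (.node 14 (.node 19 (.node 20 (.bad 37) (.node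 25 (.node 24 (.bad 67) (.node 11 (.bad 24) (.node 15 (.node 18 (.bad 24) (.node 23 (.bad 11) (.node 28 (.node 10 (.bad 58) (.node 8 (.bad 8) (.node 21 (.node 26 (.node 9 (.bad 55) (.node 27 (.bad 37) (.node 22 (.node 31 (.bad 47) (.node 32 (.bad 31) (.bad 33))) (.bad 64)))) (.bad 50)) (.bad 42)))) (.bad 29)))) (.bad 30)))) (.bad 6))) (.bad 6)) (.bad 6)) (.bad 61)) (.bad 6)) (.bad 61))))

/-- A part of the search. -/
def cert26 : SuzRec.STree := (.node 0 (.node 3 (.node 27 (.node 4 (.bad 3) (.node 8 (.bad 3) (.node 20 (.bad 51) (.node 14 (.node 23 (.bad 3) (.node 25 (.bad 51) (.node 26 (.node 37 (.node 28 (.bad 20) (.node 11 (.node 15 (.node 9 (.bad 56) (.node 10 (.node 19 (.node 7 (.bad 37) (.node 18 (.node 5 (.bad 24) (.node 21 (.node 24 (.bad 19) (.bad 24)) (.bad 10))) (.bad 48))) (.bad 12)) (.bad 12))) (.bad 29)) (.bad 29))) (.bad 50)) (.bad 50)))) (.bad 50))))) (.node 51 (.bad 27) (.node 18 (.node 22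 (.node 28 (.node 40 (.node 20 (.bad 51) (.node 25 (.bad 51) (.node 37 (.bad 20) (.node 8 (.node 4 (.bad 3) (.node 9 (.node 14 (.bad 65) (.bad 50)) (.bad 45))) (.bad 50))))) (.bad 64)) (.bad 16)) (.bad 64)) (.bad 64)))) (.node 4 (.bad 3) (.node 7 (.node 8 (.bad 3) (.node 23 (.bad 3) (.node 27 (.bad 3) (.node 41 (.bad 3) (.node 48 (.node 52 (.node 59 (.node 14 (.bad 70) (.node 20 (.node 19 (.bad 37) (.node 5 (.node 25 (.node 11 (.bad 19) (.node 15 (.node 21 (.node 10 (.bad 49) (.node 9 (.node 18 (.bad 10) (.node 22 (.node 24 (.bad 19) (.node 26 (.bad 37) (.bad 33))) (.bad 64))) (.bad 12))) (.bad 42)) (.bad 29))) (.bad 6)) (.bad 6))) (.bad 50))) (.bad 61)) (.bad 61)) (.bad 61)))))) (.bad 61)))) (.node 3 (.node 11 (.bad 0) (.node 42 (.bad 0) (.node 51 (.bad 0) (.node 52 (.bad 0) (.node 4 (.node 7 (.node 48 (.node 54 (.bad 0) (.node 59 (.node 14 (.bad 70) (.node 8 (.node 20 (.node 19 (.bad 37) (.node 5 (.node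 23 (.node 24 (.bad 67) (.node 15 (.node 9 (.bad 56) (.node 10 (.node 18 (.bad 24) (.node 21 (.bad 49) (.bad 10))) (.bad 12))) (.bad 11))) (.bad 11)) (.bad 6))) (.bad 50)) (.bad 42))) (.bad 61))) (.bad 61)) (.bad 61)) (.bad 61)))))) (.node 4 (.node 7 (.node 19 (.node 20 (.bad 37) (.node 25 (.node 24 (.bad 67) (.node 15 (.node 26 (.bad 56) (.bad 33)) (.bad 30))) (.bad 33))) (.bad 33)) (.bad 61)) (.bad 61))))

/-- A part of the search. -/
def cert27 : SuzRec.STree := (.node 0 (.node 27 (.node 20 (.bad 51) (.node 25 (.bad 51) (.node 40 (.bad 51) (.node 15 (.node 24 (.node 23 (.bad 11) (.node 35 (.node 37 (.node 28 (.bad 20) (.node 11 (.node 3 (.bad 23) (.node 4 (.bad 3) (.node 7 (.node 8 (.bad 3) (.node 9 (.bad 15) (.node 10 (.node 14 (.node 18 (.bad 48) (.node 19 (.node 21 (.node 22 (.node 26 (.bad 37) (.bad 50)) (.bad 64)) (.bad 10)) (.bad 12))) (.bad 50)) (.bad 12)))) (.bad 61)))) (.bad 29))) (.bad 30))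 (.bad 30))) (.bad 30)) (.bad 30))))) (.node 51 (.node 3 (.bad 27) (.node 19 (.bad 27) (.node 37 (.bad 27) (.node 41 (.bad 27) (.node 65 (.bad 27) (.node 15 (.node 18 (.node 20 (.node 7 (.bad 37) (.node 4 (.node 8 (.bad 3) (.node 14 (.node 22 (.node 23 (.bad 3) (.node 24 (.node 26 (.bad 37) (.bad 50)) (.bad 30))) (.bad 64)) (.bad 50))) (.bad 61))) (.bad 30)) (.bad 64)) (.bad 30))))))) (.node 18 (.node 22 (.node 28 (.node 7 (.bad 48) (.node 40 (.node 20 (.bad 51) (.node 25 (.bad 51) (.node 37 (.bad 20) (.node 8 (.node 11 (.node 14 (.bad 42) (.bad 50)) (.bad 19)) (.bad 50))))) (.bad 64))) (.bad 16)) (.bad 64)) (.bad 64)))) (.node 3 (.node 52 (.node 11 (.bad 0) (.node 42 (.bad 0) (.node 51 (.bad 0) (.node 54 (.bad 0) (.node 27 (.node 20 (.bad 51) (.node 8 (.node 14 (.node 21 (.bad 42) (.node 25 (.bad 51) (.node 9 (.node 5 (.bad 68) (.node 7 (.node 10 (.node 19 (.node 24 (.node 18 (.bad 48) (.node 22 (.bad 18)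 (.bad 64))) (.bad 19)) (.bad 6)) (.bad 12)) (.bad 49))) (.bad 12)))) (.bad 50)) (.bad 50))) (.node 4 (.node 8 (.node 18 (.node 21 (.bad 10) (.node 22 (.node 23 (.node 9 (.bad 46) (.node 10 (.node 19 (.node 15 (.bad 11) (.node 24 (.bad 11) (.node 5 (.bad 24) (.bad 36)))) (.bad 12)) (.bad 12))) (.bad 3)) (.bad 64))) (.bad 64)) (.bad 3)) (.bad 3))))))) (.node 4 (.node 7 (.node 48 (.node 59 (.node 14 (.bad 70) (.node 32 (.bad 70) (.node 35 (.bad 70) (.node 37 (.bad 7) (.node 8 (.node 15 (.node 20 (.bad 37) (.bad 30)) (.bad 30)) (.bad 50)))))) (.bad 61)) (.bad 61)) (.bad 61)) (.bad 61))) (.node 4 (.node 7 (.node 48 (.node 52 (.node 59 (.node 14 (.bad 70) (.node 5 (.node 9 (.bad 68) (.node 19 (.node 11 (.bad 24) (.node 8 (.node 18 (.bad 24) (.node 20 (.bad 37) (.node 24 (.node 10 (.bad 18) (.node 21 (.bad 10) (.bad 12))) (.bad 24)))) (.bad 42))) (.bad 6))) (.bad 6))) (.bad 61)) (.bad 61)) (.bad 61)) (.bad 61))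 (.bad 61))))

/-- A part of the search. -/
def cert28 : SuzRec.STree := (.node 0 (.node 3 (.node 4 (.node 8 (.bad 3) (.node 23 (.bad 3) (.node 11 (.bad 23) (.node 15 (.node 18 (.node 10 (.bad 8) (.node 19 (.bad 11) (.node 9 (.node 21 (.bad 10) (.bad 12)) (.bad 12)))) (.bad 13)) (.bad 29))))) (.node 52 (.node 5 (.bad 4) (.node 11 (.bad 0) (.node 23 (.bad 11) (.node 9 (.node 15 (.node 18 (.node 19 (.bad 11) (.node 14 (.node 8 (.bad 42) (.node 10 (.bad 8) (.node 21 (.bad 10) (.bad 12)))) (.bad 6))) (.bad 13)) (.bad 29)) (.bad 46))))) (.node 7 (.node 48 (.node 59 (.node 14 (.bad 70) (.node 32 (.bad 70) (.node 35 (.bad 70) (.node 65 (.bad 70) (.node 8 (.node 11 (.bad 23) (.node 9 (.node 15 (.node 18 (.node 19 (.bad 11) (.node 5 (.node 21 (.bad 10) (.node 10 (.node 22 (.bad 18) (.node 23 (.bad 3) (.bad 29))) (.bad 12))) (.bad 6))) (.bad 46)) (.bad 1)) (.bad 46))) (.bad 1)))))) (.bad 61)) (.bad 61)) (.bad 61))))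 (.node 4 (.bad 3) (.node 7 (.node 8 (.bad 3) (.node 23 (.bad 3) (.node 27 (.bad 3) (.node 41 (.bad 3) (.node 15 (.node 35 (.node 11 (.bad 23) (.node 9 (.node 18 (.node 19 (.bad 11) (.node 5 (.node 14 (.node 21 (.bad 55) (.node 10 (.node 24 (.bad 11) (.node 25 (.node 26 (.bad 55) (.node 20 (.node 28 (.bad 48) (.bad 29)) (.bad 37))) (.bad 6))) (.bad 12))) (.bad 6)) (.bad 6))) (.bad 13)) (.bad 46))) (.bad 1)) (.bad 1)))))) (.bad 61)))) (.node 3 (.node 11 (.bad 0) (.node 42 (.bad 0) (.node 51 (.bad 0) (.node 52 (.bad 0) (.node 4 (.node 7 (.node 48 (.node 54 (.bad 0) (.node 8 (.node 14 (.bad 42) (.node 5 (.node 15 (.node 19 (.node 20 (.node 21 (.bad 42) (.node 23 (.bad 11) (.node 9 (.node 18 (.node 24 (.bad 11) (.bad 24)) (.bad 13)) (.bad 46)))) (.bad 50)) (.bad 6)) (.bad 1)) (.bad 6))) (.bad 1))) (.bad 61)) (.bad 61)) (.bad 61)))))) (.node 4 (.node 5 (.node 7 (.node 14 (.node 19 (.node 25 (.node 38 (.bad 62)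 (.node 43 (.node 47 (.bad 53) (.node 22 (.bad 47) (.node 31 (.bad 47) (.node 26 (.node 20 (.bad 37) (.node 32 (.node 15 (.bad 35) (.node 11 (.node 8 (.bad 23) (.node 23 (.node 10 (.bad 8) (.node 9 (.node 18 (.bad 8) (.node 21 (.bad 55) (.bad 12))) (.bad 12))) (.bad 23))) (.bad 29))) (.bad 33))) (.bad 33))))) (.bad 6))) (.bad 6)) (.bad 6)) (.bad 6)) (.bad 61)) (.bad 6)) (.bad 61))))

/-- A part of the search. -/
def cert29 : SuzRec.STree := (.node 0 (.node 3 (.node 4 (.node 8 (.bad 3) (.node 23 (.bad 3) (.node 11 (.bad 23) (.node 15 (.node 18 (.node 10 (.bad 8) (.node 19 (.bad 11) (.node 9 (.node 20 (.bad 56) (.node 14 (.node 21 (.bad 10) (.bad 12)) (.bad 50))) (.bad 12)))) (.bad 13)) (.bad 29))))) (.node 52 (.node 5 (.bad 4) (.node 11 (.bad 0) (.node 23 (.bad 11) (.node 9 (.node 15 (.node 18 (.node 19 (.bad 11) (.node 24 (.bad 11) (.node 26 (.bad 56) (.node 22 (.node 25 (.node 8 (.bad 23) (.node 10 (.bad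 8) (.node 14 (.node 20 (.node 21 (.bad 10) (.bad 12)) (.bad 50)) (.bad 50)))) (.bad 33)) (.bad 52))))) (.bad 13)) (.bad 29)) (.bad 46))))) (.node 7 (.node 48 (.node 59 (.node 14 (.bad 70) (.node 32 (.bad 70) (.node 35 (.bad 70) (.node 65 (.bad 70) (.node 8 (.node 11 (.bad 23) (.node 9 (.node 15 (.node 18 (.node 19 (.bad 11) (.node 21 (.bad 10) (.node 10 (.node 22 (.bad 18) (.node 23 (.bad 3) (.bad 29))) (.bad 12)))) (.bad 46)) (.bad 1)) (.bad 46))) (.bad 1)))))) (.bad 61)) (.bad 61)) (.bad 61)))) (.node 4 (.bad 3) (.node 7 (.node 8 (.bad 3) (.node 23 (.bad 3) (.node 27 (.bad 3) (.node 41 (.bad 3) (.node 15 (.node 35 (.node 11 (.bad 23) (.node 9 (.node 18 (.node 19 (.bad 11) (.node 21 (.bad 60) (.node 10 (.node 24 (.bad 11) (.node 5 (.node 25 (.node 26 (.bad 55) (.bad 33)) (.bad 12)) (.bad 36))) (.bad 12)))) (.bad 13)) (.bad 46))) (.bad 1)) (.bad 1)))))) (.bad 61)))) (.node 3 (.node 11 (.bad 0) (.node 42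 (.bad 0) (.node 51 (.bad 0) (.node 52 (.bad 0) (.node 4 (.node 7 (.node 48 (.node 54 (.bad 0) (.node 8 (.node 14 (.bad 42) (.node 15 (.node 20 (.node 9 (.bad 56) (.node 18 (.node 21 (.bad 42) (.node 10 (.bad 10) (.bad 12))) (.bad 46))) (.bad 50)) (.bad 1))) (.bad 1))) (.bad 61)) (.bad 61)) (.bad 61)))))) (.node 4 (.node 7 (.node 19 (.node 25 (.node 26 (.node 9 (.bad 56) (.node 15 (.bad 56) (.node 20 (.bad 37) (.node 31 (.node 32 (.node 35 (.bad 15) (.node 8 (.node 11 (.bad 23) (.bad 29)) (.bad 1))) (.bad 33)) (.bad 33))))) (.bad 33)) (.bad 33)) (.bad 33)) (.bad 61)) (.bad 61))))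

/-- A part of the search. -/
def cert30 : SuzRec.STree := (.node 0 (.node 8 (.node 11 (.bad 42) (.node 14 (.bad 42) (.node 21 (.bad 42) (.node 5 (.node 7 (.node 10 (.node 23 (.bad 11) (.node 15 (.node 18 (.node 19 (.bad 11) (.node 9 (.node 20 (.bad 48) (.node 24 (.bad 11) (.node 25 (.bad 25) (.bad 12)))) (.bad 12))) (.bad 13)) (.bad 29))) (.bad 49)) (.bad 49)) (.bad 49))))) (.node 42 (.node 3 (.bad 8) (.node 10 (.bad 8) (.node 18 (.bad 8) (.node 23 (.bad 8) (.node 11 (.node 25 (.bad 23) (.node 9 (.node 19 (.node 15 (.bad 11) (.node 21 (.bad 10) (.bad 12))) (.bad 12)) (.bad 12))) (.bad 13)))))) (.node 14 (.node 11 (.bad 42) (.node 3 (.node 15 (.node 19 (.bad 11) (.node 20 (.node 21 (.bad 42) (.node 9 (.node 10 (.node 18 (.bad 8) (.node 23 (.bad 8) (.bad 13))) (.bad 12)) (.bad 12))) (.bad 50))) (.bad 1)) (.bad 0))) (.bad 50)))) (.node 3 (.node 52 (.node 11 (.bad 0) (.node 42 (.bad 0) (.node 51 (.bad 0) (.node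 54 (.bad 0) (.node 8 (.node 14 (.bad 42) (.node 15 (.node 20 (.node 21 (.bad 42) (.node 5 (.node 4 (.node 7 (.node 9 (.bad 68) (.node 10 (.node 18 (.bad 48) (.bad 10)) (.bad 12))) (.bad 49)) (.bad 4)) (.bad 49))) (.bad 50)) (.bad 1))) (.bad 1)))))) (.node 4 (.node 7 (.node 48 (.node 59 (.node 14 (.bad 70) (.node 32 (.bad 70) (.node 35 (.bad 70) (.node 37 (.bad 7) (.node 8 (.node 11 (.bad 23) (.node 15 (.node 20 (.node 18 (.bad 48) (.node 9 (.node 10 (.bad 18) (.node 5 (.node 19 (.bad 37) (.node 21 (.bad 10) (.bad 12))) (.bad 49))) (.bad 46))) (.bad 50)) (.bad 29))) (.bad 50)))))) (.bad 61)) (.bad 61)) (.bad 61)) (.bad 61))) (.node 4 (.node 7 (.node 48 (.node 52 (.node 59 (.node 14 (.bad 70) (.node 5 (.node 9 (.bad 68) (.node 19 (.node 25 (.node 32 (.bad 70) (.node 35 (.bad 70) (.node 37 (.bad 7) (.node 8 (.node 11 (.bad 23) (.node 15 (.node 20 (.bad 37) (.bad 50)) (.bad 29))) (.bad 50))))) (.bad 6)) (.bad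 6))) (.bad 6))) (.bad 61)) (.bad 61)) (.bad 61)) (.bad 61)) (.bad 61))))

/-- A part of the search. -/
def cert31 : SuzRec.STree := (.node 0 (.node 3 (.node 4 (.node 8 (.bad 3) (.node 23 (.bad 3) (.node 11 (.bad 23) (.node 15 (.node 18 (.node 10 (.bad 8) (.node 19 (.bad 11) (.node 9 (.node 21 (.bad 10) (.bad 12)) (.bad 12)))) (.bad 13)) (.bad 29))))) (.node 52 (.node 5 (.bad 4) (.node 11 (.bad 0) (.node 23 (.bad 11) (.node 9 (.node 15 (.node 18 (.node 19 (.bad 11) (.node 14 (.node 8 (.bad 42) (.node 10 (.bad 8) (.node 21 (.bad 10) (.bad 12)))) (.bad 6))) (.bad 13)) (.bad 29)) (.bad 46))))) (.node 7 (.node 48 (.node 59 (.node 14 (.bad 70) (.node 32 (.bad 70) (.node 35 (.bad 70) (.node 65 (.bad 70) (.node 70 (.node 15 (.bad 59) (.node 8 (.node 11 (.bad 23) (.bad 29)) (.bad 1))) (.bad 61)))))) (.bad 61)) (.bad 61)) (.bad 61)))) (.node 4 (.bad 3) (.node 7 (.node 8 (.bad 3) (.node 23 (.bad 3) (.node 27 (.bad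 3) (.node 41 (.bad 3) (.node 22 (.node 38 (.node 42 (.node 10 (.bad 8) (.node 18 (.bad 8) (.node 9 (.node 5 (.bad 68) (.node 11 (.node 14 (.node 19 (.node 15 (.bad 11) (.node 21 (.bad 42) (.node 24 (.bad 11) (.bad 36)))) (.bad 6)) (.bad 6)) (.bad 13))) (.bad 46)))) (.bad 17)) (.bad 17)) (.bad 17)))))) (.bad 61)))) (.node 3 (.node 11 (.bad 0) (.node 42 (.bad 0) (.node 51 (.bad 0) (.node 52 (.bad 0) (.node 4 (.node 7 (.node 48 (.node 54 (.bad 0) (.node 8 (.node 14 (.bad 42) (.node 5 (.node 19 (.node 20 (.node 21 (.bad 42) (.node 22 (.node 10 (.bad 18) (.node 9 (.node 18 (.node 23 (.bad 11) (.node 15 (.node 24 (.bad 11) (.bad 24)) (.bad 29))) (.bad 18)) (.bad 12))) (.bad 17))) (.bad 50)) (.bad 6)) (.bad 6))) (.bad 17))) (.bad 61)) (.bad 61)) (.bad 61)))))) (.node 4 (.node 5 (.node 7 (.node 14 (.node 19 (.node 25 (.node 38 (.bad 62) (.node 43 (.node 47 (.bad 53) (.node 22 (.bad 47) (.node 8 (.node 11 (.bad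 23) (.node 15 (.node 18 (.node 21 (.bad 42) (.node 9 (.node 10 (.node 23 (.bad 3) (.bad 13)) (.bad 12)) (.bad 12))) (.bad 13)) (.bad 29))) (.bad 17)))) (.bad 6))) (.bad 6)) (.bad 6)) (.bad 6)) (.bad 61)) (.bad 6)) (.bad 61))))

/-- A part of the search. -/
def cert32 : SuzRec.STree := (.node 0 (.node 3 (.node 4 (.node 8 (.bad 3) (.node 23 (.bad 3) (.node 11 (.bad 23) (.node 15 (.node 18 (.node 10 (.bad 8) (.node 19 (.bad 11) (.node 9 (.node 20 (.bad 56) (.node 14 (.node 21 (.bad 10) (.bad 12)) (.bad 50))) (.bad 12)))) (.bad 13)) (.bad 29))))) (.node 52 (.node 5 (.bad 4) (.node 11 (.bad 0) (.node 23 (.bad 11) (.node 9 (.node 15 (.node 18 (.node 19 (.bad 11) (.node 24 (.bad 11) (.node 26 (.bad 56) (.node 22 (.node 25 (.node 8 (.bad 23) (.node 10 (.bad 8) (.node 14 (.node 20 (.node 21 (.bad 10) (.bad 12)) (.bad 50)) (.bad 50)))) (.bad 33)) (.bad 52))))) (.bad 13)) (.bad 29)) (.bad 46))))) (.node 7 (.node 48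 (.node 59 (.node 14 (.bad 70) (.node 32 (.bad 70) (.node 35 (.bad 70) (.node 65 (.bad 70) (.node 70 (.node 15 (.bad 59) (.node 8 (.node 11 (.bad 23) (.bad 29)) (.bad 1))) (.bad 61)))))) (.bad 61)) (.bad 61)) (.bad 61)))) (.node 4 (.bad 3) (.node 7 (.node 8 (.bad 3) (.node 23 (.bad 3) (.node 27 (.bad 3) (.node 41 (.bad 3) (.node 22 (.node 38 (.node 42 (.node 10 (.bad 8) (.node 18 (.bad 8) (.node 9 (.node 11 (.node 25 (.bad 23) (.node 19 (.node 15 (.bad 11) (.node 20 (.bad 25) (.node 14 (.node 5 (.bad 62) (.node 21 (.bad 42) (.bad 12))) (.bad 50)))) (.bad 12))) (.bad 13)) (.bad 46)))) (.bad 17)) (.bad 17)) (.bad 17)))))) (.bad 61)))) (.node 3 (.node 11 (.bad 0) (.node 42 (.bad 0) (.node 51 (.bad 0) (.node 52 (.bad 0) (.node 4 (.node 7 (.node 48 (.node 54 (.bad 0) (.node 8 (.node 14 (.bad 42) (.node 20 (.node 21 (.bad 42) (.node 22 (.node 10 (.bad 18) (.node 9 (.node 15 (.bad 56) (.node 18 (.node 19 (.node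 23 (.bad 11) (.bad 29)) (.bad 12)) (.bad 18))) (.bad 12))) (.bad 17))) (.bad 50))) (.bad 17))) (.bad 61)) (.bad 61)) (.bad 61)))))) (.node 4 (.node 7 (.node 19 (.node 25 (.node 26 (.node 9 (.bad 56) (.node 15 (.bad 56) (.node 20 (.bad 37) (.node 31 (.node 32 (.node 22 (.bad 69) (.node 18 (.bad 22) (.node 27 (.node 8 (.bad 3) (.node 11 (.bad 19) (.node 14 (.node 21 (.node 10 (.bad 57) (.node 23 (.bad 3) (.bad 13))) (.bad 10)) (.bad 50)))) (.bad 64)))) (.bad 33)) (.bad 33))))) (.bad 33)) (.bad 33)) (.bad 33)) (.bad 61)) (.bad 61))))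

/-- A part of the search. -/
def cert33 : SuzRec.STree := (.node 0 (.node 8 (.node 11 (.bad 42) (.node 14 (.bad 42) (.node 21 (.bad 42) (.node 5 (.node 7 (.node 10 (.node 23 (.bad 11) (.node 15 (.node 18 (.node 19 (.bad 11) (.node 9 (.node 20 (.bad 48) (.node 24 (.bad 11) (.node 25 (.bad 25) (.bad 12)))) (.bad 12))) (.bad 13)) (.bad 29))) (.bad 49)) (.bad 49)) (.bad 49))))) (.node 42 (.node 3 (.bad 8) (.node 10 (.bad 8) (.node 18 (.bad 8) (.node 23 (.bad 8) (.node 11 (.node 25 (.bad 23) (.node 9 (.node 19 (.node 15 (.bad 11) (.node 21 (.bad 10) (.bad 12))) (.bad 12)) (.bad 12))) (.bad 13)))))) (.node 14 (.node 11 (.bad 42) (.node 3 (.node 20 (.node 21 (.bad 42) (.node 22 (.node 23 (.bad 11) (.node 15 (.node 18 (.node 7 (.bad 48) (.node 5 (.node 10 (.bad 8) (.bad 49)) (.bad 49))) (.bad 13)) (.bad 29))) (.bad 17))) (.bad 50)) (.bad 0))) (.bad 50)))) (.node 3 (.node 52 (.node 11 (.bad 0) (.node 42 (.bad 0)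 (.node 51 (.bad 0) (.node 54 (.bad 0) (.node 8 (.node 14 (.bad 42) (.node 20 (.node 21 (.bad 42) (.node 5 (.node 4 (.node 7 (.node 9 (.bad 68) (.node 10 (.node 18 (.bad 48) (.bad 10)) (.bad 12))) (.bad 49)) (.bad 4)) (.bad 49))) (.bad 50))) (.bad 17)))))) (.node 4 (.node 7 (.node 48 (.node 59 (.node 14 (.bad 70) (.node 32 (.bad 70) (.node 35 (.bad 70) (.node 37 (.bad 7) (.node 8 (.node 11 (.bad 23) (.node 15 (.node 9 (.node 20 (.node 18 (.bad 48) (.node 10 (.bad 18) (.node 5 (.node 19 (.bad 37) (.node 21 (.bad 10) (.bad 12))) (.bad 49)))) (.bad 50)) (.bad 15)) (.bad 29))) (.bad 50)))))) (.bad 61)) (.bad 61)) (.bad 61)) (.bad 61))) (.node 4 (.node 7 (.node 48 (.node 52 (.node 59 (.node 14 (.bad 70) (.node 5 (.node 9 (.bad 68) (.node 19 (.node 25 (.node 32 (.bad 70) (.node 35 (.bad 70) (.node 37 (.bad 7) (.node 8 (.node 11 (.bad 23) (.node 15 (.bad 15) (.bad 29))) (.bad 50))))) (.bad 6)) (.bad 6))) (.bad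 6))) (.bad 61)) (.bad 61)) (.bad 61)) (.bad 61)) (.bad 61))))

/-- A part of the search. -/
def cert34 : SuzRec.STree := (.node 0 (.node 3 (.node 8 (.node 4 (.bad 3) (.node 11 (.bad 23) (.node 23 (.bad 3) (.node 9 (.node 15 (.node 18 (.node 19 (.bad 11) (.node 21 (.bad 10) (.node 10 (.node 24 (.bad 11) (.node 25 (.bad 23) (.bad 12))) (.bad 12)))) (.bad 13)) (.bad 29)) (.bad 46))))) (.node 42 (.node 10 (.bad 8) (.node 11 (.bad 0) (.node 14 (.node 15 (.bad 11) (.node 18 (.bad 8) (.node 19 (.bad 11) (.node 9 (.node 21 (.node 23 (.bad 8) (.bad 13)) (.bad 12)) (.bad 12))))) (.bad 42)))) (.node 14 (.node 20 (.node 26 (.node 7 (.bad 37) (.node 19 (.bad 37) (.node 27 (.bad 37) (.node 37 (.node 25 (.bad 19) (.node 5 (.node 9 (.node 4 (.bad 56) (.node 10 (.node 15 (.bad 56) (.node 21 (.bad 55) (.bad 12))) (.bad 12))) (.bad 12)) (.bad 6))) (.bad 37))))) (.bad 50)) (.bad 50)) (.bad 50)))) (.node 4 (.bad 3) (.node 7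 (.node 8 (.bad 3) (.node 23 (.bad 3) (.node 27 (.bad 3) (.node 41 (.bad 3) (.node 48 (.node 52 (.node 59 (.node 14 (.bad 70) (.node 5 (.node 9 (.bad 68) (.node 11 (.node 18 (.bad 24) (.bad 46)) (.bad 46))) (.bad 6))) (.bad 61)) (.bad 61)) (.bad 61)))))) (.bad 61)))) (.node 3 (.node 11 (.bad 0) (.node 42 (.bad 0) (.node 51 (.bad 0) (.node 52 (.bad 0) (.node 4 (.node 7 (.node 48 (.node 54 (.bad 0) (.node 59 (.node 14 (.bad 70) (.node 5 (.node 8 (.node 19 (.node 18 (.bad 24) (.node 9 (.node 10 (.bad 18) (.bad 8)) (.bad 46))) (.bad 6)) (.bad 42)) (.bad 6))) (.bad 61))) (.bad 61)) (.bad 61)) (.bad 61)))))) (.node 4 (.node 5 (.node 7 (.node 14 (.node 19 (.node 20 (.bad 37) (.node 25 (.node 24 (.bad 67) (.node 11 (.bad 24) (.node 15 (.node 18 (.bad 24) (.node 23 (.bad 11) (.bad 13))) (.bad 30)))) (.bad 6))) (.bad 6)) (.bad 6)) (.bad 61)) (.bad 6)) (.bad 61))))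

/-- A part of the search. -/
def cert35 : SuzRec.STree := (.node 0 (.node 3 (.node 8 (.node 4 (.bad 3) (.node 11 (.bad 23) (.node 23 (.bad 3) (.node 9 (.node 15 (.node 18 (.node 19 (.bad 11) (.node 21 (.bad 10) (.node 10 (.node 24 (.bad 11) (.node 25 (.bad 23) (.bad 12))) (.bad 12)))) (.bad 13)) (.bad 29)) (.bad 46))))) (.node 42 (.node 10 (.bad 8) (.node 11 (.bad 0) (.node 14 (.node 15 (.bad 11) (.node 18 (.bad 8) (.node 19 (.bad 11) (.node 9 (.node 21 (.node 23 (.bad 8) (.bad 13)) (.bad 12)) (.bad 12))))) (.bad 42)))) (.node 14 (.node 20 (.node 26 (.node 4 (.bad 56) (.node 7 (.bad 37) (.node 9 (.bad 56) (.node 15 (.bad 56) (.node 19 (.bad 37) (.node 10 (.node 21 (.node 11 (.bad 42) (.node 18 (.node 23 (.bad 8) (.bad 29)) (.bad 46))) (.bad 10)) (.bad 12))))))) (.bad 50)) (.bad 50)) (.bad 50)))) (.node 4 (.bad 3) (.node 7 (.node 8 (.bad 3) (.node 23 (.bad 3) (.node 27 (.bad 3) (.node 41 (.bad 3) (.node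 48 (.node 52 (.node 59 (.node 14 (.bad 70) (.node 20 (.node 19 (.bad 37) (.node 5 (.node 25 (.node 11 (.bad 19) (.node 9 (.node 15 (.node 18 (.node 21 (.bad 60) (.bad 42)) (.bad 13)) (.bad 29)) (.bad 46))) (.bad 6)) (.bad 6))) (.bad 50))) (.bad 61)) (.bad 61)) (.bad 61)))))) (.bad 61)))) (.node 3 (.node 11 (.bad 0) (.node 42 (.bad 0) (.node 51 (.bad 0) (.node 52 (.bad 0) (.node 4 (.node 7 (.node 48 (.node 54 (.bad 0) (.node 59 (.node 14 (.bad 70) (.node 8 (.node 20 (.node 19 (.bad 37) (.node 5 (.node 25 (.node 23 (.node 15 (.bad 11) (.node 24 (.bad 11) (.node 18 (.bad 24) (.node 9 (.node 10 (.bad 18) (.bad 8)) (.bad 46))))) (.bad 23)) (.bad 6)) (.bad 6))) (.bad 50)) (.bad 42))) (.bad 61))) (.bad 61)) (.bad 61)) (.bad 61)))))) (.node 4 (.node 7 (.node 19 (.node 20 (.bad 37) (.node 25 (.node 24 (.bad 67) (.node 15 (.node 23 (.bad 11) (.node 11 (.bad 23) (.node 18 (.node 5 (.bad 24) (.node 14 (.node 21 (.bad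 60) (.node 8 (.node 26 (.bad 56) (.bad 33)) (.bad 42))) (.bad 6))) (.bad 13)))) (.bad 30))) (.bad 33))) (.bad 33)) (.bad 61)) (.bad 61))))

/-- A part of the search. -/
def cert36 : SuzRec.STree := (.node 0 (.node 23 (.node 11 (.node 15 (.bad 11) (.node 19 (.bad 11) (.node 24 (.bad 11) (.node 20 (.node 35 (.bad 15) (.bad 30)) (.bad 30))))) (.bad 11)) (.node 11 (.node 3 (.bad 23) (.node 8 (.bad 23) (.node 25 (.bad 23) (.node 35 (.bad 23) (.node 15 (.node 26 (.bad 35) (.node 14 (.node 20 (.node 28 (.node 7 (.bad 48) (.node 4 (.node 27 (.bad 3) (.node 32 (.bad 35) (.node 10 (.node 19 (.node 21 (.node 24 (.bad 11) (.bad 19)) (.bad 21)) (.bad 33)) (.bad 57)))) (.bad 61))) (.bad 29)) (.bad 50)) (.bad 50))) (.bad 29)))))) (.node 15 (.node 18 (.node 19 (.bad 11) (.node 24 (.bad 11) (.node 28 (.node 7 (.bad 48) (.node 35 (.node 38 (.node 42 (.bad 11) (.node 3 (.node 8 (.bad 23) (.node 14 (.node 20 (.node 25 (.bad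 23) (.node 9 (.node 5 (.bad 68) (.node 10 (.node 21 (.bad 10) (.bad 12)) (.bad 12))) (.bad 12))) (.bad 50)) (.bad 50))) (.bad 0))) (.bad 29)) (.bad 29))) (.bad 29)))) (.bad 13)) (.bad 29)))) (.node 3 (.node 52 (.node 11 (.bad 0) (.node 42 (.bad 0) (.node 51 (.bad 0) (.node 54 (.bad 0) (.node 23 (.node 15 (.bad 11) (.node 8 (.node 19 (.bad 11) (.node 24 (.bad 11) (.node 5 (.node 4 (.node 9 (.bad 68) (.node 10 (.node 20 (.node 21 (.node 14 (.bad 42) (.node 18 (.bad 10) (.node 22 (.bad 18) (.bad 64)))) (.bad 12)) (.bad 30)) (.bad 12))) (.bad 4)) (.bad 36)))) (.bad 1))) (.node 4 (.node 8 (.node 10 (.node 15 (.node 18 (.node 21 (.bad 10) (.node 25 (.bad 23) (.node 9 (.node 5 (.bad 68) (.node 7 (.node 14 (.node 19 (.node 20 (.bad 37) (.node 24 (.bad 11) (.bad 19))) (.bad 6)) (.bad 6)) (.bad 49))) (.bad 12)))) (.bad 8)) (.bad 29)) (.bad 8)) (.bad 3)) (.bad 3))))))) (.node 4 (.node 7 (.node 48 (.node 59 (.node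 14 (.bad 70) (.node 32 (.bad 70) (.node 35 (.bad 70) (.node 37 (.bad 7) (.node 8 (.node 11 (.bad 23) (.node 15 (.node 20 (.bad 37) (.bad 30)) (.bad 29))) (.bad 50)))))) (.bad 61)) (.bad 61)) (.bad 61)) (.bad 61))) (.node 4 (.node 7 (.node 48 (.node 52 (.node 59 (.node 14 (.bad 70) (.node 5 (.node 9 (.bad 68) (.node 19 (.node 11 (.bad 24) (.node 8 (.node 18 (.bad 24) (.node 10 (.bad 18) (.node 20 (.bad 37) (.node 21 (.bad 10) (.bad 12))))) (.bad 42))) (.bad 6))) (.bad 6))) (.bad 61)) (.bad 61)) (.bad 61)) (.bad 61)) (.bad 61))))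

/-- A part of the search. -/
def cert37 : SuzRec.STree := (.node 0 (.node 3 (.node 4 (.node 8 (.bad 3) (.node 22 (.bad 52) (.node 23 (.bad 3) (.node 11 (.bad 23) (.node 9 (.node 15 (.node 18 (.node 10 (.bad 8) (.node 19 (.bad 11) (.node 21 (.bad 10) (.bad 12)))) (.bad 46)) (.bad 29)) (.bad 46)))))) (.node 52 (.bad 4) (.node 7 (.node 9 (.node 11 (.node 8 (.bad 23) (.node 18 (.node 10 (.bad 8) (.node 21 (.bad 10) (.node 19 (.node 23 (.bad 8) (.bad 23)) (.bad 12)))) (.bad 46))) (.bad 46)) (.bad 46)) (.bad 61)))) (.node 4 (.bad 3) (.node 7 (.node 8 (.bad 3) (.node 23 (.bad 3) (.node 9 (.node 11 (.node 18 (.node 21 (.bad 60) (.node 25 (.bad 23) (.node 5 (.node 10 (.node 14 (.node 19 (.node 20 (.bad 25) (.node 24 (.node 15 (.bad 11) (.node 26 (.bad 55) (.bad 50))) (.bad 24))) (.bad 6)) (.bad 6)) (.bad 12)) (.bad 6)))) (.bad 46)) (.bad 46)) (.bad 46)))) (.bad 61)))) (.node 3 (.node 11 (.bad 0) (.node 42 (.bad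 0) (.node 51 (.bad 0) (.node 52 (.bad 0) (.node 4 (.node 7 (.node 9 (.node 18 (.node 21 (.bad 60) (.node 22 (.bad 52) (.node 23 (.node 8 (.node 10 (.bad 8) (.node 14 (.bad 42) (.node 5 (.node 15 (.bad 11) (.node 19 (.bad 11) (.bad 6))) (.bad 6)))) (.bad 8)) (.bad 46)))) (.bad 46)) (.bad 46)) (.bad 61)) (.bad 46)))))) (.node 4 (.node 5 (.node 7 (.node 14 (.node 19 (.node 25 (.node 38 (.bad 62) (.node 43 (.node 48 (.node 10 (.bad 49) (.node 21 (.bad 49) (.node 9 (.node 26 (.bad 55) (.node 31 (.node 32 (.node 35 (.bad 15) (.node 11 (.node 8 (.bad 23) (.node 15 (.bad 35) (.bad 1))) (.bad 29))) (.bad 33)) (.bad 33))) (.bad 12)))) (.bad 61)) (.bad 6))) (.bad 6)) (.bad 6)) (.bad 6)) (.bad 61)) (.bad 6)) (.bad 61))))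

/-- A part of the search. -/
def cert38 : SuzRec.STree := (.node 0 (.node 3 (.node 4 (.node 8 (.bad 3) (.node 22 (.bad 52) (.node 23 (.bad 3) (.node 11 (.bad 23) (.node 9 (.node 15 (.node 18 (.node 10 (.bad 8) (.node 19 (.bad 11) (.node 20 (.bad 56) (.node 14 (.node 21 (.bad 10) (.bad 12)) (.bad 50))))) (.bad 46)) (.bad 29)) (.bad 46)))))) (.node 52 (.bad 4) (.node 7 (.node 9 (.node 11 (.node 8 (.bad 23) (.node 18 (.node 10 (.bad 8) (.node 21 (.bad 10) (.node 19 (.node 23 (.bad 8) (.bad 23)) (.bad 12)))) (.bad 46))) (.bad 46)) (.bad 46)) (.bad 61)))) (.node 4 (.bad 3) (.node 7 (.node 8 (.bad 3) (.node 23 (.bad 3) (.node 9 (.node 11 (.node 18 (.node 21 (.bad 60) (.node 25 (.bad 23) (.node 10 (.node 19 (.node 20 (.bad 25) (.node 14 (.node 26 (.node 5 (.bad 55) (.node 15 (.bad 56) (.node 27 (.bad 3) (.node 28 (.node 24 (.bad 48) (.node 31 (.bad 15) (.bad 33))) (.bad 29))))) (.bad 33)) (.bad 50))) (.bad 12))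 (.bad 12)))) (.bad 46)) (.bad 46)) (.bad 46)))) (.bad 61)))) (.node 3 (.node 11 (.bad 0) (.node 42 (.bad 0) (.node 51 (.bad 0) (.node 52 (.bad 0) (.node 4 (.node 7 (.node 9 (.node 18 (.node 21 (.bad 60) (.node 22 (.bad 52) (.node 23 (.node 8 (.node 10 (.bad 8) (.node 14 (.bad 42) (.node 15 (.bad 11) (.node 19 (.bad 11) (.bad 12))))) (.bad 8)) (.bad 46)))) (.bad 46)) (.bad 46)) (.bad 61)) (.bad 46)))))) (.node 4 (.node 7 (.node 19 (.node 25 (.node 26 (.node 9 (.bad 56) (.node 15 (.bad 56) (.node 20 (.bad 37) (.node 22 (.bad 52) (.node 31 (.node 32 (.node 35 (.bad 15) (.node 8 (.node 11 (.bad 23) (.bad 29)) (.bad 1))) (.bad 33)) (.bad 33)))))) (.bad 33)) (.bad 33)) (.bad 33)) (.bad 61)) (.bad 61))))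

/-- A part of the search. -/
def cert39 : SuzRec.STree := (.node 0 (.node 8 (.node 11 (.bad 42) (.node 14 (.bad 42) (.node 21 (.bad 42) (.node 5 (.node 7 (.node 10 (.node 23 (.bad 11) (.node 4 (.node 3 (.node 9 (.node 15 (.node 18 (.node 19 (.bad 11) (.node 20 (.bad 48) (.node 22 (.bad 52) (.node 24 (.bad 11) (.node 25 (.bad 23) (.bad 12)))))) (.bad 46)) (.bad 29)) (.bad 46)) (.bad 3)) (.bad 46))) (.bad 49)) (.bad 49)) (.bad 49))))) (.node 42 (.node 3 (.bad 8) (.node 10 (.bad 8) (.node 18 (.bad 8) (.node 23 (.bad 8) (.node 4 (.node 9 (.node 11 (.node 21 (.bad 10) (.node 5 (.node 7 (.node 14 (.node 19 (.node 15 (.bad 11) (.node 22 (.bad 52) (.node 24 (.bad 11) (.node 25 (.bad 23) (.bad 12))))) (.bad 12)) (.bad 49)) (.bad 49)) (.bad 49))) (.bad 46)) (.bad 46)) (.bad 46)))))) (.node 14 (.node 11 (.bad 42) (.node 3 (.node 15 (.node 19 (.bad 11) (.node 20 (.node 21 (.bad 42) (.node 9 (.node 10 (.node 18 (.bad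 8) (.node 4 (.node 22 (.bad 52) (.node 23 (.bad 8) (.bad 46))) (.bad 46))) (.bad 12)) (.bad 12))) (.bad 50))) (.bad 1)) (.bad 0))) (.bad 50)))) (.node 3 (.node 52 (.node 4 (.node 5 (.bad 4) (.node 11 (.bad 0) (.node 42 (.bad 0) (.node 51 (.bad 0) (.node 54 (.bad 0) (.node 8 (.node 14 (.bad 42) (.node 7 (.node 10 (.node 15 (.node 19 (.node 20 (.node 18 (.bad 48) (.node 9 (.node 21 (.bad 10) (.bad 49)) (.bad 46))) (.bad 50)) (.bad 6)) (.bad 1)) (.bad 49)) (.bad 49))) (.bad 1))))))) (.bad 4)) (.node 4 (.node 7 (.node 22 (.bad 52) (.node 26 (.bad 52) (.node 38 (.bad 52) (.node 48 (.node 59 (.node 37 (.bad 7) (.node 8 (.node 11 (.bad 23) (.node 9 (.node 14 (.bad 43) (.bad 50)) (.bad 46))) (.bad 50))) (.bad 61)) (.bad 61))))) (.bad 61)) (.bad 61))) (.node 4 (.node 7 (.node 48 (.node 52 (.node 59 (.node 37 (.bad 7) (.node 58 (.bad 7) (.node 60 (.bad 7) (.node 18 (.bad 60) (.node 9 (.node 5 (.bad 68) (.node 11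 (.node 14 (.node 8 (.bad 42) (.node 15 (.node 19 (.node 20 (.bad 37) (.bad 50)) (.bad 6)) (.bad 15))) (.bad 6)) (.bad 46))) (.bad 46)))))) (.bad 61)) (.bad 61)) (.bad 61)) (.bad 61)) (.bad 61))))

/-- A part of the search. -/
def cert40 : SuzRec.STree := (.node 0 (.node 3 (.node 4 (.node 8 (.bad 3) (.node 22 (.bad 52) (.node 23 (.bad 3) (.node 11 (.bad 23) (.node 9 (.node 15 (.node 18 (.node 10 (.bad 8) (.node 19 (.bad 11) (.node 20 (.bad 56) (.node 14 (.node 21 (.bad 10) (.bad 12)) (.bad 50))))) (.bad 46)) (.bad 29)) (.bad 46)))))) (.node 52 (.bad 4) (.node 7 (.node 9 (.node 11 (.node 8 (.bad 23) (.node 18 (.node 10 (.bad 8) (.node 21 (.bad 10) (.node 19 (.node 23 (.bad 8) (.bad 23)) (.bad 12)))) (.bad 46))) (.bad 46)) (.bad 46)) (.bad 61)))) (.node 4 (.bad 3) (.node 7 (.node 8 (.bad 3) (.node 23 (.bad 3) (.node 9 (.node 11 (.node 18 (.node 21 (.bad 60) (.node 25 (.bad 23) (.node 10 (.node 19 (.node 20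 (.bad 25) (.node 14 (.node 26 (.node 5 (.bad 55) (.node 15 (.bad 56) (.node 27 (.bad 3) (.node 28 (.node 24 (.bad 48) (.node 31 (.node 22 (.node 32 (.node 35 (.bad 15) (.bad 29)) (.bad 33)) (.bad 22)) (.bad 33))) (.bad 29))))) (.bad 33)) (.bad 50))) (.bad 12)) (.bad 12)))) (.bad 46)) (.bad 46)) (.bad 46)))) (.bad 61)))) (.node 3 (.node 11 (.bad 0) (.node 42 (.bad 0) (.node 51 (.bad 0) (.node 52 (.bad 0) (.node 4 (.node 7 (.node 9 (.node 18 (.node 21 (.bad 60) (.node 22 (.bad 52) (.node 8 (.node 14 (.bad 42) (.node 20 (.node 15 (.bad 56) (.node 23 (.node 10 (.bad 8) (.node 19 (.bad 11) (.bad 12))) (.bad 29))) (.bad 50))) (.bad 17)))) (.bad 46)) (.bad 46)) (.bad 61)) (.bad 46)))))) (.node 4 (.node 7 (.node 19 (.node 25 (.node 26 (.node 9 (.bad 56) (.node 15 (.bad 56) (.node 20 (.bad 37) (.node 22 (.bad 52) (.node 31 (.node 18 (.bad 22) (.node 11 (.node 8 (.bad 23) (.node 14 (.node 21 (.node 23 (.node 24 (.bad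 11) (.node 27 (.bad 3) (.bad 64))) (.bad 23)) (.bad 10)) (.bad 50))) (.bad 46))) (.bad 33)))))) (.bad 33)) (.bad 33)) (.bad 33)) (.bad 61)) (.bad 61))))

/-- A part of the search. -/
def cert41 : SuzRec.STree := (.node 0 (.node 4 (.node 22 (.bad 52) (.node 26 (.bad 52) (.node 38 (.bad 52) (.node 8 (.node 3 (.node 11 (.bad 23) (.node 14 (.bad 42) (.node 15 (.node 19 (.bad 11) (.node 20 (.node 21 (.bad 42) (.node 5 (.node 7 (.node 9 (.node 10 (.node 18 (.bad 48) (.node 23 (.bad 3) (.bad 29))) (.bad 12)) (.bad 12)) (.bad 49)) (.bad 49))) (.bad 50))) (.bad 29)))) (.bad 3)) (.bad 17))))) (.node 52 (.node 3 (.bad 4) (.node 5 (.bad 4) (.node 7 (.node 48 (.node 56 (.bad 4) (.node 59 (.node 37 (.bad 7) (.node 8 (.node 11 (.bad 42) (.node 9 (.node 14 (.bad 42) (.bad 50)) (.bad 46))) (.bad 50))) (.bad 61))) (.bad 61)) (.bad 61)))) (.node 3 (.node 7 (.node 9 (.node 11 (.node 8 (.bad 23) (.node 18 (.node 10 (.bad 8)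 (.node 20 (.bad 48) (.node 14 (.node 21 (.bad 10) (.node 5 (.node 19 (.node 23 (.bad 8) (.bad 23)) (.bad 12)) (.bad 49))) (.bad 50)))) (.bad 46))) (.bad 46)) (.bad 46)) (.bad 61)) (.bad 61)))) (.node 3 (.node 52 (.node 4 (.node 5 (.bad 4) (.node 11 (.bad 0) (.node 42 (.bad 0) (.node 51 (.bad 0) (.node 54 (.bad 0) (.node 8 (.node 14 (.bad 42) (.node 7 (.node 10 (.node 19 (.node 20 (.node 18 (.bad 48) (.node 9 (.node 21 (.bad 10) (.bad 49)) (.bad 46))) (.bad 50)) (.bad 6)) (.bad 49)) (.bad 49))) (.bad 17))))))) (.bad 4)) (.node 4 (.node 7 (.node 22 (.bad 52) (.node 26 (.bad 52) (.node 38 (.bad 52) (.node 8 (.node 11 (.bad 23) (.node 9 (.node 15 (.node 18 (.node 10 (.node 20 (.bad 48) (.node 14 (.node 21 (.bad 10) (.node 23 (.bad 8) (.bad 29))) (.bad 50))) (.bad 10)) (.bad 46)) (.bad 29)) (.bad 46))) (.bad 17))))) (.bad 61)) (.bad 61))) (.node 4 (.node 7 (.node 48 (.node 52 (.node 59 (.node 37 (.bad 7) (.node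 58 (.bad 7) (.node 60 (.bad 7) (.node 18 (.bad 60) (.node 9 (.node 5 (.bad 68) (.node 11 (.node 14 (.node 8 (.bad 42) (.node 19 (.node 20 (.bad 37) (.bad 50)) (.bad 6))) (.bad 6)) (.bad 46))) (.bad 46)))))) (.bad 61)) (.bad 61)) (.bad 61)) (.bad 61)) (.bad 61))))

/-- A part of the search. -/
def cert42 : SuzRec.STree := (.node 33 (.node 49 (.node 57 (.bad 2) (.node 0 (.node 3 (.node 4 (.node 8 (.bad 3) (.node 22 (.bad 52) (.node 23 (.bad 3) (.node 11 (.bad 23) (.node 9 (.node 15 (.node 18 (.node 10 (.bad 8) (.node 19 (.bad 11) (.node 21 (.bad 10) (.bad 12)))) (.bad 46)) (.bad 29)) (.bad 46)))))) (.node 52 (.bad 4) (.node 7 (.node 9 (.node 11 (.node 8 (.bad 23) (.node 18 (.node 10 (.bad 8) (.node 21 (.bad 10) (.node 19 (.node 23 (.bad 8) (.bad 23)) (.bad 12)))) (.bad 46))) (.bad 46)) (.bad 46)) (.bad 61)))) (.node 4 (.bad 3) (.node 7 (.node 8 (.bad 3) (.node 23 (.bad 3) (.node 9 (.node 11 (.node 18 (.node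 21 (.bad 60) (.node 25 (.bad 23) (.node 5 (.node 10 (.node 14 (.node 19 (.node 20 (.bad 25) (.node 24 (.node 15 (.bad 11) (.node 26 (.bad 55) (.bad 50))) (.bad 24))) (.bad 6)) (.bad 6)) (.bad 12)) (.bad 6)))) (.bad 46)) (.bad 46)) (.bad 46)))) (.bad 61)))) (.node 3 (.node 11 (.bad 0) (.node 42 (.bad 0) (.node 51 (.bad 0) (.node 52 (.bad 0) (.node 4 (.node 7 (.node 9 (.node 18 (.node 21 (.bad 60) (.node 22 (.bad 52) (.node 8 (.node 14 (.bad 42) (.node 5 (.node 19 (.node 20 (.node 23 (.bad 11) (.bad 46)) (.bad 50)) (.bad 6)) (.bad 6))) (.bad 17)))) (.bad 46)) (.bad 46)) (.bad 61)) (.bad 46)))))) (.node 4 (.node 5 (.node 7 (.node 14 (.node 19 (.node 25 (.node 38 (.bad 62) (.node 43 (.node 47 (.bad 62) (.node 48 (.node 10 (.bad 49) (.node 9 (.node 21 (.bad 49) (.bad 12)) (.bad 12))) (.bad 61))) (.bad 6))) (.bad 6)) (.bad 6)) (.bad 6)) (.bad 61)) (.bad 6)) (.bad 61))))) (.node 57 cert40 (.bad 2))) (.node 49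 (.node 57 cert41 (.bad 2)) (.bad 2)))

/-- A part of the search. -/
def cert43 : SuzRec.STree := (.node 0 (.node 3 (.node 4 (.node 8 (.bad 3) (.node 22 (.bad 52) (.node 23 (.bad 3) (.node 11 (.bad 23) (.node 9 (.node 15 (.node 18 (.node 19 (.bad 11) (.node 24 (.bad 11) (.node 26 (.bad 52) (.node 14 (.node 20 (.node 27 (.bad 3) (.node 28 (.node 7 (.bad 48) (.node 35 (.node 5 (.bad 55) (.node 21 (.bad 55) (.node 10 (.node 25 (.bad 23) (.bad 6)) (.bad 12)))) (.bad 29))) (.bad 29))) (.bad 50)) (.bad 50))))) (.bad 46)) (.bad 29)) (.bad 46)))))) (.node 52 (.bad 4) (.node 7 (.node 9 (.node 11 (.node 8 (.bad 23) (.node 18 (.node 21 (.bad 60) (.node 23 (.node 10 (.bad 8) (.node 15 (.bad 11) (.node 19 (.bad 11) (.bad 12)))) (.bad 23))) (.bad 46))) (.bad 46)) (.bad 46)) (.bad 61)))) (.node 4 (.bad 3) (.node 7 (.node 8 (.bad 3) (.node 23 (.bad 3) (.node 9 (.node 11 (.node 18 (.node 21 (.bad 60) (.node 25 (.bad 23)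 (.node 5 (.node 10 (.node 14 (.node 19 (.bad 24) (.bad 6)) (.bad 6)) (.bad 12)) (.bad 6)))) (.bad 46)) (.bad 46)) (.bad 46)))) (.bad 61)))) (.node 3 (.node 11 (.bad 0) (.node 42 (.bad 0) (.node 51 (.bad 0) (.node 52 (.bad 0) (.node 4 (.node 7 (.node 9 (.node 18 (.node 21 (.bad 60) (.node 8 (.node 22 (.bad 52) (.node 23 (.node 15 (.bad 11) (.node 19 (.bad 11) (.node 5 (.node 10 (.node 14 (.node 24 (.bad 11) (.node 20 (.node 25 (.node 26 (.bad 37) (.node 27 (.bad 3) (.bad 64))) (.bad 6)) (.bad 30))) (.bad 6)) (.bad 12)) (.bad 6)))) (.bad 46))) (.bad 42))) (.bad 46)) (.bad 46)) (.bad 61)) (.bad 46)))))) (.node 4 (.node 5 (.node 7 (.node 14 (.node 19 (.node 20 (.bad 37) (.node 25 (.node 24 (.bad 67) (.node 11 (.bad 24) (.node 15 (.node 18 (.bad 24) (.node 9 (.node 21 (.bad 55) (.node 8 (.node 23 (.bad 3) (.bad 46)) (.bad 42))) (.bad 46))) (.bad 30)))) (.bad 6))) (.bad 6)) (.bad 6)) (.bad 61)) (.bad 6)) (.bad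 61))))

/-- A part of the search. -/
def cert44 : SuzRec.STree := (.node 0 (.node 3 (.node 4 (.node 8 (.bad 3) (.node 22 (.bad 52) (.node 23 (.bad 3) (.node 11 (.bad 23) (.node 9 (.node 15 (.node 18 (.node 19 (.bad 11) (.node 20 (.bad 56) (.node 14 (.node 24 (.bad 11) (.node 26 (.bad 52) (.bad 50))) (.bad 50)))) (.bad 46)) (.bad 29)) (.bad 46)))))) (.node 52 (.bad 4) (.node 7 (.node 9 (.node 11 (.node 8 (.bad 23) (.node 18 (.node 21 (.bad 60) (.node 23 (.node 10 (.bad 8) (.node 15 (.bad 11) (.node 19 (.bad 11) (.bad 12)))) (.bad 23))) (.bad 46))) (.bad 46)) (.bad 46)) (.bad 61)))) (.node 4 (.bad 3) (.node 7 (.node 8 (.bad 3) (.node 23 (.bad 3) (.node 9 (.node 11 (.node 18 (.node 21 (.bad 60) (.node 25 (.bad 23) (.node 10 (.node 19 (.node 5 (.bad 24) (.node 14 (.node 20 (.bad 25) (.node 24 (.node 15 (.bad 11) (.node 26 (.node 27 (.bad 3) (.node 28 (.bad 48) (.bad 29))) (.bad 33))) (.bad 24))) (.bad 6)))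 (.bad 12)) (.bad 12)))) (.bad 46)) (.bad 46)) (.bad 46)))) (.bad 61)))) (.node 3 (.node 11 (.bad 0) (.node 42 (.bad 0) (.node 51 (.bad 0) (.node 52 (.bad 0) (.node 4 (.node 7 (.node 9 (.node 18 (.node 21 (.bad 60) (.node 8 (.node 22 (.bad 52) (.node 23 (.node 15 (.bad 11) (.node 19 (.bad 11) (.node 10 (.node 24 (.bad 11) (.node 20 (.node 25 (.node 26 (.bad 37) (.bad 33)) (.bad 12)) (.bad 30))) (.bad 12)))) (.bad 46))) (.bad 42))) (.bad 46)) (.bad 46)) (.bad 61)) (.bad 46)))))) (.node 4 (.node 7 (.node 19 (.node 20 (.bad 37) (.node 25 (.node 24 (.bad 67) (.node 15 (.node 23 (.bad 11) (.node 11 (.bad 23) (.node 9 (.node 18 (.node 5 (.bad 24) (.node 14 (.node 21 (.bad 60) (.node 8 (.node 26 (.bad 56) (.bad 33)) (.bad 42))) (.bad 6))) (.bad 46)) (.bad 46)))) (.bad 30))) (.bad 33))) (.bad 33)) (.bad 61)) (.bad 61))))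

/-- A part of the search. -/
def cert45 : SuzRec.STree := (.node 0 (.node 23 (.node 11 (.node 15 (.bad 11) (.node 19 (.bad 11) (.node 24 (.bad 11) (.node 20 (.node 35 (.bad 15) (.bad 30)) (.bad 30))))) (.bad 11)) (.node 4 (.node 22 (.bad 52) (.node 26 (.bad 52) (.node 38 (.bad 52) (.node 11 (.node 3 (.bad 23) (.node 8 (.bad 3) (.node 14 (.node 15 (.node 20 (.node 25 (.bad 23) (.node 27 (.bad 3) (.node 18 (.node 7 (.bad 48) (.node 28 (.node 24 (.bad 48) (.node 5 (.bad 24) (.node 10 (.node 19 (.bad 19) (.bad 6)) (.bad 49)))) (.bad 29))) (.bad 64)))) (.bad 50)) (.bad 29)) (.bad 50)))) (.bad 29))))) (.node 9 (.node 11 (.node 3 (.bad 23) (.node 7 (.node 8 (.bad 23) (.node 18 (.node 20 (.bad 48) (.node 14 (.node 21 (.bad 10) (.node 24 (.bad 48) (.node 5 (.bad 24) (.node 10 (.node 15 (.node 19 (.bad 24) (.node 25 (.bad 23) (.bad 6))) (.bad 30)) (.bad 49))))) (.bad 50))) (.bad 46))) (.bad 61))) (.bad 46)) (.bad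 46)))) (.node 3 (.node 52 (.node 4 (.node 5 (.bad 4) (.node 11 (.bad 0) (.node 42 (.bad 0) (.node 51 (.bad 0) (.node 54 (.bad 0) (.node 24 (.node 23 (.bad 11) (.node 8 (.node 9 (.node 10 (.node 15 (.node 18 (.node 7 (.bad 48) (.node 14 (.node 19 (.bad 11) (.node 20 (.node 21 (.bad 10) (.bad 49)) (.bad 25))) (.bad 49))) (.bad 8)) (.bad 29)) (.bad 8)) (.bad 46)) (.bad 3))) (.bad 36))))))) (.bad 4)) (.node 4 (.node 7 (.node 22 (.bad 52) (.node 26 (.bad 52) (.node 38 (.bad 52) (.node 48 (.node 59 (.node 37 (.bad 7) (.node 8 (.node 11 (.bad 23) (.node 9 (.node 14 (.bad 43) (.bad 50)) (.bad 46))) (.bad 50))) (.bad 61)) (.bad 61))))) (.bad 61)) (.bad 61))) (.node 4 (.node 7 (.node 48 (.node 52 (.node 59 (.node 37 (.bad 7) (.node 20 (.bad 37) (.node 8 (.node 14 (.bad 43) (.bad 50)) (.bad 50)))) (.bad 61)) (.bad 61)) (.bad 61)) (.bad 61)) (.bad 61))))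

/-- A part of the search. -/
def cert46 : SuzRec.STree := (.node 0 (.node 3 (.node 4 (.node 8 (.bad 3) (.node 22 (.bad 52) (.node 23 (.bad 3) (.node 26 (.bad 52) (.node 14 (.node 20 (.node 27 (.bad 3) (.node 18 (.node 10 (.bad 8) (.node 24 (.node 7 (.bad 48) (.node 37 (.node 19 (.bad 27) (.bad 37)) (.bad 50))) (.bad 18))) (.bad 64))) (.bad 50)) (.bad 50)))))) (.node 52 (.bad 4) (.node 7 (.node 9 (.node 27 (.node 8 (.bad 3) (.node 20 (.bad 51) (.node 14 (.node 23 (.bad 3) (.node 11 (.node 18 (.node 10 (.bad 8) (.node 21 (.bad 10) (.node 19 (.node 25 (.bad 19) (.bad 12)) (.bad 12)))) (.bad 46)) (.bad 46))) (.bad 50)))) (.bad 45)) (.bad 45)) (.bad 61)))) (.node 4 (.bad 3) (.node 7 (.node 8 (.bad 3) (.node 23 (.bad 3) (.node 27 (.bad 3) (.node 9 (.node 28 (.node 10 (.bad 58) (.node 37 (.bad 58) (.node 14 (.node 20 (.node 18 (.bad 48) (.node 11 (.node 19 (.bad 37) (.node 5 (.node 15 (.node 21 (.bad 42) (.bad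 12)) (.bad 11)) (.bad 6))) (.bad 46))) (.bad 50)) (.bad 50)))) (.bad 45)) (.bad 45))))) (.bad 61)))) (.node 3 (.node 11 (.bad 0) (.node 42 (.bad 0) (.node 51 (.bad 0) (.node 52 (.bad 0) (.node 4 (.node 7 (.node 9 (.node 22 (.bad 52) (.node 18 (.node 26 (.bad 52) (.node 8 (.node 14 (.bad 42) (.bad 50)) (.bad 50))) (.bad 64))) (.bad 45)) (.bad 61)) (.bad 45)))))) (.node 4 (.node 5 (.node 7 (.node 14 (.node 19 (.node 25 (.node 38 (.bad 62) (.node 43 (.node 48 (.node 10 (.bad 49) (.node 21 (.bad 49) (.node 9 (.node 26 (.bad 55) (.node 31 (.node 32 (.node 35 (.bad 15) (.node 11 (.node 8 (.bad 42) (.node 15 (.bad 35) (.bad 1))) (.bad 29))) (.bad 33)) (.bad 33))) (.bad 12)))) (.bad 61)) (.bad 6))) (.bad 6)) (.bad 6)) (.bad 6)) (.bad 61)) (.bad 6)) (.bad 61))))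

/-- A part of the search. -/
def cert47 : SuzRec.STree := (.node 0 (.node 3 (.node 4 (.node 8 (.bad 3) (.node 22 (.bad 52) (.node 23 (.bad 3) (.node 26 (.bad 52) (.node 14 (.node 20 (.node 27 (.bad 3) (.node 18 (.node 10 (.bad 8) (.node 24 (.node 7 (.bad 48) (.node 21 (.node 9 (.bad 10) (.node 11 (.bad 42) (.node 15 (.node 19 (.bad 11) (.bad 12)) (.bad 29)))) (.bad 57))) (.bad 18))) (.bad 64))) (.bad 50)) (.bad 50)))))) (.node 52 (.bad 4) (.node 7 (.node 9 (.node 27 (.node 8 (.bad 3) (.node 20 (.bad 51) (.node 14 (.node 23 (.bad 3) (.node 11 (.node 18 (.node 10 (.bad 8) (.node 21 (.bad 10) (.node 19 (.node 25 (.bad 19) (.bad 12)) (.bad 12)))) (.bad 46)) (.bad 46))) (.bad 50)))) (.bad 45)) (.bad 45)) (.bad 61)))) (.node 4 (.bad 3) (.node 7 (.node 8 (.bad 3) (.node 23 (.bad 3) (.node 27 (.bad 3) (.node 9 (.node 28 (.node 10 (.bad 58) (.node 37 (.bad 58) (.node 14 (.node 20 (.node 18 (.bad 48) (.node 11 (.node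 19 (.bad 37) (.node 15 (.node 21 (.bad 42) (.bad 12)) (.bad 11))) (.bad 46))) (.bad 50)) (.bad 50)))) (.bad 45)) (.bad 45))))) (.bad 61)))) (.node 3 (.node 11 (.bad 0) (.node 42 (.bad 0) (.node 51 (.bad 0) (.node 52 (.bad 0) (.node 4 (.node 7 (.node 9 (.node 22 (.bad 52) (.node 18 (.node 26 (.bad 52) (.node 8 (.node 14 (.bad 42) (.bad 50)) (.bad 50))) (.bad 64))) (.bad 45)) (.bad 61)) (.bad 45)))))) (.node 4 (.node 7 (.node 19 (.node 25 (.node 26 (.node 9 (.bad 56) (.node 15 (.bad 56) (.node 20 (.bad 37) (.node 22 (.bad 52) (.node 31 (.node 32 (.node 35 (.bad 15) (.node 8 (.node 11 (.node 14 (.bad 42) (.node 5 (.node 21 (.bad 42) (.node 10 (.node 18 (.node 23 (.bad 3) (.bad 11)) (.bad 10)) (.bad 12))) (.bad 6))) (.bad 29)) (.bad 1))) (.bad 33)) (.bad 33)))))) (.bad 33)) (.bad 33)) (.bad 33)) (.bad 61)) (.bad 61))))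

/-- A part of the search. -/
def cert48 : SuzRec.STree := (.node 0 (.node 8 (.node 11 (.bad 42) (.node 14 (.bad 42) (.node 21 (.bad 42) (.node 5 (.node 7 (.node 10 (.node 28 (.bad 21) (.node 15 (.node 23 (.bad 11) (.bad 29)) (.bad 29))) (.bad 49)) (.bad 49)) (.bad 49))))) (.node 41 (.node 10 (.bad 54) (.node 32 (.bad 54) (.node 51 (.bad 54) (.node 27 (.bad 51) (.node 4 (.node 3 (.node 9 (.node 18 (.node 19 (.bad 27) (.node 21 (.bad 10) (.bad 12))) (.bad 64)) (.bad 45)) (.bad 3)) (.bad 45)))))) (.node 15 (.node 35 (.node 40 (.node 9 (.bad 55) (.node 27 (.bad 51) (.node 4 (.node 22 (.bad 52) (.node 18 (.node 26 (.bad 52) (.node 14 (.node 20 (.node 7 (.bad 48) (.node 25 (.bad 51) (.node 10 (.node 3 (.bad 8) (.node 11 (.node 19 (.node 21 (.bad 42) (.bad 12)) (.bad 12)) (.bad 23))) (.bad 12)))) (.bad 50)) (.bad 50))) (.bad 64))) (.bad 45)))) (.bad 1)) (.bad 1)) (.bad 1)))) (.node 3 (.node 52 (.node 4 (.node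 5 (.bad 4) (.node 11 (.bad 0) (.node 42 (.bad 0) (.node 51 (.bad 0) (.node 54 (.bad 0) (.node 8 (.node 14 (.bad 42) (.node 7 (.node 10 (.node 15 (.node 19 (.node 20 (.node 18 (.bad 48) (.node 21 (.bad 42) (.bad 49))) (.bad 50)) (.bad 6)) (.bad 1)) (.bad 49)) (.bad 49))) (.bad 1))))))) (.bad 4)) (.node 4 (.node 7 (.node 22 (.bad 52) (.node 26 (.bad 52) (.node 38 (.bad 52) (.node 48 (.node 59 (.node 37 (.bad 7) (.node 8 (.node 14 (.bad 43) (.bad 50)) (.bad 50))) (.bad 61)) (.bad 61))))) (.bad 61)) (.bad 61))) (.node 4 (.node 7 (.node 48 (.node 52 (.node 59 (.node 37 (.bad 7) (.node 58 (.bad 7) (.node 28 (.bad 58) (.node 9 (.node 5 (.bad 68) (.node 11 (.node 14 (.node 8 (.bad 42) (.node 15 (.node 19 (.node 20 (.bad 37) (.bad 50)) (.bad 6)) (.bad 15))) (.bad 6)) (.bad 29))) (.bad 45))))) (.bad 61)) (.bad 61)) (.bad 61)) (.bad 61)) (.bad 61))))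

/-- A part of the search. -/
def cert49 : SuzRec.STree := (.node 0 (.node 3 (.node 4 (.node 8 (.bad 3) (.node 22 (.bad 52) (.node 23 (.bad 3) (.node 26 (.bad 52) (.node 14 (.node 20 (.node 27 (.bad 3) (.node 18 (.node 10 (.bad 8) (.node 24 (.node 7 (.bad 48) (.node 37 (.node 19 (.bad 27) (.bad 37)) (.bad 50))) (.bad 18))) (.bad 64))) (.bad 50)) (.bad 50)))))) (.node 52 (.bad 4) (.node 7 (.node 9 (.node 27 (.node 8 (.bad 3) (.node 20 (.bad 51) (.node 14 (.node 23 (.bad 3) (.node 11 (.node 18 (.node 10 (.bad 8) (.node 21 (.bad 10) (.node 19 (.node 25 (.bad 19) (.bad 12)) (.bad 12)))) (.bad 46)) (.bad 46))) (.bad 50)))) (.bad 45)) (.bad 45)) (.bad 61)))) (.node 4 (.bad 3) (.node 7 (.node 8 (.bad 3) (.node 23 (.bad 3) (.node 27 (.bad 3) (.node 9 (.node 28 (.node 10 (.bad 58) (.node 37 (.bad 58) (.node 14 (.node 20 (.node 18 (.bad 48) (.node 11 (.node 19 (.bad 37) (.node 5 (.node 15 (.node 21 (.bad 42) (.bad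 12)) (.bad 11)) (.bad 6))) (.bad 46))) (.bad 50)) (.bad 50)))) (.bad 45)) (.bad 45))))) (.bad 61)))) (.node 3 (.node 11 (.bad 0) (.node 42 (.bad 0) (.node 51 (.bad 0) (.node 52 (.bad 0) (.node 4 (.node 7 (.node 9 (.node 22 (.bad 52) (.node 8 (.node 14 (.bad 42) (.node 5 (.node 18 (.node 19 (.node 20 (.node 21 (.bad 10) (.node 23 (.bad 25) (.node 15 (.node 24 (.bad 48) (.bad 11)) (.bad 11)))) (.bad 50)) (.bad 6)) (.bad 64)) (.bad 6))) (.bad 17))) (.bad 45)) (.bad 61)) (.bad 45)))))) (.node 4 (.node 5 (.node 7 (.node 14 (.node 19 (.node 25 (.node 38 (.bad 62) (.node 43 (.node 47 (.bad 62) (.node 48 (.node 10 (.bad 49) (.node 9 (.node 21 (.bad 49) (.bad 12)) (.bad 12))) (.bad 61))) (.bad 6))) (.bad 6)) (.bad 6)) (.bad 6)) (.bad 61)) (.bad 6)) (.bad 61))))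

/-- A part of the search. -/
def cert50 : SuzRec.STree := (.node 0 (.node 3 (.node 4 (.node 8 (.bad 3) (.node 22 (.bad 52) (.node 23 (.bad 3) (.node 26 (.bad 52) (.node 14 (.node 20 (.node 27 (.bad 3) (.node 18 (.node 10 (.bad 8) (.node 24 (.node 7 (.bad 48) (.node 21 (.node 9 (.bad 10) (.node 11 (.bad 42) (.node 15 (.node 19 (.bad 11) (.bad 12)) (.bad 29)))) (.bad 57))) (.bad 18))) (.bad 64))) (.bad 50)) (.bad 50)))))) (.node 52 (.bad 4) (.node 7 (.node 9 (.node 27 (.node 8 (.bad 3) (.node 20 (.bad 51) (.node 14 (.node 23 (.bad 3) (.node 11 (.node 18 (.node 10 (.bad 8) (.node 21 (.bad 10) (.node 19 (.node 25 (.bad 19) (.bad 12)) (.bad 12)))) (.bad 46)) (.bad 46))) (.bad 50)))) (.bad 45)) (.bad 45)) (.bad 61)))) (.node 4 (.bad 3) (.node 7 (.node 8 (.bad 3) (.node 23 (.bad 3) (.node 27 (.bad 3) (.node 9 (.node 28 (.node 10 (.bad 58) (.node 37 (.bad 58) (.node 14 (.node 20 (.node 18 (.bad 48) (.node 11 (.node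 19 (.bad 37) (.node 15 (.node 21 (.bad 42) (.bad 12)) (.bad 11))) (.bad 46))) (.bad 50)) (.bad 50)))) (.bad 45)) (.bad 45))))) (.bad 61)))) (.node 3 (.node 11 (.bad 0) (.node 42 (.bad 0) (.node 51 (.bad 0) (.node 52 (.bad 0) (.node 4 (.node 7 (.node 9 (.node 22 (.bad 52) (.node 8 (.node 14 (.bad 42) (.node 18 (.node 20 (.node 15 (.bad 56) (.node 21 (.bad 10) (.node 23 (.node 10 (.bad 8) (.node 19 (.bad 25) (.bad 12))) (.bad 11)))) (.bad 50)) (.bad 64))) (.bad 17))) (.bad 45)) (.bad 61)) (.bad 45)))))) (.node 4 (.node 7 (.node 19 (.node 25 (.node 26 (.node 9 (.bad 56) (.node 15 (.bad 56) (.node 20 (.bad 37) (.node 22 (.bad 52) (.node 31 (.node 18 (.bad 22) (.node 27 (.node 8 (.bad 3) (.node 11 (.bad 19) (.node 14 (.node 21 (.node 23 (.bad 3) (.bad 29)) (.bad 10)) (.bad 50)))) (.bad 64))) (.bad 33)))))) (.bad 33)) (.bad 33)) (.bad 33)) (.bad 61)) (.bad 61))))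

/-- A part of the search. -/
def cert51 : SuzRec.STree := (.node 0 (.node 4 (.node 22 (.bad 52) (.node 26 (.bad 52) (.node 38 (.bad 52) (.node 8 (.node 3 (.node 11 (.bad 42) (.node 14 (.bad 42) (.node 15 (.node 20 (.node 21 (.bad 42) (.node 5 (.node 7 (.node 10 (.node 18 (.bad 48) (.node 23 (.bad 3) (.bad 29))) (.bad 49)) (.bad 49)) (.bad 49))) (.bad 50)) (.bad 29)))) (.bad 3)) (.bad 17))))) (.node 52 (.node 3 (.bad 4) (.node 5 (.bad 4) (.node 7 (.node 48 (.node 56 (.bad 4) (.node 59 (.node 37 (.bad 7) (.node 8 (.node 11 (.bad 42) (.node 14 (.bad 42) (.bad 50))) (.bad 50))) (.bad 61))) (.bad 61)) (.bad 61)))) (.node 3 (.node 7 (.node 9 (.node 27 (.node 20 (.bad 51) (.node 25 (.bad 51) (.node 28 (.node 10 (.bad 58) (.node 18 (.bad 48) (.node 11 (.node 8 (.bad 42) (.node 14 (.node 19 (.node 21 (.bad 10) (.bad 12)) (.bad 12)) (.bad 50))) (.bad 46)))) (.bad 45)))) (.bad 45)) (.bad 45)) (.bad 61)) (.bad 61))))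 (.node 3 (.node 52 (.node 4 (.node 5 (.bad 4) (.node 11 (.bad 0) (.node 42 (.bad 0) (.node 51 (.bad 0) (.node 54 (.bad 0) (.node 8 (.node 14 (.bad 42) (.node 7 (.node 10 (.node 19 (.node 20 (.node 18 (.bad 48) (.node 21 (.bad 42) (.bad 49))) (.bad 50)) (.bad 6)) (.bad 49)) (.bad 49))) (.bad 17))))))) (.bad 4)) (.node 4 (.node 7 (.node 22 (.bad 52) (.node 26 (.bad 52) (.node 38 (.bad 52) (.node 8 (.node 41 (.node 42 (.node 10 (.bad 8) (.node 11 (.bad 0) (.node 15 (.node 18 (.bad 8) (.node 9 (.node 21 (.bad 10) (.node 5 (.node 14 (.node 19 (.node 23 (.bad 8) (.bad 29)) (.bad 12)) (.bad 49)) (.bad 49))) (.bad 46))) (.bad 29)))) (.bad 17)) (.bad 17)) (.bad 17))))) (.bad 61)) (.bad 61))) (.node 4 (.node 7 (.node 48 (.node 52 (.node 59 (.node 37 (.bad 7) (.node 58 (.bad 7) (.node 28 (.bad 58) (.node 9 (.node 5 (.bad 68) (.node 11 (.node 14 (.node 8 (.bad 42) (.node 15 (.node 19 (.node 20 (.bad 37) (.bad 50))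 (.bad 6)) (.bad 29))) (.bad 6)) (.bad 29))) (.bad 45))))) (.bad 61)) (.bad 61)) (.bad 61)) (.bad 61)) (.bad 61))))

/-- A part of the search. -/
def cert52 : SuzRec.STree := (.node 0 (.node 3 (.node 4 (.node 8 (.bad 3) (.node 22 (.bad 52) (.node 23 (.bad 3) (.node 26 (.bad 52) (.node 14 (.node 20 (.node 27 (.bad 3) (.node 18 (.node 37 (.node 19 (.bad 27) (.node 25 (.bad 19) (.node 5 (.node 9 (.node 10 (.node 21 (.bad 55) (.bad 12)) (.bad 12)) (.bad 12)) (.bad 6)))) (.bad 50)) (.bad 64))) (.bad 50)) (.bad 50)))))) (.node 52 (.bad 4) (.node 7 (.node 9 (.node 27 (.node 8 (.bad 3) (.node 20 (.bad 37) (.node 14 (.node 23 (.bad 3) (.node 11 (.node 18 (.node 25 (.bad 19) (.node 26 (.node 5 (.bad 55) (.node 19 (.bad 37) (.bad 6))) (.bad 50))) (.bad 46)) (.bad 46))) (.bad 50)))) (.bad 45)) (.bad 45)) (.bad 61)))) (.node 4 (.bad 3) (.node 7 (.node 8 (.bad 3) (.node 23 (.bad 3) (.node 27 (.bad 3) (.node 9 (.node 28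 (.node 10 (.bad 58) (.node 37 (.bad 58) (.node 14 (.node 20 (.bad 37) (.bad 50)) (.bad 50)))) (.bad 45)) (.bad 45))))) (.bad 61)))) (.node 3 (.node 11 (.bad 0) (.node 42 (.bad 0) (.node 51 (.bad 0) (.node 52 (.bad 0) (.node 4 (.node 7 (.node 9 (.node 22 (.bad 52) (.node 18 (.node 26 (.bad 52) (.node 8 (.node 14 (.node 20 (.node 19 (.bad 37) (.node 5 (.node 21 (.bad 10) (.node 10 (.node 23 (.node 24 (.bad 48) (.node 15 (.node 25 (.node 27 (.bad 3) (.bad 45)) (.bad 6)) (.bad 11))) (.bad 11)) (.bad 12))) (.bad 6))) (.bad 50)) (.bad 50)) (.bad 50))) (.bad 64))) (.bad 45)) (.bad 61)) (.bad 45)))))) (.node 4 (.node 5 (.node 7 (.node 14 (.node 19 (.node 20 (.bad 37) (.node 25 (.node 24 (.bad 67) (.node 11 (.bad 24) (.node 15 (.node 18 (.bad 24) (.node 23 (.bad 11) (.node 9 (.node 21 (.bad 55) (.node 8 (.node 10 (.node 26 (.bad 55) (.node 27 (.bad 3) (.node 22 (.node 28 (.bad 58) (.bad 29)) (.bad 64)))) (.bad 8))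 (.bad 42))) (.bad 46)))) (.bad 30)))) (.bad 6))) (.bad 6)) (.bad 6)) (.bad 61)) (.bad 6)) (.bad 61))))

/-- A part of the search. -/
def cert53 : SuzRec.STree := (.node 0 (.node 27 (.node 20 (.bad 51) (.node 25 (.bad 51) (.node 40 (.bad 51) (.node 15 (.node 24 (.node 23 (.bad 11) (.node 35 (.node 37 (.node 28 (.bad 20) (.node 11 (.node 3 (.bad 23) (.node 4 (.bad 3) (.node 7 (.node 8 (.bad 3) (.node 9 (.bad 15) (.bad 45))) (.bad 61)))) (.bad 29))) (.bad 30)) (.bad 30))) (.bad 30)) (.bad 30))))) (.node 4 (.node 22 (.bad 52) (.node 18 (.node 26 (.bad 52) (.node 38 (.bad 52) (.node 40 (.node 51 (.node 3 (.bad 27) (.node 8 (.bad 3) (.node 14 (.node 9 (.bad 65) (.node 19 (.bad 27) (.node 10 (.node 20 (.node 7 (.bad 48) (.node 21 (.node 23 (.bad 3) (.node 11 (.node 15 (.node 24 (.node 5 (.node 25 (.bad 19) (.bad 12)) (.bad 5)) (.bad 11)) (.bad 11)) (.bad 29))) (.bad 12))) (.bad 50)) (.bad 12)))) (.bad 50)))) (.bad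 64)) (.bad 64)))) (.bad 64))) (.node 9 (.node 28 (.node 51 (.node 3 (.bad 27) (.node 7 (.node 10 (.bad 58) (.node 18 (.bad 48) (.node 19 (.bad 27) (.node 20 (.bad 48) (.node 21 (.bad 10) (.bad 12)))))) (.bad 61))) (.bad 45)) (.bad 45)) (.bad 45)))) (.node 3 (.node 52 (.node 4 (.node 5 (.bad 4) (.node 11 (.bad 0) (.node 42 (.bad 0) (.node 51 (.bad 0) (.node 54 (.bad 0) (.node 24 (.node 31 (.node 32 (.node 40 (.bad 5) (.node 8 (.node 15 (.node 18 (.node 7 (.bad 48) (.node 10 (.node 14 (.node 21 (.bad 10) (.bad 49)) (.bad 49)) (.bad 49))) (.bad 64)) (.bad 1)) (.bad 1))) (.bad 36)) (.bad 36)) (.bad 36))))))) (.bad 4)) (.node 4 (.node 7 (.node 22 (.bad 52) (.node 26 (.bad 52) (.node 38 (.bad 52) (.node 48 (.node 59 (.node 37 (.bad 7) (.node 8 (.node 14 (.bad 43) (.bad 50)) (.bad 50))) (.bad 61)) (.bad 61))))) (.bad 61)) (.bad 61))) (.node 4 (.node 7 (.node 48 (.node 52 (.node 59 (.node 37 (.bad 7) (.node 20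 (.bad 37) (.node 8 (.node 14 (.bad 43) (.bad 50)) (.bad 50)))) (.bad 61)) (.bad 61)) (.bad 61)) (.bad 61)) (.bad 61))))

/-- A part of the search. -/
def cert54 : SuzRec.STree := (.node 17 (.node 30 (.node 66 (.bad 39) (.node 33 (.node 49 (.node 57 (.bad 2) cert46) (.node 57 cert47 (.bad 2))) (.node 49 (.node 57 cert48 (.bad 2)) (.bad 2)))) (.node 66 (.node 33 (.node 49 (.node 57 (.bad 2) cert49) (.node 57 cert50 (.bad 2))) (.node 49 (.node 57 cert51 (.bad 2)) (.bad 2))) (.bad 39))) (.node 30 (.node 66 (.node 33 (.node 49 (.node 57 (.bad 2) cert52) (.node 57 (.node 0 (.node 3 (.node 4 (.node 8 (.bad 3) (.node 22 (.bad 52) (.node 23 (.bad 3) (.node 26 (.bad 52) (.node 14 (.node 20 (.node 27 (.bad 3) (.node 18 (.node 37 (.node 19 (.bad 27) (.node 25 (.bad 19) (.bad 33))) (.bad 50)) (.bad 64))) (.bad 50)) (.bad 50)))))) (.node 52 (.bad 4) (.node 7 (.node 9 (.node 27 (.node 8 (.bad 3) (.node 20 (.bad 37) (.node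 14 (.node 23 (.bad 3) (.node 11 (.node 18 (.node 25 (.bad 19) (.node 26 (.node 5 (.bad 55) (.node 15 (.bad 56) (.node 19 (.bad 37) (.bad 11)))) (.bad 50))) (.bad 46)) (.bad 46))) (.bad 50)))) (.bad 45)) (.bad 45)) (.bad 61)))) (.node 4 (.bad 3) (.node 7 (.node 8 (.bad 3) (.node 23 (.bad 3) (.node 27 (.bad 3) (.node 9 (.node 28 (.node 10 (.bad 58) (.node 37 (.bad 58) (.node 14 (.node 20 (.bad 37) (.bad 50)) (.bad 50)))) (.bad 45)) (.bad 45))))) (.bad 61)))) (.node 3 (.node 11 (.bad 0) (.node 42 (.bad 0) (.node 51 (.bad 0) (.node 52 (.bad 0) (.node 4 (.node 7 (.node 9 (.node 22 (.bad 52) (.node 18 (.node 26 (.bad 52) (.node 8 (.node 14 (.node 19 (.node 20 (.bad 37) (.bad 50)) (.bad 33)) (.bad 50)) (.bad 50))) (.bad 64))) (.bad 45)) (.bad 61)) (.bad 45)))))) (.node 4 (.node 7 (.node 19 (.node 20 (.bad 37) (.node 25 (.node 24 (.bad 67) (.node 15 (.node 26 (.bad 56) (.bad 33)) (.bad 30))) (.bad 33))) (.bad 33))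 (.bad 61)) (.bad 61)))) (.bad 2))) (.node 49 (.node 57 cert53 (.bad 2)) (.bad 2))) (.bad 39)) (.bad 39)))

/-- A part of the search. -/
def cert55 : SuzRec.STree := (.node 0 (.node 27 (.node 20 (.bad 51) (.node 25 (.bad 51) (.node 40 (.bad 51) (.node 51 (.node 41 (.bad 54) (.node 8 (.node 3 (.node 4 (.bad 3) (.node 11 (.bad 42) (.node 14 (.bad 42) (.node 15 (.node 19 (.bad 27) (.node 9 (.node 10 (.node 21 (.bad 10) (.bad 12)) (.bad 12)) (.bad 12))) (.bad 1))))) (.bad 3)) (.bad 1))) (.bad 51))))) (.node 51 (.node 3 (.bad 27) (.node 19 (.bad 27) (.node 37 (.bad 27) (.node 41 (.bad 27) (.node 65 (.bad 27) (.node 8 (.node 4 (.bad 3) (.node 7 (.node 11 (.bad 42) (.node 14 (.bad 42) (.node 15 (.node 18 (.node 20 (.bad 48) (.bad 50)) (.bad 64)) (.bad 1)))) (.bad 61))) (.bad 1))))))) (.node 18 (.node 22 (.node 28 (.node 7 (.bad 48) (.node 40 (.node 20 (.bad 51) (.node 19 (.node 25 (.bad 51) (.node 11 (.node 8 (.bad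 42) (.node 14 (.node 9 (.bad 65) (.node 4 (.node 10 (.node 3 (.bad 8) (.node 21 (.bad 42) (.bad 12))) (.bad 12)) (.bad 45))) (.bad 50))) (.bad 19))) (.bad 37))) (.bad 64))) (.bad 16)) (.bad 64)) (.bad 64)))) (.node 3 (.node 52 (.node 11 (.bad 0) (.node 42 (.bad 0) (.node 51 (.bad 0) (.node 54 (.bad 0) (.node 8 (.node 14 (.bad 42) (.node 15 (.node 20 (.node 21 (.bad 42) (.node 26 (.bad 56) (.bad 50))) (.bad 50)) (.bad 1))) (.bad 1)))))) (.node 4 (.node 7 (.node 48 (.node 59 (.node 14 (.bad 70) (.node 32 (.bad 70) (.node 35 (.bad 70) (.node 37 (.bad 7) (.node 8 (.node 20 (.node 18 (.bad 48) (.node 19 (.bad 37) (.node 24 (.bad 48) (.node 5 (.node 15 (.node 9 (.bad 56) (.node 10 (.node 21 (.node 11 (.bad 42) (.node 22 (.bad 18) (.node 23 (.bad 35) (.bad 11)))) (.bad 12)) (.bad 12))) (.bad 30)) (.bad 36))))) (.bad 50)) (.bad 50)))))) (.bad 61)) (.bad 61)) (.bad 61)) (.bad 61))) (.node 4 (.node 7 (.node 48 (.node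 52 (.node 59 (.node 14 (.bad 70) (.node 32 (.bad 70) (.node 19 (.node 25 (.node 26 (.node 9 (.bad 56) (.node 15 (.bad 56) (.node 20 (.bad 37) (.node 8 (.node 31 (.node 11 (.bad 15) (.node 23 (.node 24 (.bad 11) (.node 5 (.node 18 (.bad 24) (.node 27 (.bad 3) (.node 22 (.node 10 (.bad 18) (.node 21 (.bad 10) (.bad 12))) (.bad 64)))) (.bad 36))) (.bad 29))) (.bad 33)) (.bad 50))))) (.bad 33)) (.bad 33)) (.bad 33)))) (.bad 61)) (.bad 61)) (.bad 61)) (.bad 61)) (.bad 61))))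

/-- A part of the search. -/
def cert56 : SuzRec.STree := (.node 0 (.node 27 (.node 20 (.bad 51) (.node 25 (.bad 51) (.node 40 (.bad 51) (.node 51 (.node 41 (.bad 54) (.node 54 (.bad 41) (.node 5 (.node 8 (.node 3 (.node 4 (.bad 3) (.node 10 (.bad 54) (.node 9 (.node 11 (.bad 42) (.node 14 (.bad 42) (.node 15 (.node 18 (.bad 10) (.node 19 (.bad 27) (.bad 12))) (.bad 1)))) (.bad 12)))) (.bad 3)) (.bad 1)) (.bad 36)))) (.bad 51))))) (.node 51 (.node 3 (.bad 27) (.node 19 (.bad 27) (.node 37 (.bad 27) (.node 41 (.bad 27) (.node 65 (.bad 27) (.node 18 (.node 22 (.node 40 (.node 60 (.node 4 (.bad 69) (.node 7 (.node 8 (.bad 42) (.node 14 (.node 9 (.bad 65) (.node 10 (.node 11 (.bad 42) (.node 15 (.node 20 (.bad 48) (.bad 50)) (.bad 1))) (.bad 12))) (.bad 50))) (.bad 61))) (.bad 64)) (.bad 64)) (.bad 64)) (.bad 64))))))) (.node 18 (.node 22 (.node 28 (.node 7 (.bad 48) (.node 40 (.node 20 (.bad 51) (.node 19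 (.node 25 (.bad 51) (.node 11 (.node 8 (.bad 42) (.node 14 (.node 21 (.bad 42) (.node 9 (.node 10 (.bad 21) (.bad 12)) (.bad 12))) (.bad 50))) (.bad 19))) (.bad 37))) (.bad 64))) (.bad 16)) (.bad 64)) (.bad 64)))) (.node 3 (.node 52 (.node 11 (.bad 0) (.node 42 (.bad 0) (.node 51 (.bad 0) (.node 54 (.bad 0) (.node 8 (.node 14 (.bad 42) (.node 20 (.node 21 (.bad 42) (.node 22 (.node 26 (.node 4 (.bad 56) (.node 5 (.bad 4) (.node 7 (.node 9 (.bad 56) (.node 10 (.node 15 (.bad 56) (.node 18 (.bad 48) (.bad 10))) (.bad 12))) (.bad 49)))) (.bad 50)) (.bad 17))) (.bad 50))) (.bad 17)))))) (.node 4 (.node 7 (.node 48 (.node 59 (.node 14 (.bad 70) (.node 32 (.bad 70) (.node 35 (.bad 70) (.node 37 (.bad 7) (.node 8 (.node 20 (.node 18 (.bad 48) (.node 19 (.bad 37) (.node 24 (.bad 48) (.node 5 (.node 23 (.node 25 (.node 11 (.bad 23) (.node 15 (.node 9 (.bad 56) (.bad 15)) (.bad 29))) (.bad 33)) (.bad 11)) (.bad 36)))))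 (.bad 50)) (.bad 50)))))) (.bad 61)) (.bad 61)) (.bad 61)) (.bad 61))) (.node 4 (.node 7 (.node 48 (.node 52 (.node 59 (.node 14 (.bad 70) (.node 32 (.bad 70) (.node 19 (.node 25 (.node 26 (.node 9 (.bad 56) (.node 15 (.bad 56) (.node 20 (.bad 37) (.node 8 (.node 31 (.node 18 (.bad 22) (.node 22 (.node 10 (.bad 18) (.node 21 (.bad 10) (.bad 12))) (.bad 22))) (.bad 33)) (.bad 50))))) (.bad 33)) (.bad 33)) (.bad 33)))) (.bad 61)) (.bad 61)) (.bad 61)) (.bad 61)) (.bad 61))))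

/-- A part of the search. -/
def cert57 : SuzRec.STree := (.node 0 (.node 27 (.node 20 (.bad 51) (.node 25 (.bad 51) (.node 40 (.bad 51) (.node 15 (.node 24 (.node 23 (.bad 11) (.node 35 (.node 37 (.node 28 (.bad 20) (.node 11 (.node 3 (.bad 23) (.node 4 (.bad 3) (.node 7 (.node 8 (.bad 3) (.node 9 (.bad 15) (.node 10 (.node 14 (.node 18 (.bad 48) (.node 19 (.node 21 (.node 22 (.node 26 (.bad 37) (.bad 26)) (.bad 64)) (.bad 10)) (.bad 12))) (.bad 50)) (.bad 12)))) (.bad 61)))) (.bad 29))) (.bad 30)) (.bad 30))) (.bad 30)) (.bad 30))))) (.node 51 (.node 3 (.bad 27) (.node 19 (.bad 27) (.node 37 (.bad 27) (.node 41 (.bad 27) (.node 65 (.bad 27) (.node 15 (.node 18 (.node 20 (.node 7 (.bad 37) (.node 4 (.node 8 (.bad 3) (.node 9 (.bad 56) (.node 10 (.node 14 (.node 21 (.node 22 (.node 23 (.bad 3) (.node 24 (.node 25 (.node 11 (.bad 19) (.node 26 (.bad 37) (.bad 50))) (.bad 12)) (.bad 30))) (.bad 64)) (.bad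 12)) (.bad 50)) (.bad 12)))) (.bad 61))) (.bad 30)) (.bad 64)) (.bad 30))))))) (.node 18 (.node 22 (.node 28 (.node 7 (.bad 48) (.node 40 (.node 20 (.bad 51) (.node 25 (.bad 51) (.node 37 (.bad 20) (.node 8 (.node 11 (.node 14 (.bad 42) (.bad 50)) (.bad 19)) (.bad 50))))) (.bad 64))) (.bad 16)) (.bad 64)) (.bad 64)))) (.node 3 (.node 52 (.node 11 (.bad 0) (.node 42 (.bad 0) (.node 51 (.bad 0) (.node 54 (.bad 0) (.node 27 (.node 20 (.bad 51) (.node 8 (.node 14 (.node 21 (.bad 42) (.node 25 (.bad 51) (.node 9 (.node 10 (.node 19 (.node 24 (.node 23 (.bad 11) (.node 4 (.node 15 (.node 18 (.node 7 (.bad 48) (.node 26 (.bad 56) (.bad 50))) (.bad 8)) (.bad 11)) (.bad 3))) (.bad 19)) (.bad 12)) (.bad 12)) (.bad 12)))) (.bad 50)) (.bad 50))) (.node 4 (.node 8 (.node 18 (.node 21 (.bad 10) (.node 22 (.node 23 (.node 9 (.bad 46) (.node 10 (.node 19 (.node 15 (.bad 11) (.node 24 (.bad 11) (.node 5 (.bad 24) (.bad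 36)))) (.bad 12)) (.bad 12))) (.bad 3)) (.bad 64))) (.bad 64)) (.bad 3)) (.bad 3))))))) (.node 4 (.node 7 (.node 48 (.node 59 (.node 14 (.bad 70) (.node 32 (.bad 70) (.node 35 (.bad 70) (.node 37 (.bad 7) (.node 8 (.node 15 (.node 20 (.bad 37) (.bad 30)) (.bad 30)) (.bad 50)))))) (.bad 61)) (.bad 61)) (.bad 61)) (.bad 61))) (.node 4 (.node 7 (.node 48 (.node 52 (.node 59 (.node 14 (.bad 70) (.node 32 (.bad 70) (.node 19 (.node 20 (.bad 37) (.node 8 (.node 25 (.node 24 (.bad 67) (.node 5 (.bad 24) (.bad 36))) (.bad 33)) (.bad 50))) (.bad 33)))) (.bad 61)) (.bad 61)) (.bad 61)) (.bad 61)) (.bad 61))))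

/-- A part of the search. -/
def cert58 : SuzRec.STree := (.node 0 (.node 8 (.node 11 (.bad 42) (.node 14 (.bad 42) (.node 21 (.bad 42) (.node 23 (.bad 11) (.node 15 (.node 18 (.node 19 (.bad 11) (.node 9 (.node 10 (.node 24 (.bad 11) (.node 25 (.node 3 (.bad 23) (.node 4 (.bad 3) (.node 7 (.node 20 (.bad 48) (.bad 25)) (.bad 61)))) (.bad 12))) (.bad 10)) (.bad 12))) (.bad 13)) (.bad 29)))))) (.node 41 (.node 10 (.bad 54) (.node 32 (.bad 54) (.node 7 (.node 21 (.node 9 (.bad 10) (.node 18 (.bad 10) (.node 19 (.node 23 (.bad 11) (.node 4 (.node 3 (.node 11 (.bad 23) (.bad 13)) (.bad 3)) (.bad 46))) (.bad 12)))) (.bad 57)) (.bad 57)))) (.node 15 (.node 23 (.bad 11) (.node 35 (.node 11 (.bad 23) (.node 18 (.node 19 (.bad 11) (.node 24 (.bad 11) (.node 5 (.node 28 (.node 7 (.bad 48) (.node 25 (.node 3 (.bad 23) (.node 4 (.node 20 (.node 9 (.bad 56) (.node 10 (.node 21 (.node 26 (.bad 56) (.node 14 (.node 27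 (.bad 3) (.node 31 (.bad 41) (.bad 33))) (.bad 50))) (.bad 12)) (.bad 12))) (.bad 25)) (.bad 61))) (.bad 67))) (.bad 29)) (.bad 36)))) (.bad 13))) (.bad 1))) (.bad 1)))) (.node 3 (.node 52 (.node 11 (.bad 0) (.node 42 (.bad 0) (.node 51 (.bad 0) (.node 54 (.bad 0) (.node 8 (.node 14 (.bad 42) (.node 15 (.node 20 (.node 21 (.bad 42) (.node 23 (.bad 11) (.node 4 (.node 9 (.bad 56) (.node 10 (.node 18 (.node 7 (.bad 48) (.node 5 (.node 19 (.node 24 (.bad 11) (.node 25 (.bad 23) (.bad 12))) (.bad 12)) (.bad 49))) (.bad 10)) (.bad 12))) (.bad 3)))) (.bad 50)) (.bad 1))) (.bad 1)))))) (.node 4 (.node 7 (.node 48 (.node 59 (.node 14 (.bad 70) (.node 32 (.bad 70) (.node 35 (.bad 70) (.node 37 (.bad 7) (.node 8 (.node 11 (.bad 23) (.node 15 (.node 20 (.node 9 (.bad 56) (.node 18 (.bad 48) (.bad 46))) (.bad 50)) (.bad 29))) (.bad 50)))))) (.bad 61)) (.bad 61)) (.bad 61)) (.bad 61))) (.node 4 (.node 7 (.node 48 (.node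 52 (.node 59 (.node 14 (.bad 70) (.node 32 (.bad 70) (.node 19 (.node 25 (.node 26 (.node 9 (.bad 56) (.node 15 (.bad 56) (.node 20 (.bad 37) (.node 8 (.node 11 (.bad 23) (.node 23 (.bad 11) (.bad 29))) (.bad 50))))) (.bad 33)) (.bad 33)) (.bad 33)))) (.bad 61)) (.bad 61)) (.bad 61)) (.bad 61)) (.bad 61))))

/-- A part of the search. -/
def cert59 : SuzRec.STree := (.node 0 (.node 8 (.node 11 (.bad 42) (.node 14 (.bad 42) (.node 21 (.bad 42) (.node 23 (.bad 11) (.node 15 (.node 18 (.node 19 (.bad 11) (.node 9 (.node 10 (.node 24 (.bad 11) (.node 25 (.node 3 (.bad 23) (.node 4 (.bad 3) (.node 7 (.node 20 (.bad 48) (.bad 25)) (.bad 61)))) (.bad 12))) (.bad 10)) (.bad 12))) (.bad 13)) (.bad 29)))))) (.node 41 (.node 10 (.bad 54) (.node 32 (.bad 54) (.node 7 (.node 21 (.node 9 (.bad 10) (.node 18 (.bad 10) (.node 19 (.node 23 (.bad 11) (.node 4 (.node 3 (.node 11 (.bad 23) (.bad 13)) (.bad 3)) (.bad 46))) (.bad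 12)))) (.bad 57)) (.bad 57)))) (.node 22 (.node 38 (.node 4 (.bad 52) (.node 42 (.node 3 (.bad 8) (.node 7 (.node 10 (.bad 8) (.node 18 (.bad 8) (.node 23 (.bad 8) (.node 9 (.node 11 (.node 21 (.bad 10) (.node 19 (.node 15 (.bad 11) (.node 24 (.bad 11) (.node 5 (.node 14 (.bad 62) (.node 20 (.node 25 (.bad 23) (.bad 12)) (.bad 50))) (.bad 36)))) (.bad 12))) (.bad 13)) (.bad 46))))) (.bad 61))) (.bad 17))) (.bad 17)) (.bad 17)))) (.node 3 (.node 52 (.node 11 (.bad 0) (.node 42 (.bad 0) (.node 51 (.bad 0) (.node 54 (.bad 0) (.node 8 (.node 14 (.bad 42) (.node 20 (.node 21 (.bad 42) (.node 22 (.node 26 (.node 4 (.bad 56) (.node 5 (.bad 4) (.node 7 (.node 9 (.bad 56) (.node 10 (.node 15 (.bad 56) (.node 18 (.bad 48) (.bad 10))) (.bad 12))) (.bad 49)))) (.bad 50)) (.bad 17))) (.bad 50))) (.bad 17)))))) (.node 4 (.node 7 (.node 48 (.node 59 (.node 14 (.bad 70) (.node 32 (.bad 70) (.node 35 (.bad 70) (.node 37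 (.bad 7) (.node 8 (.node 11 (.bad 23) (.node 15 (.node 9 (.node 20 (.bad 56) (.bad 50)) (.bad 15)) (.bad 29))) (.bad 50)))))) (.bad 61)) (.bad 61)) (.bad 61)) (.bad 61))) (.node 4 (.node 7 (.node 48 (.node 52 (.node 59 (.node 14 (.bad 70) (.node 32 (.bad 70) (.node 19 (.node 25 (.node 26 (.node 9 (.bad 56) (.node 15 (.bad 56) (.node 20 (.bad 37) (.node 8 (.node 11 (.bad 23) (.node 23 (.bad 11) (.bad 29))) (.bad 50))))) (.bad 33)) (.bad 33)) (.bad 33)))) (.bad 61)) (.bad 61)) (.bad 61)) (.bad 61)) (.bad 61))))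

/-- A part of the search. -/
def cert60 : SuzRec.STree := (.node 0 (.node 23 (.node 11 (.node 15 (.bad 11) (.node 19 (.bad 11) (.node 24 (.bad 11) (.node 20 (.node 35 (.bad 15) (.bad 30)) (.bad 30))))) (.bad 11)) (.node 11 (.node 3 (.bad 23) (.node 8 (.bad 23) (.node 25 (.bad 23) (.node 35 (.bad 23) (.node 15 (.node 26 (.bad 35) (.node 14 (.node 19 (.node 20 (.node 7 (.bad 37) (.node 4 (.node 9 (.bad 56) (.node 5 (.node 10 (.node 18 (.bad 24) (.node 21 (.node 24 (.bad 11) (.bad 24)) (.bad 10))) (.bad 12)) (.bad 55))) (.bad 61))) (.bad 50)) (.bad 33)) (.bad 50))) (.bad 29)))))) (.node 15 (.node 18 (.node 19 (.bad 11) (.node 24 (.bad 11) (.node 28 (.node 7 (.bad 48) (.node 35 (.node 38 (.node 42 (.bad 11) (.node 3 (.node 8 (.bad 23) (.node 14 (.node 20 (.node 25 (.bad 23) (.node 9 (.node 4 (.bad 56) (.node 10 (.node 21 (.bad 10) (.bad 12)) (.bad 12))) (.bad 12))) (.bad 50)) (.bad 50))) (.bad 0))) (.bad 29))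 (.bad 29))) (.bad 29)))) (.bad 13)) (.bad 29)))) (.node 3 (.node 52 (.node 11 (.bad 0) (.node 42 (.bad 0) (.node 51 (.bad 0) (.node 54 (.bad 0) (.node 23 (.node 15 (.bad 11) (.node 8 (.node 19 (.bad 11) (.node 24 (.bad 11) (.node 5 (.node 4 (.node 20 (.node 26 (.bad 56) (.node 14 (.node 21 (.bad 42) (.node 7 (.node 9 (.node 10 (.node 18 (.bad 48) (.node 22 (.bad 18) (.bad 64))) (.bad 12)) (.bad 12)) (.bad 57))) (.bad 50))) (.bad 30)) (.bad 4)) (.bad 36)))) (.bad 1))) (.node 4 (.node 8 (.node 10 (.node 15 (.node 18 (.node 21 (.bad 10) (.node 25 (.bad 23) (.node 9 (.node 19 (.node 20 (.bad 56) (.node 14 (.node 24 (.bad 11) (.bad 19)) (.bad 50))) (.bad 12)) (.bad 12)))) (.bad 8)) (.bad 29)) (.bad 8)) (.bad 3)) (.bad 3))))))) (.node 4 (.node 7 (.node 48 (.node 59 (.node 14 (.bad 70) (.node 32 (.bad 70) (.node 35 (.bad 70) (.node 37 (.bad 7) (.node 8 (.node 11 (.bad 23) (.node 15 (.node 20 (.bad 37) (.bad 30))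 (.bad 29))) (.bad 50)))))) (.bad 61)) (.bad 61)) (.bad 61)) (.bad 61))) (.node 4 (.node 7 (.node 48 (.node 52 (.node 59 (.node 14 (.bad 70) (.node 32 (.bad 70) (.node 19 (.node 20 (.bad 37) (.node 8 (.node 25 (.node 11 (.bad 23) (.node 23 (.bad 11) (.node 15 (.node 18 (.node 5 (.bad 24) (.node 21 (.bad 10) (.node 10 (.node 22 (.bad 18) (.node 24 (.bad 11) (.bad 24))) (.bad 49)))) (.bad 13)) (.bad 29)))) (.bad 33)) (.bad 50))) (.bad 33)))) (.bad 61)) (.bad 61)) (.bad 61)) (.bad 61)) (.bad 61))))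

/-- A part of the search. -/
def cert61 : SuzRec.STree := (.node 0 (.node 8 (.node 11 (.bad 42) (.node 14 (.bad 42) (.node 21 (.bad 42) (.node 23 (.bad 11) (.node 4 (.node 3 (.node 9 (.node 15 (.node 18 (.node 10 (.node 19 (.bad 11) (.node 20 (.bad 56) (.node 22 (.bad 52) (.node 24 (.bad 11) (.node 25 (.bad 23) (.bad 12)))))) (.bad 10)) (.bad 46)) (.bad 29)) (.bad 46)) (.bad 3)) (.bad 46)))))) (.node 41 (.node 10 (.bad 54) (.node 32 (.bad 54) (.node 7 (.node 21 (.node 9 (.bad 10) (.node 18 (.bad 10) (.node 4 (.node 3 (.node 11 (.node 14 (.bad 42) (.node 19 (.node 20 (.node 22 (.bad 52) (.node 23 (.bad 3) (.bad 23))) (.bad 50)) (.bad 12))) (.bad 46)) (.bad 3)) (.bad 46)))) (.bad 57)) (.bad 57)))) (.node 15 (.node 23 (.bad 11) (.node 35 (.node 11 (.bad 23) (.node 4 (.node 9 (.node 5 (.bad 55) (.node 18 (.node 19 (.bad 11) (.node 20 (.bad 56) (.node 14 (.node 21 (.bad 10) (.node 10 (.node 3 (.bad 8) (.node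 22 (.bad 52) (.node 24 (.bad 11) (.bad 36)))) (.bad 12))) (.bad 50)))) (.bad 46))) (.bad 46)) (.bad 46))) (.bad 1))) (.bad 1)))) (.node 3 (.node 52 (.node 4 (.node 5 (.bad 4) (.node 11 (.bad 0) (.node 42 (.bad 0) (.node 51 (.bad 0) (.node 54 (.bad 0) (.node 8 (.node 14 (.bad 42) (.node 15 (.node 20 (.node 9 (.bad 56) (.node 18 (.node 7 (.bad 48) (.node 10 (.node 21 (.bad 10) (.bad 49)) (.bad 49))) (.bad 46))) (.bad 50)) (.bad 1))) (.bad 1))))))) (.bad 4)) (.node 4 (.node 7 (.node 22 (.bad 52) (.node 26 (.bad 52) (.node 38 (.bad 52) (.node 48 (.node 59 (.node 37 (.bad 7) (.node 8 (.node 11 (.bad 23) (.node 9 (.node 14 (.node 15 (.node 18 (.node 10 (.node 20 (.bad 48) (.bad 50)) (.bad 10)) (.bad 46)) (.bad 29)) (.bad 50)) (.bad 46))) (.bad 50))) (.bad 61)) (.bad 61))))) (.bad 61)) (.bad 61))) (.node 4 (.node 7 (.node 48 (.node 52 (.node 59 (.node 37 (.bad 7) (.node 58 (.bad 7) (.node 60 (.bad 7) (.node 18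 (.bad 60) (.node 9 (.node 11 (.node 15 (.node 20 (.bad 56) (.node 8 (.node 10 (.bad 18) (.node 14 (.bad 42) (.bad 50))) (.bad 50))) (.bad 15)) (.bad 46)) (.bad 46)))))) (.bad 61)) (.bad 61)) (.bad 61)) (.bad 61)) (.bad 61))))

/-- A part of the search. -/
def cert62 : SuzRec.STree := (.node 0 (.node 4 (.node 22 (.bad 52) (.node 26 (.bad 52) (.node 38 (.bad 52) (.node 8 (.node 3 (.node 11 (.bad 23) (.node 14 (.bad 42) (.node 15 (.node 19 (.bad 11) (.node 20 (.node 9 (.bad 56) (.node 10 (.node 18 (.node 7 (.bad 48) (.node 21 (.bad 10) (.bad 12))) (.bad 46)) (.bad 12))) (.bad 50))) (.bad 29)))) (.bad 3)) (.bad 17))))) (.node 52 (.node 3 (.bad 4) (.node 5 (.bad 4) (.node 7 (.node 48 (.node 56 (.bad 4) (.node 59 (.node 37 (.bad 7) (.node 8 (.node 11 (.bad 42) (.node 9 (.node 14 (.bad 42) (.bad 50)) (.bad 46))) (.bad 50))) (.bad 61))) (.bad 61)) (.bad 61)))) (.node 3 (.node 7 (.node 9 (.node 11 (.node 8 (.bad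 23) (.node 18 (.node 10 (.bad 8) (.node 20 (.bad 48) (.node 14 (.node 21 (.bad 10) (.node 19 (.node 5 (.bad 6) (.node 23 (.bad 8) (.bad 23))) (.bad 12))) (.bad 50)))) (.bad 46))) (.bad 46)) (.bad 46)) (.bad 61)) (.bad 61)))) (.node 3 (.node 52 (.node 4 (.node 5 (.bad 4) (.node 11 (.bad 0) (.node 42 (.bad 0) (.node 51 (.bad 0) (.node 54 (.bad 0) (.node 8 (.node 14 (.bad 42) (.node 20 (.node 21 (.bad 42) (.node 7 (.node 10 (.node 18 (.bad 48) (.node 9 (.node 15 (.bad 56) (.node 22 (.bad 18) (.bad 17))) (.bad 10))) (.bad 49)) (.bad 49))) (.bad 50))) (.bad 17))))))) (.bad 4)) (.node 4 (.node 7 (.node 22 (.bad 52) (.node 26 (.bad 52) (.node 38 (.bad 52) (.node 8 (.node 11 (.bad 23) (.node 9 (.node 15 (.node 18 (.node 10 (.node 20 (.bad 48) (.node 14 (.node 21 (.bad 10) (.node 23 (.bad 8) (.bad 29))) (.bad 50))) (.bad 10)) (.bad 46)) (.bad 29)) (.bad 46))) (.bad 17))))) (.bad 61)) (.bad 61))) (.node 4 (.node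 7 (.node 48 (.node 52 (.node 59 (.node 37 (.bad 7) (.node 58 (.bad 7) (.node 60 (.bad 7) (.node 18 (.bad 60) (.node 9 (.node 11 (.node 22 (.node 8 (.bad 18) (.node 10 (.bad 18) (.node 14 (.node 20 (.node 15 (.bad 56) (.node 19 (.bad 37) (.node 21 (.bad 10) (.bad 12)))) (.bad 50)) (.bad 50)))) (.bad 64)) (.bad 46)) (.bad 46)))))) (.bad 61)) (.bad 61)) (.bad 61)) (.bad 61)) (.bad 61))))

/-- A part of the search. -/
def cert63 : SuzRec.STree := (.node 0 (.node 23 (.node 11 (.node 15 (.bad 11) (.node 19 (.bad 11) (.node 24 (.bad 11) (.node 20 (.node 35 (.bad 15) (.bad 30)) (.bad 30))))) (.bad 11)) (.node 4 (.node 22 (.bad 52) (.node 26 (.bad 52) (.node 38 (.bad 52) (.node 11 (.node 3 (.bad 23) (.node 8 (.bad 3) (.node 14 (.node 15 (.node 20 (.node 9 (.bad 56) (.node 18 (.node 7 (.bad 48) (.node 10 (.node 21 (.node 25 (.bad 23) (.node 19 (.node 5 (.bad 24) (.node 24 (.bad 11) (.bad 24))) (.bad 12))) (.bad 57))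 (.bad 57))) (.bad 46))) (.bad 50)) (.bad 29)) (.bad 50)))) (.bad 29))))) (.node 9 (.node 11 (.node 3 (.bad 23) (.node 7 (.node 8 (.bad 23) (.node 18 (.node 20 (.bad 48) (.node 14 (.node 21 (.bad 10) (.node 24 (.bad 48) (.node 5 (.bad 24) (.node 15 (.node 19 (.bad 24) (.node 10 (.node 25 (.bad 23) (.bad 12)) (.bad 12))) (.bad 30))))) (.bad 50))) (.bad 46))) (.bad 61))) (.bad 46)) (.bad 46)))) (.node 3 (.node 52 (.node 4 (.node 5 (.bad 4) (.node 11 (.bad 0) (.node 42 (.bad 0) (.node 51 (.bad 0) (.node 54 (.bad 0) (.node 24 (.node 23 (.bad 11) (.node 8 (.node 9 (.node 10 (.node 15 (.node 18 (.node 7 (.bad 48) (.node 19 (.bad 11) (.node 20 (.bad 56) (.bad 25)))) (.bad 8)) (.bad 29)) (.bad 8)) (.bad 46)) (.bad 3))) (.bad 36))))))) (.bad 4)) (.node 4 (.node 7 (.node 22 (.bad 52) (.node 26 (.bad 52) (.node 38 (.bad 52) (.node 48 (.node 59 (.node 37 (.bad 7) (.node 8 (.node 11 (.bad 23) (.node 9 (.node 14 (.node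 15 (.node 18 (.node 10 (.node 20 (.bad 37) (.bad 50)) (.bad 10)) (.bad 46)) (.bad 29)) (.bad 50)) (.bad 46))) (.bad 50))) (.bad 61)) (.bad 61))))) (.bad 61)) (.bad 61))) (.node 4 (.node 7 (.node 48 (.node 52 (.node 59 (.node 37 (.bad 7) (.node 20 (.bad 37) (.node 8 (.node 14 (.node 15 (.node 24 (.node 10 (.bad 18) (.node 18 (.bad 48) (.bad 18))) (.bad 30)) (.bad 30)) (.bad 50)) (.bad 50)))) (.bad 61)) (.bad 61)) (.bad 61)) (.bad 61)) (.bad 61))))

/-- A part of the search. -/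
def cert64 : SuzRec.STree := (.node 0 (.node 27 (.node 20 (.bad 51) (.node 25 (.bad 51) (.node 40 (.bad 51) (.node 51 (.node 41 (.bad 54) (.node 8 (.node 3 (.node 4 (.bad 3) (.node 11 (.bad 42) (.node 14 (.bad 42) (.node 15 (.node 19 (.bad 27) (.node 9 (.node 10 (.node 21 (.bad 10) (.bad 12)) (.bad 12)) (.bad 12))) (.bad 1))))) (.bad 3)) (.bad 1))) (.bad 51))))) (.node 4 (.node 22 (.bad 52) (.node 18 (.node 26 (.bad 52) (.node 38 (.bad 52) (.node 40 (.node 51 (.node 3 (.bad 27) (.node 8 (.bad 3) (.node 14 (.node 9 (.bad 65) (.node 19 (.bad 27) (.node 10 (.node 20 (.node 7 (.bad 48) (.node 21 (.node 11 (.bad 42) (.node 15 (.node 23 (.bad 3) (.bad 29)) (.bad 29))) (.bad 12))) (.bad 37)) (.bad 12)))) (.bad 50)))) (.bad 64)) (.bad 64)))) (.bad 64))) (.node 9 (.node 28 (.node 51 (.node 3 (.bad 27) (.node 7 (.node 10 (.bad 58) (.node 18 (.bad 48) (.node 19 (.bad 27) (.node 20 (.bad 48) (.node 21 (.bad 10) (.bad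 12)))))) (.bad 61))) (.bad 45)) (.bad 45)) (.bad 45)))) (.node 3 (.node 52 (.node 4 (.node 5 (.bad 4) (.node 11 (.bad 0) (.node 42 (.bad 0) (.node 51 (.bad 0) (.node 54 (.bad 0) (.node 8 (.node 14 (.bad 42) (.node 15 (.node 20 (.node 9 (.bad 56) (.node 21 (.bad 42) (.node 7 (.node 10 (.node 18 (.bad 48) (.bad 10)) (.bad 12)) (.bad 49)))) (.bad 50)) (.bad 1))) (.bad 1))))))) (.bad 4)) (.node 4 (.node 7 (.node 22 (.bad 52) (.node 26 (.bad 52) (.node 38 (.bad 52) (.node 48 (.node 59 (.node 37 (.bad 7) (.node 8 (.node 14 (.node 11 (.bad 42) (.node 15 (.node 20 (.node 9 (.bad 56) (.node 5 (.node 18 (.bad 48) (.bad 46)) (.bad 68))) (.bad 50)) (.bad 29))) (.bad 50)) (.bad 50))) (.bad 61)) (.bad 61))))) (.bad 61)) (.bad 61))) (.node 4 (.node 7 (.node 48 (.node 52 (.node 59 (.node 37 (.bad 7) (.node 58 (.bad 7) (.node 28 (.bad 58) (.node 9 (.node 11 (.node 15 (.node 20 (.bad 56) (.node 8 (.node 14 (.bad 42) (.bad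 50)) (.bad 50))) (.bad 15)) (.bad 29)) (.bad 45))))) (.bad 61)) (.bad 61)) (.bad 61)) (.bad 61)) (.bad 61))))

/-- A part of the search. -/
def cert65 : SuzRec.STree := (.node 0 (.node 4 (.node 22 (.bad 52) (.node 26 (.bad 52) (.node 38 (.bad 52) (.node 8 (.node 3 (.node 11 (.bad 42) (.node 14 (.bad 42) (.node 15 (.node 20 (.node 9 (.bad 56) (.node 21 (.bad 42) (.node 7 (.node 10 (.node 18 (.bad 48) (.node 19 (.node 23 (.bad 3) (.bad 29)) (.bad 12))) (.bad 12)) (.bad 57)))) (.bad 50)) (.bad 29)))) (.bad 3)) (.bad 17))))) (.node 52 (.node 3 (.bad 4) (.node 5 (.bad 4) (.node 7 (.node 48 (.node 56 (.bad 4) (.node 59 (.node 37 (.bad 7) (.node 8 (.node 11 (.bad 42) (.node 14 (.bad 42) (.bad 50))) (.bad 50))) (.bad 61))) (.bad 61)) (.bad 61)))) (.node 3 (.node 7 (.node 9 (.node 27 (.node 20 (.bad 51) (.node 25 (.bad 51) (.node 28 (.node 10 (.bad 58) (.node 18 (.bad 48) (.node 11 (.node 8 (.bad 42) (.node 14 (.node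 19 (.node 5 (.bad 6) (.node 21 (.bad 10) (.bad 12))) (.bad 12)) (.bad 50))) (.bad 46)))) (.bad 45)))) (.bad 45)) (.bad 45)) (.bad 61)) (.bad 61)))) (.node 3 (.node 52 (.node 4 (.node 5 (.bad 4) (.node 11 (.bad 0) (.node 42 (.bad 0) (.node 51 (.bad 0) (.node 54 (.bad 0) (.node 8 (.node 14 (.bad 42) (.node 20 (.node 21 (.bad 42) (.node 7 (.node 10 (.node 18 (.bad 48) (.node 9 (.node 15 (.bad 56) (.node 22 (.node 23 (.node 24 (.bad 18) (.bad 36)) (.bad 11)) (.bad 17))) (.bad 10))) (.bad 49)) (.bad 49))) (.bad 50))) (.bad 17))))))) (.bad 4)) (.node 4 (.node 7 (.node 22 (.bad 52) (.node 26 (.bad 52) (.node 38 (.bad 52) (.node 8 (.node 41 (.node 42 (.node 10 (.bad 8) (.node 11 (.bad 0) (.node 15 (.node 18 (.bad 8) (.node 9 (.node 20 (.bad 56) (.node 14 (.node 21 (.bad 10) (.bad 57)) (.bad 50))) (.bad 46))) (.bad 29)))) (.bad 17)) (.bad 17)) (.bad 17))))) (.bad 61)) (.bad 61))) (.node 4 (.node 7 (.node 48 (.node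 52 (.node 59 (.node 37 (.bad 7) (.node 58 (.bad 7) (.node 28 (.bad 58) (.node 9 (.node 11 (.node 15 (.node 20 (.bad 56) (.node 8 (.node 14 (.bad 42) (.bad 50)) (.bad 50))) (.bad 29)) (.bad 29)) (.bad 45))))) (.bad 61)) (.bad 61)) (.bad 61)) (.bad 61)) (.bad 61))))

/-- A part of the search. -/
def cert66 : SuzRec.STree := (.node 0 (.node 27 (.node 20 (.bad 51) (.node 25 (.bad 51) (.node 40 (.bad 51) (.node 15 (.node 24 (.node 23 (.bad 11) (.node 35 (.node 37 (.node 28 (.bad 20) (.node 11 (.node 3 (.bad 23) (.node 4 (.bad 3) (.node 7 (.node 8 (.bad 3) (.node 9 (.bad 15) (.bad 45))) (.bad 61)))) (.bad 29))) (.bad 30)) (.bad 30))) (.bad 30)) (.bad 30))))) (.node 4 (.node 22 (.bad 52) (.node 18 (.node 26 (.bad 52) (.node 38 (.bad 52) (.node 40 (.node 51 (.node 3 (.bad 27) (.node 8 (.bad 3) (.node 14 (.node 9 (.bad 65) (.node 19 (.bad 27) (.node 10 (.node 20 (.node 7 (.bad 48) (.node 21 (.node 23 (.bad 3) (.node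 11 (.node 15 (.node 24 (.node 25 (.bad 19) (.bad 12)) (.bad 11)) (.bad 11)) (.bad 29))) (.bad 12))) (.bad 50)) (.bad 12)))) (.bad 50)))) (.bad 64)) (.bad 64)))) (.bad 64))) (.node 9 (.node 28 (.node 51 (.node 3 (.bad 27) (.node 7 (.node 10 (.bad 58) (.node 18 (.bad 48) (.node 19 (.bad 27) (.node 20 (.bad 48) (.node 21 (.bad 10) (.bad 12)))))) (.bad 61))) (.bad 45)) (.bad 45)) (.bad 45)))) (.node 3 (.node 52 (.node 4 (.node 5 (.bad 4) (.node 11 (.bad 0) (.node 42 (.bad 0) (.node 51 (.bad 0) (.node 54 (.bad 0) (.node 24 (.node 31 (.node 32 (.node 41 (.node 10 (.bad 54) (.node 15 (.bad 31) (.node 8 (.node 18 (.node 7 (.bad 48) (.node 9 (.bad 10) (.node 14 (.node 19 (.node 21 (.bad 10) (.bad 12)) (.bad 12)) (.bad 49)))) (.bad 8)) (.bad 1)))) (.bad 36)) (.bad 36)) (.bad 36)) (.bad 36))))))) (.bad 4)) (.node 4 (.node 7 (.node 22 (.bad 52) (.node 26 (.bad 52) (.node 38 (.bad 52) (.node 48 (.node 59 (.node 37 (.bad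 7) (.node 8 (.node 14 (.node 20 (.bad 37) (.bad 50)) (.bad 50)) (.bad 50))) (.bad 61)) (.bad 61))))) (.bad 61)) (.bad 61))) (.node 4 (.node 7 (.node 48 (.node 52 (.node 59 (.node 37 (.bad 7) (.node 20 (.bad 37) (.node 8 (.node 14 (.node 15 (.node 24 (.node 18 (.bad 48) (.node 10 (.bad 18) (.node 21 (.bad 10) (.node 9 (.node 19 (.node 22 (.bad 18) (.node 23 (.bad 11) (.bad 8))) (.bad 12)) (.bad 12))))) (.bad 30)) (.bad 30)) (.bad 50)) (.bad 50)))) (.bad 61)) (.bad 61)) (.bad 61)) (.bad 61)) (.bad 61))))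

/-- A part of the search. -/
def cert67 : SuzRec.STree := (.node 6 (.node 13 (.node 16 (.node 45 (.node 46 (.bad 44) (.node 17 (.node 30 (.node 66 (.bad 39) (.node 33 (.node 49 (.node 57 (.bad 2) cert19) (.node 57 cert20 (.bad 2))) (.node 49 (.node 57 cert21 (.bad 2)) (.bad 2)))) (.node 66 (.node 33 (.node 49 (.node 57 (.bad 2) cert22) (.node 57 cert23 (.bad 2))) (.node 49 (.node 57 cert24 (.bad 2)) (.bad 2))) (.bad 39))) (.node 30 (.node 66 (.node 33 (.node 49 (.node 57 (.bad 2) cert25) (.node 57 cert26 (.bad 2))) (.node 49 (.node 57 cert27 (.bad 2)) (.bad 2))) (.bad 39)) (.bad 39)))) (.node 46 (.node 17 (.node 30 (.node 66 (.bad 39) (.node 33 (.node 49 (.node 57 (.bad 2) cert28) (.node 57 cert29 (.bad 2))) (.node 49 (.node 57 cert30 (.bad 2)) (.bad 2)))) (.node 66 (.node 33 (.node 49 (.node 57 (.bad 2) cert31) (.node 57 cert32 (.bad 2))) (.node 49 (.node 57 cert33 (.bad 2)) (.bad 2))) (.bad 39))) (.node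 30 (.node 66 (.node 33 (.node 49 (.node 57 (.bad 2) cert34) (.node 57 cert35 (.bad 2))) (.node 49 (.node 57 cert36 (.bad 2)) (.bad 2))) (.bad 39)) (.bad 39))) (.bad 44))) (.node 45 (.node 46 (.node 17 (.node 30 (.node 66 (.bad 39) (.node 33 (.node 49 (.node 57 (.bad 2) cert37) (.node 57 cert38 (.bad 2))) (.node 49 (.node 57 cert39 (.bad 2)) (.bad 2)))) (.node 66 cert42 (.bad 39))) (.node 30 (.node 66 (.node 33 (.node 49 (.node 57 (.bad 2) cert43) (.node 57 cert44 (.bad 2))) (.node 49 (.node 57 cert45 (.bad 2)) (.bad 2))) (.bad 39)) (.bad 39))) (.bad 44)) (.bad 44))) (.node 16 (.node 45 (.node 46 cert54 (.bad 44)) (.bad 44)) (.bad 44))) (.node 33 (.node 49 (.node 57 (.node 13 (.node 16 (.node 45 (.node 46 (.bad 44) (.node 17 (.node 30 (.node 66 (.bad 39) cert55) (.node 66 cert56 (.bad 39))) (.node 30 (.node 66 cert57 (.bad 39)) (.bad 39)))) (.node 46 (.node 17 (.node 30 (.node 66 (.bad 39) cert58) (.node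 66 cert59 (.bad 39))) (.node 30 (.node 66 cert60 (.bad 39)) (.bad 39))) (.bad 44))) (.node 45 (.node 46 (.node 17 (.node 30 (.node 66 (.bad 39) cert61) (.node 66 cert62 (.bad 39))) (.node 30 (.node 66 cert63 (.bad 39)) (.bad 39))) (.bad 44)) (.bad 44))) (.node 16 (.node 45 (.node 46 (.node 17 (.node 30 (.node 66 (.bad 39) cert64) (.node 66 cert65 (.bad 39))) (.node 30 (.node 66 cert66 (.bad 39)) (.bad 39))) (.bad 44)) (.bad 44)) (.bad 44))) (.bad 2)) (.bad 2)) (.bad 2)))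

/-- A part of the search. -/
def cert68 : SuzRec.STree := (.node 0 (.node 3 (.node 27 (.node 4 (.bad 3) (.node 8 (.bad 3) (.node 20 (.bad 51) (.node 14 (.node 23 (.bad 3) (.node 25 (.bad 51) (.node 26 (.node 37 (.node 28 (.bad 20) (.node 11 (.node 15 (.node 19 (.node 7 (.bad 37) (.node 18 (.node 5 (.bad 24) (.node 24 (.bad 19) (.bad 24))) (.bad 48))) (.bad 19)) (.bad 29)) (.bad 29))) (.bad 50)) (.bad 50)))) (.bad 50))))) (.node 51 (.bad 27) (.node 18 (.node 22 (.node 28 (.node 40 (.node 20 (.bad 51) (.node 25 (.bad 51) (.node 37 (.bad 20) (.node 8 (.node 4 (.bad 3) (.node 9 (.node 14 (.bad 43) (.bad 50)) (.bad 45))) (.bad 50))))) (.bad 64)) (.bad 16)) (.bad 64)) (.bad 64)))) (.node 4 (.bad 3) (.node 7 (.node 8 (.bad 3) (.node 23 (.bad 3) (.node 27 (.bad 3) (.node 41 (.bad 3) (.node 48 (.node 52 (.node 59 (.node 14 (.bad 70) (.node 5 (.node 9 (.bad 68) (.node 19 (.node 11 (.bad 24) (.node 15 (.node 18 (.bad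 24) (.bad 46)) (.bad 29))) (.bad 6))) (.bad 6))) (.bad 61)) (.bad 61)) (.bad 61)))))) (.bad 61)))) (.node 3 (.node 11 (.bad 0) (.node 42 (.bad 0) (.node 51 (.bad 0) (.node 52 (.bad 0) (.node 4 (.node 7 (.node 48 (.node 54 (.bad 0) (.node 59 (.node 14 (.bad 70) (.node 5 (.node 8 (.node 19 (.node 18 (.bad 24) (.node 10 (.node 20 (.bad 37) (.bad 50)) (.bad 8))) (.bad 6)) (.bad 42)) (.bad 6))) (.bad 61))) (.bad 61)) (.bad 61)) (.bad 61)))))) (.node 4 (.node 5 (.node 7 (.node 14 (.node 19 (.node 20 (.bad 37) (.node 25 (.node 24 (.bad 67) (.node 11 (.bad 24) (.node 18 (.bad 24) (.node 22 (.node 31 (.bad 47) (.node 26 (.node 27 (.bad 37) (.node 32 (.bad 69) (.bad 33))) (.bad 33))) (.bad 66))))) (.bad 6))) (.bad 6)) (.bad 6)) (.bad 61)) (.bad 6)) (.bad 61))))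

/-- A part of the search. -/
def cert69 : SuzRec.STree := (.node 0 (.node 3 (.node 27 (.node 4 (.bad 3) (.node 8 (.bad 3) (.node 20 (.bad 51) (.node 14 (.node 23 (.bad 3) (.node 25 (.bad 51) (.node 26 (.node 37 (.node 28 (.bad 20) (.node 11 (.node 15 (.node 9 (.bad 56) (.node 10 (.node 19 (.node 7 (.bad 37) (.node 18 (.node 5 (.bad 24) (.node 21 (.node 24 (.bad 19) (.bad 24)) (.bad 10))) (.bad 48))) (.bad 12)) (.bad 12))) (.bad 29)) (.bad 29))) (.bad 50)) (.bad 50)))) (.bad 50))))) (.node 51 (.bad 27) (.node 18 (.node 22 (.node 28 (.node 40 (.node 20 (.bad 51) (.node 25 (.bad 51) (.node 37 (.bad 20) (.node 8 (.node 4 (.bad 3) (.node 9 (.node 14 (.node 11 (.bad 42) (.node 19 (.bad 19) (.node 10 (.node 7 (.bad 58) (.node 21 (.bad 10) (.bad 12))) (.bad 12)))) (.bad 50)) (.bad 45))) (.bad 50))))) (.bad 64)) (.bad 16)) (.bad 64)) (.bad 64)))) (.node 4 (.bad 3) (.node 7 (.node 8 (.bad 3) (.node 23 (.bad 3) (.node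 27 (.bad 3) (.node 41 (.bad 3) (.node 48 (.node 52 (.node 59 (.node 14 (.bad 70) (.node 20 (.node 19 (.bad 37) (.node 5 (.node 25 (.node 11 (.bad 19) (.node 15 (.node 21 (.node 10 (.bad 49) (.node 9 (.node 18 (.bad 10) (.node 22 (.node 24 (.bad 19) (.node 26 (.bad 37) (.bad 33))) (.bad 64))) (.bad 12))) (.bad 42)) (.bad 29))) (.bad 6)) (.bad 6))) (.bad 50))) (.bad 61)) (.bad 61)) (.bad 61)))))) (.bad 61)))) (.node 3 (.node 11 (.bad 0) (.node 42 (.bad 0) (.node 51 (.bad 0) (.node 52 (.bad 0) (.node 4 (.node 7 (.node 48 (.node 54 (.bad 0) (.node 59 (.node 14 (.bad 70) (.node 8 (.node 20 (.node 19 (.bad 37) (.node 5 (.node 23 (.node 24 (.bad 67) (.node 15 (.node 9 (.bad 56) (.node 10 (.node 18 (.bad 24) (.node 21 (.bad 49) (.bad 10))) (.bad 12))) (.bad 11))) (.bad 11)) (.bad 6))) (.bad 50)) (.bad 42))) (.bad 61))) (.bad 61)) (.bad 61)) (.bad 61)))))) (.node 4 (.node 7 (.node 19 (.node 20 (.bad 37) (.node 25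 (.node 24 (.bad 67) (.node 22 (.node 26 (.node 9 (.bad 56) (.node 15 (.bad 56) (.node 23 (.node 8 (.bad 3) (.node 11 (.node 5 (.bad 24) (.node 14 (.node 18 (.bad 24) (.node 21 (.node 27 (.bad 3) (.node 31 (.bad 47) (.bad 33))) (.bad 10))) (.bad 6))) (.bad 23))) (.bad 11)))) (.bad 33)) (.bad 66))) (.bad 33))) (.bad 33)) (.bad 61)) (.bad 61))))

/-- A part of the search. -/
def cert70 : SuzRec.STree := (.node 0 (.node 27 (.node 20 (.bad 51) (.node 25 (.bad 51) (.node 40 (.bad 51) (.node 51 (.node 37 (.bad 20) (.node 8 (.node 3 (.node 4 (.bad 3) (.node 14 (.node 11 (.bad 42) (.node 15 (.node 19 (.bad 19) (.node 9 (.node 10 (.node 21 (.bad 10) (.bad 12)) (.bad 12)) (.bad 12))) (.bad 30))) (.bad 50))) (.bad 3)) (.bad 50))) (.bad 51))))) (.node 51 (.node 3 (.bad 27) (.node 19 (.bad 27) (.node 37 (.bad 27) (.node 41 (.bad 27) (.node 65 (.bad 27) (.node 18 (.node 22 (.node 40 (.node 60 (.node 4 (.bad 69) (.node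 7 (.node 20 (.bad 37) (.node 8 (.node 10 (.bad 18) (.node 9 (.bad 10) (.bad 12))) (.bad 50))) (.bad 61))) (.bad 64)) (.bad 64)) (.bad 64)) (.bad 64))))))) (.node 18 (.node 22 (.node 28 (.node 7 (.bad 48) (.node 40 (.node 20 (.bad 51) (.node 25 (.bad 51) (.node 37 (.bad 20) (.node 8 (.node 11 (.node 14 (.bad 42) (.bad 50)) (.bad 19)) (.bad 50))))) (.bad 64))) (.bad 16)) (.bad 64)) (.bad 64)))) (.node 3 (.node 52 (.node 11 (.bad 0) (.node 42 (.bad 0) (.node 51 (.bad 0) (.node 54 (.bad 0) (.node 27 (.node 20 (.bad 51) (.node 8 (.node 14 (.node 21 (.bad 42) (.node 25 (.bad 51) (.node 9 (.node 5 (.bad 68) (.node 7 (.node 10 (.node 19 (.node 24 (.node 18 (.bad 48) (.node 22 (.bad 18) (.bad 64))) (.bad 19)) (.bad 6)) (.bad 12)) (.bad 49))) (.bad 12)))) (.bad 50)) (.bad 50))) (.node 4 (.node 8 (.node 18 (.node 21 (.bad 10) (.node 22 (.node 23 (.node 9 (.bad 46) (.node 10 (.node 19 (.node 15 (.bad 11) (.node 24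 (.bad 11) (.node 5 (.bad 24) (.bad 36)))) (.bad 12)) (.bad 12))) (.bad 3)) (.bad 64))) (.bad 64)) (.bad 3)) (.bad 3))))))) (.node 4 (.node 7 (.node 48 (.node 59 (.node 14 (.bad 70) (.node 32 (.bad 70) (.node 35 (.bad 70) (.node 37 (.bad 7) (.node 8 (.node 20 (.bad 37) (.bad 50)) (.bad 50)))))) (.bad 61)) (.bad 61)) (.bad 61)) (.bad 61))) (.node 4 (.node 7 (.node 48 (.node 52 (.node 59 (.node 14 (.bad 70) (.node 5 (.node 9 (.bad 68) (.node 19 (.node 11 (.bad 24) (.node 8 (.node 18 (.bad 24) (.node 20 (.bad 37) (.node 24 (.node 10 (.bad 18) (.node 21 (.bad 10) (.bad 12))) (.bad 24)))) (.bad 42))) (.bad 6))) (.bad 6))) (.bad 61)) (.bad 61)) (.bad 61)) (.bad 61)) (.bad 61))))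

/-- A part of the search. -/
def cert71 : SuzRec.STree := (.node 0 (.node 3 (.node 8 (.node 4 (.bad 3) (.node 11 (.bad 23) (.node 23 (.bad 3) (.node 9 (.node 15 (.node 18 (.node 19 (.bad 11) (.node 21 (.bad 10) (.node 10 (.node 24 (.bad 11) (.node 25 (.bad 23) (.bad 12))) (.bad 12)))) (.bad 13)) (.bad 29)) (.bad 46))))) (.node 42 (.node 10 (.bad 8) (.node 11 (.bad 0) (.node 14 (.node 15 (.bad 11) (.node 18 (.bad 8) (.node 19 (.bad 11) (.node 9 (.node 21 (.node 23 (.bad 8) (.bad 13)) (.bad 12)) (.bad 12))))) (.bad 42)))) (.node 14 (.node 20 (.node 26 (.node 7 (.bad 37) (.node 19 (.bad 37) (.node 27 (.bad 37) (.node 37 (.node 25 (.bad 19) (.node 5 (.node 9 (.node 4 (.bad 56) (.node 10 (.node 15 (.bad 56) (.node 21 (.bad 55) (.bad 12))) (.bad 12))) (.bad 12)) (.bad 6))) (.bad 37))))) (.bad 50)) (.bad 50)) (.bad 50)))) (.node 4 (.bad 3) (.node 7 (.node 8 (.bad 3) (.node 23 (.bad 3) (.node 27 (.bad 3) (.node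 41 (.bad 3) (.node 48 (.node 52 (.node 59 (.node 14 (.bad 70) (.node 5 (.node 9 (.bad 68) (.node 11 (.node 18 (.bad 24) (.bad 46)) (.bad 46))) (.bad 6))) (.bad 61)) (.bad 61)) (.bad 61)))))) (.bad 61)))) (.node 3 (.node 11 (.bad 0) (.node 42 (.bad 0) (.node 51 (.bad 0) (.node 52 (.bad 0) (.node 4 (.node 7 (.node 48 (.node 54 (.bad 0) (.node 59 (.node 14 (.bad 70) (.node 5 (.node 8 (.node 19 (.node 18 (.bad 24) (.node 9 (.node 10 (.bad 18) (.bad 8)) (.bad 46))) (.bad 6)) (.bad 42)) (.bad 6))) (.bad 61))) (.bad 61)) (.bad 61)) (.bad 61)))))) (.node 4 (.node 5 (.node 7 (.node 14 (.node 19 (.node 20 (.bad 37) (.node 25 (.node 24 (.bad 67) (.node 11 (.bad 24) (.node 18 (.bad 24) (.node 22 (.node 23 (.bad 11) (.bad 13)) (.bad 66))))) (.bad 6))) (.bad 6)) (.bad 6)) (.bad 61)) (.bad 6)) (.bad 61))))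

/-- A part of the search. -/
def cert72 : SuzRec.STree := (.node 0 (.node 3 (.node 8 (.node 4 (.bad 3) (.node 11 (.bad 23) (.node 23 (.bad 3) (.node 9 (.node 15 (.node 18 (.node 19 (.bad 11) (.node 21 (.bad 10) (.node 10 (.node 24 (.bad 11) (.node 25 (.bad 23) (.bad 12))) (.bad 12)))) (.bad 13)) (.bad 29)) (.bad 46))))) (.node 42 (.node 10 (.bad 8) (.node 11 (.bad 0) (.node 14 (.node 15 (.bad 11) (.node 18 (.bad 8) (.node 19 (.bad 11) (.node 9 (.node 21 (.node 23 (.bad 8) (.bad 13)) (.bad 12)) (.bad 12))))) (.bad 42)))) (.node 14 (.node 20 (.node 26 (.node 4 (.bad 56) (.node 7 (.bad 37) (.node 9 (.bad 56) (.node 15 (.bad 56) (.node 19 (.bad 37) (.node 10 (.node 21 (.node 11 (.bad 42) (.node 18 (.node 23 (.bad 8) (.bad 29)) (.bad 46))) (.bad 10)) (.bad 12))))))) (.bad 50)) (.bad 50)) (.bad 50)))) (.node 4 (.bad 3) (.node 7 (.node 8 (.bad 3) (.node 23 (.bad 3) (.node 27 (.bad 3) (.node 41 (.bad 3) (.node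 48 (.node 52 (.node 59 (.node 14 (.bad 70) (.node 20 (.node 19 (.bad 37) (.node 5 (.node 25 (.node 11 (.bad 19) (.node 9 (.node 15 (.node 18 (.node 21 (.bad 60) (.bad 42)) (.bad 13)) (.bad 29)) (.bad 46))) (.bad 6)) (.bad 6))) (.bad 50))) (.bad 61)) (.bad 61)) (.bad 61)))))) (.bad 61)))) (.node 3 (.node 11 (.bad 0) (.node 42 (.bad 0) (.node 51 (.bad 0) (.node 52 (.bad 0) (.node 4 (.node 7 (.node 48 (.node 54 (.bad 0) (.node 59 (.node 14 (.bad 70) (.node 8 (.node 20 (.node 19 (.bad 37) (.node 5 (.node 25 (.node 23 (.node 15 (.bad 11) (.node 24 (.bad 11) (.node 18 (.bad 24) (.node 9 (.node 10 (.bad 18) (.bad 8)) (.bad 46))))) (.bad 23)) (.bad 6)) (.bad 6))) (.bad 50)) (.bad 42))) (.bad 61))) (.bad 61)) (.bad 61)) (.bad 61)))))) (.node 4 (.node 7 (.node 19 (.node 20 (.bad 37) (.node 25 (.node 24 (.bad 67) (.node 22 (.node 26 (.node 9 (.bad 56) (.node 15 (.bad 56) (.node 27 (.bad 37) (.node 31 (.node 14 (.bad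 47) (.node 5 (.node 8 (.node 11 (.bad 23) (.node 18 (.bad 24) (.node 10 (.bad 18) (.node 21 (.node 23 (.bad 3) (.bad 8)) (.bad 12))))) (.bad 50)) (.bad 6))) (.bad 33))))) (.bad 33)) (.bad 66))) (.bad 33))) (.bad 33)) (.bad 61)) (.bad 61))))

/-- A part of the search. -/
def cert73 : SuzRec.STree := (.node 0 (.node 23 (.node 11 (.node 15 (.bad 11) (.node 19 (.bad 11) (.node 24 (.bad 11) (.node 42 (.bad 11) (.node 8 (.bad 42) (.node 14 (.node 20 (.node 21 (.bad 42) (.node 9 (.node 10 (.node 25 (.node 3 (.bad 23) (.node 4 (.bad 3) (.node 7 (.node 18 (.bad 48) (.node 26 (.bad 37) (.bad 50))) (.bad 61)))) (.bad 12)) (.bad 12)) (.bad 12))) (.bad 50)) (.bad 50))))))) (.bad 11)) (.node 11 (.node 3 (.bad 23) (.node 8 (.bad 23) (.node 25 (.bad 23) (.node 35 (.bad 23) (.node 15 (.node 28 (.node 38 (.node 58 (.node 4 (.bad 62) (.node 5 (.bad 62) (.node 7 (.node 14 (.bad 62) (.bad 6)) (.bad 61)))) (.bad 29)) (.bad 29))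 (.bad 29)) (.bad 29)))))) (.node 15 (.node 18 (.node 19 (.bad 11) (.node 24 (.bad 11) (.node 28 (.node 7 (.bad 48) (.node 35 (.node 38 (.node 42 (.bad 11) (.node 3 (.node 8 (.bad 23) (.node 14 (.node 4 (.bad 62) (.node 5 (.bad 62) (.node 9 (.node 10 (.node 20 (.node 21 (.bad 10) (.bad 21)) (.bad 50)) (.bad 49)) (.bad 46)))) (.bad 50))) (.bad 0))) (.bad 29)) (.bad 29))) (.bad 29)))) (.bad 13)) (.bad 29)))) (.node 3 (.node 52 (.node 11 (.bad 0) (.node 42 (.bad 0) (.node 51 (.bad 0) (.node 54 (.bad 0) (.node 23 (.node 15 (.bad 11) (.node 19 (.bad 11) (.node 24 (.bad 11) (.node 5 (.node 4 (.node 9 (.bad 68) (.node 10 (.node 21 (.node 25 (.node 20 (.node 27 (.bad 51) (.node 8 (.node 14 (.bad 42) (.node 18 (.bad 10) (.bad 64))) (.bad 3))) (.bad 25)) (.bad 12)) (.bad 12)) (.bad 12))) (.bad 4)) (.bad 36))))) (.node 4 (.node 8 (.node 10 (.node 15 (.node 18 (.node 21 (.bad 10) (.node 25 (.bad 23) (.node 9 (.node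 5 (.bad 68) (.node 7 (.node 14 (.node 19 (.node 20 (.bad 37) (.node 24 (.bad 11) (.bad 19))) (.bad 6)) (.bad 6)) (.bad 49))) (.bad 12)))) (.bad 8)) (.bad 29)) (.bad 8)) (.bad 3)) (.bad 3))))))) (.node 4 (.node 7 (.node 48 (.node 59 (.node 14 (.bad 70) (.node 32 (.bad 70) (.node 35 (.bad 70) (.node 37 (.bad 7) (.node 8 (.node 11 (.bad 23) (.node 15 (.node 9 (.node 20 (.bad 37) (.bad 50)) (.bad 15)) (.bad 29))) (.bad 50)))))) (.bad 61)) (.bad 61)) (.bad 61)) (.bad 61))) (.node 4 (.node 7 (.node 48 (.node 52 (.node 59 (.node 14 (.bad 70) (.node 5 (.node 9 (.bad 68) (.node 19 (.node 11 (.bad 24) (.node 8 (.node 18 (.bad 24) (.node 10 (.bad 18) (.node 20 (.bad 37) (.node 21 (.bad 10) (.bad 12))))) (.bad 42))) (.bad 6))) (.bad 6))) (.bad 61)) (.bad 61)) (.bad 61)) (.bad 61)) (.bad 61))))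

/-- A part of the search. -/
def cert74 : SuzRec.STree := (.node 0 (.node 3 (.node 4 (.node 8 (.bad 3) (.node 22 (.bad 52) (.node 23 (.bad 3) (.node 11 (.bad 23) (.node 9 (.node 15 (.node 18 (.node 19 (.bad 11) (.node 24 (.bad 11) (.node 20 (.node 26 (.bad 52) (.node 14 (.node 27 (.bad 3) (.node 28 (.node 7 (.bad 48) (.node 35 (.node 5 (.bad 55) (.node 21 (.bad 55) (.node 10 (.node 25 (.bad 23) (.bad 6)) (.bad 12)))) (.bad 29))) (.bad 29))) (.bad 50))) (.bad 66)))) (.bad 46)) (.bad 29)) (.bad 46)))))) (.node 52 (.bad 4) (.node 7 (.node 9 (.node 11 (.node 8 (.bad 23) (.node 18 (.node 21 (.bad 60) (.node 23 (.node 10 (.bad 8) (.node 15 (.bad 11) (.node 19 (.bad 11) (.bad 12)))) (.bad 23))) (.bad 46))) (.bad 46)) (.bad 46)) (.bad 61)))) (.node 4 (.bad 3) (.node 7 (.node 8 (.bad 3) (.node 23 (.bad 3) (.node 9 (.node 11 (.node 18 (.node 21 (.bad 60) (.node 25 (.bad 23) (.node 5 (.node 10 (.node 14 (.node 19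 (.bad 24) (.bad 6)) (.bad 6)) (.bad 12)) (.bad 6)))) (.bad 46)) (.bad 46)) (.bad 46)))) (.bad 61)))) (.node 3 (.node 11 (.bad 0) (.node 42 (.bad 0) (.node 51 (.bad 0) (.node 52 (.bad 0) (.node 4 (.node 7 (.node 9 (.node 18 (.node 21 (.bad 60) (.node 8 (.node 22 (.bad 52) (.node 23 (.node 15 (.bad 11) (.node 19 (.bad 11) (.node 5 (.node 10 (.node 14 (.node 24 (.bad 11) (.node 20 (.node 25 (.node 26 (.bad 37) (.node 27 (.bad 3) (.bad 64))) (.bad 6)) (.bad 66))) (.bad 6)) (.bad 12)) (.bad 6)))) (.bad 46))) (.bad 42))) (.bad 46)) (.bad 46)) (.bad 61)) (.bad 46)))))) (.node 4 (.node 5 (.node 7 (.node 14 (.node 19 (.node 20 (.bad 37) (.node 25 (.node 24 (.bad 67) (.node 11 (.bad 24) (.node 18 (.bad 24) (.node 9 (.node 21 (.bad 55) (.node 8 (.node 22 (.node 10 (.bad 18) (.node 23 (.bad 3) (.bad 8))) (.bad 66)) (.bad 42))) (.bad 46))))) (.bad 6))) (.bad 6)) (.bad 6)) (.bad 61)) (.bad 6)) (.bad 61))))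

/-- A part of the search. -/
def cert75 : SuzRec.STree := (.node 57 (.node 0 (.node 3 (.node 4 (.node 8 (.bad 3) (.node 22 (.bad 52) (.node 23 (.bad 3) (.node 11 (.bad 23) (.node 9 (.node 15 (.node 18 (.node 19 (.bad 11) (.node 20 (.bad 56) (.node 14 (.node 24 (.bad 11) (.bad 66)) (.bad 50)))) (.bad 46)) (.bad 29)) (.bad 46)))))) (.node 52 (.bad 4) (.node 7 (.node 9 (.node 11 (.node 8 (.bad 23) (.node 18 (.node 21 (.bad 60) (.node 23 (.node 10 (.bad 8) (.node 15 (.bad 11) (.node 19 (.bad 11) (.bad 12)))) (.bad 23))) (.bad 46))) (.bad 46)) (.bad 46)) (.bad 61)))) (.node 4 (.bad 3) (.node 7 (.node 8 (.bad 3) (.node 23 (.bad 3) (.node 9 (.node 11 (.node 18 (.node 21 (.bad 60) (.node 25 (.bad 23) (.node 10 (.node 19 (.node 5 (.bad 24) (.node 14 (.node 20 (.bad 25) (.node 24 (.node 15 (.bad 11) (.node 26 (.node 27 (.bad 3) (.node 28 (.bad 48) (.bad 29))) (.bad 33))) (.bad 24))) (.bad 6))) (.bad 12)) (.bad 12))))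 (.bad 46)) (.bad 46)) (.bad 46)))) (.bad 61)))) (.node 3 (.node 11 (.bad 0) (.node 42 (.bad 0) (.node 51 (.bad 0) (.node 52 (.bad 0) (.node 4 (.node 7 (.node 9 (.node 18 (.node 21 (.bad 60) (.node 8 (.node 22 (.bad 52) (.node 23 (.node 15 (.bad 11) (.node 19 (.bad 11) (.node 10 (.node 24 (.bad 11) (.node 20 (.node 25 (.node 26 (.bad 37) (.bad 33)) (.bad 12)) (.bad 66))) (.bad 12)))) (.bad 46))) (.bad 42))) (.bad 46)) (.bad 46)) (.bad 61)) (.bad 46)))))) (.node 4 (.node 7 (.node 19 (.node 20 (.bad 37) (.node 25 (.node 24 (.bad 67) (.node 22 (.node 26 (.bad 52) (.bad 33)) (.bad 66))) (.bad 33))) (.bad 33)) (.bad 61)) (.bad 61)))) (.bad 2))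

/-- A part of the search. -/
def cert76 : SuzRec.STree := (.node 0 (.node 4 (.node 22 (.bad 52) (.node 26 (.bad 52) (.node 38 (.bad 52) (.node 20 (.node 24 (.node 7 (.bad 48) (.node 23 (.bad 11) (.node 11 (.node 3 (.bad 23) (.node 8 (.bad 3) (.node 14 (.node 15 (.node 19 (.bad 11) (.node 25 (.bad 19) (.node 5 (.node 9 (.node 10 (.node 21 (.bad 55) (.bad 12)) (.bad 12)) (.bad 12)) (.bad 6)))) (.bad 29)) (.bad 50)))) (.bad 29)))) (.bad 66)) (.bad 66))))) (.node 52 (.node 3 (.bad 4) (.node 5 (.bad 4) (.node 7 (.node 48 (.node 56 (.bad 4) (.node 59 (.node 37 (.bad 7) (.node 8 (.node 14 (.bad 43) (.bad 50)) (.bad 50))) (.bad 61))) (.bad 61)) (.bad 61)))) (.node 3 (.node 7 (.node 9 (.node 11 (.node 8 (.bad 23) (.node 18 (.node 20 (.bad 48) (.node 14 (.node 21 (.bad 10) (.node 23 (.node 10 (.bad 8) (.node 5 (.node 15 (.bad 11) (.node 19 (.bad 11) (.bad 12))) (.bad 49))) (.bad 23))) (.bad 50))) (.bad 46))) (.bad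 46)) (.bad 46)) (.bad 61)) (.bad 61)))) (.node 3 (.node 52 (.node 4 (.node 5 (.bad 4) (.node 11 (.bad 0) (.node 42 (.bad 0) (.node 51 (.bad 0) (.node 54 (.bad 0) (.node 24 (.node 23 (.bad 11) (.node 8 (.node 9 (.node 10 (.node 15 (.node 18 (.node 7 (.bad 48) (.node 14 (.node 19 (.bad 11) (.node 20 (.node 21 (.bad 10) (.bad 49)) (.bad 25))) (.bad 49))) (.bad 8)) (.bad 29)) (.bad 8)) (.bad 46)) (.bad 3))) (.bad 36))))))) (.bad 4)) (.node 4 (.node 7 (.node 22 (.bad 52) (.node 26 (.bad 52) (.node 38 (.bad 52) (.node 20 (.node 18 (.bad 48) (.node 9 (.node 11 (.node 8 (.bad 23) (.node 14 (.node 19 (.bad 37) (.node 23 (.node 24 (.bad 48) (.bad 66)) (.bad 3))) (.bad 50))) (.bad 46)) (.bad 46))) (.bad 66))))) (.bad 61)) (.bad 61))) (.node 4 (.node 7 (.node 48 (.node 52 (.node 59 (.node 37 (.bad 7) (.node 20 (.bad 37) (.node 8 (.node 14 (.bad 43) (.bad 50)) (.bad 50)))) (.bad 61)) (.bad 61)) (.bad 61)) (.bad 61))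 (.bad 61))))

/-- A part of the search. -/
def cert77 : SuzRec.STree := (.node 0 (.node 3 (.node 4 (.node 8 (.bad 3) (.node 22 (.bad 52) (.node 23 (.bad 3) (.node 26 (.bad 52) (.node 14 (.node 20 (.node 27 (.bad 3) (.node 18 (.node 37 (.node 19 (.bad 27) (.node 25 (.bad 19) (.node 5 (.node 9 (.node 10 (.node 21 (.bad 55) (.bad 12)) (.bad 12)) (.bad 12)) (.bad 6)))) (.bad 50)) (.bad 64))) (.bad 50)) (.bad 50)))))) (.node 52 (.bad 4) (.node 7 (.node 9 (.node 27 (.node 8 (.bad 3) (.node 20 (.bad 37) (.node 14 (.node 23 (.bad 3) (.node 11 (.node 18 (.node 25 (.bad 19) (.node 26 (.node 5 (.bad 55) (.node 19 (.bad 37) (.bad 6))) (.bad 50))) (.bad 46)) (.bad 46))) (.bad 50)))) (.bad 45)) (.bad 45)) (.bad 61)))) (.node 4 (.bad 3) (.node 7 (.node 8 (.bad 3) (.node 23 (.bad 3) (.node 27 (.bad 3) (.node 9 (.node 28 (.node 10 (.bad 58) (.node 37 (.bad 58) (.node 14 (.node 20 (.bad 37) (.bad 50)) (.bad 50)))) (.bad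 45)) (.bad 45))))) (.bad 61)))) (.node 3 (.node 11 (.bad 0) (.node 42 (.bad 0) (.node 51 (.bad 0) (.node 52 (.bad 0) (.node 4 (.node 7 (.node 9 (.node 22 (.bad 52) (.node 18 (.node 26 (.bad 52) (.node 8 (.node 14 (.node 20 (.node 19 (.bad 37) (.node 5 (.node 21 (.bad 10) (.node 10 (.node 23 (.node 24 (.bad 48) (.node 15 (.node 25 (.node 27 (.bad 3) (.bad 45)) (.bad 6)) (.bad 11))) (.bad 11)) (.bad 12))) (.bad 6))) (.bad 50)) (.bad 50)) (.bad 50))) (.bad 64))) (.bad 45)) (.bad 61)) (.bad 45)))))) (.node 4 (.node 5 (.node 7 (.node 14 (.node 19 (.node 20 (.bad 37) (.node 25 (.node 24 (.bad 67) (.node 11 (.bad 24) (.node 18 (.bad 24) (.node 22 (.node 26 (.bad 52) (.node 8 (.node 23 (.bad 3) (.node 9 (.node 10 (.node 15 (.node 21 (.bad 55) (.node 27 (.bad 3) (.node 28 (.bad 58) (.bad 29)))) (.bad 11)) (.bad 8)) (.bad 46))) (.bad 50))) (.bad 66))))) (.bad 6))) (.bad 6)) (.bad 6)) (.bad 61)) (.bad 6)) (.bad 61))))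

/-- A part of the search. -/
def cert78 : SuzRec.STree := (.node 0 (.node 4 (.node 22 (.bad 52) (.node 26 (.bad 52) (.node 38 (.bad 52) (.node 20 (.node 24 (.node 7 (.bad 48) (.node 27 (.bad 51) (.node 18 (.node 28 (.bad 48) (.node 9 (.node 11 (.node 15 (.node 21 (.bad 10) (.node 5 (.node 10 (.node 14 (.node 8 (.bad 42) (.node 19 (.bad 24) (.node 23 (.bad 11) (.bad 29)))) (.bad 49)) (.bad 49)) (.bad 49))) (.bad 29)) (.bad 29)) (.bad 45))) (.bad 64)))) (.bad 66)) (.bad 66))))) (.node 52 (.node 3 (.bad 4) (.node 5 (.bad 4) (.node 7 (.node 48 (.node 56 (.bad 4) (.node 59 (.node 37 (.bad 7) (.node 8 (.node 14 (.bad 43) (.bad 50)) (.bad 50))) (.bad 61))) (.bad 61)) (.bad 61)))) (.node 3 (.node 7 (.node 9 (.node 27 (.node 20 (.bad 37) (.node 25 (.bad 51) (.node 28 (.node 10 (.bad 58) (.node 18 (.bad 48) (.node 11 (.node 19 (.node 21 (.bad 10) (.bad 12)) (.bad 12)) (.bad 46)))) (.bad 45)))) (.bad 45)) (.bad 45))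 (.bad 61)) (.bad 61)))) (.node 3 (.node 52 (.node 4 (.node 5 (.bad 4) (.node 11 (.bad 0) (.node 42 (.bad 0) (.node 51 (.bad 0) (.node 54 (.bad 0) (.node 24 (.node 31 (.node 32 (.node 22 (.bad 69) (.node 8 (.node 18 (.bad 22) (.bad 64)) (.bad 17))) (.bad 36)) (.bad 36)) (.bad 36))))))) (.bad 4)) (.node 4 (.node 7 (.node 22 (.bad 52) (.node 26 (.bad 52) (.node 38 (.bad 52) (.node 20 (.node 18 (.bad 48) (.node 19 (.bad 37) (.node 24 (.bad 48) (.bad 66)))) (.bad 66))))) (.bad 61)) (.bad 61))) (.node 4 (.node 7 (.node 48 (.node 52 (.node 59 (.node 37 (.bad 7) (.node 20 (.bad 37) (.node 8 (.node 14 (.bad 43) (.bad 50)) (.bad 50)))) (.bad 61)) (.bad 61)) (.bad 61)) (.bad 61)) (.bad 61))))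

/-- A part of the search. -/
def cert79 : SuzRec.STree := (.node 13 (.node 16 (.node 45 (.node 46 (.bad 44) (.node 33 (.node 49 (.node 57 (.bad 2) cert68) (.node 57 cert69 (.bad 2))) (.node 49 (.node 57 cert70 (.bad 2)) (.bad 2)))) (.node 46 (.node 33 (.node 49 (.node 57 (.bad 2) cert71) (.node 57 cert72 (.bad 2))) (.node 49 (.node 57 cert73 (.bad 2)) (.bad 2))) (.bad 44))) (.node 45 (.node 46 (.node 33 (.node 49 (.node 57 (.bad 2) cert74) cert75) (.node 49 (.node 57 cert76 (.bad 2)) (.bad 2))) (.bad 44)) (.bad 44))) (.node 16 (.node 45 (.node 46 (.node 33 (.node 49 (.node 57 (.bad 2) cert77) (.node 57 (.node 0 (.node 3 (.node 4 (.node 8 (.bad 3) (.node 22 (.bad 52) (.node 23 (.bad 3) (.node 26 (.bad 52) (.node 14 (.node 20 (.node 27 (.bad 3) (.node 18 (.node 37 (.node 19 (.bad 27) (.node 25 (.bad 19) (.bad 33))) (.bad 50)) (.bad 64))) (.bad 50)) (.bad 50)))))) (.node 52 (.bad 4) (.node 7 (.node 9 (.node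 27 (.node 8 (.bad 3) (.node 20 (.bad 37) (.node 14 (.node 23 (.bad 3) (.node 11 (.node 18 (.node 25 (.bad 19) (.node 26 (.node 5 (.bad 55) (.node 15 (.bad 56) (.node 19 (.bad 37) (.bad 11)))) (.bad 50))) (.bad 46)) (.bad 46))) (.bad 50)))) (.bad 45)) (.bad 45)) (.bad 61)))) (.node 4 (.bad 3) (.node 7 (.node 8 (.bad 3) (.node 23 (.bad 3) (.node 27 (.bad 3) (.node 9 (.node 28 (.node 10 (.bad 58) (.node 37 (.bad 58) (.node 14 (.node 20 (.bad 37) (.bad 50)) (.bad 50)))) (.bad 45)) (.bad 45))))) (.bad 61)))) (.node 3 (.node 11 (.bad 0) (.node 42 (.bad 0) (.node 51 (.bad 0) (.node 52 (.bad 0) (.node 4 (.node 7 (.node 9 (.node 22 (.bad 52) (.node 18 (.node 26 (.bad 52) (.node 8 (.node 14 (.node 19 (.node 20 (.bad 37) (.bad 50)) (.bad 33)) (.bad 50)) (.bad 50))) (.bad 64))) (.bad 45)) (.bad 61)) (.bad 45)))))) (.node 4 (.node 7 (.node 19 (.node 20 (.bad 37) (.node 25 (.node 24 (.bad 67) (.node 22 (.node 26 (.bad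 52) (.bad 33)) (.bad 66))) (.bad 33))) (.bad 33)) (.bad 61)) (.bad 61)))) (.bad 2))) (.node 49 (.node 57 cert78 (.bad 2)) (.bad 2))) (.bad 44)) (.bad 44)) (.bad 44)))

/-- A part of the search. -/
def cert80 : SuzRec.STree := (.node 0 (.node 27 (.node 20 (.bad 51) (.node 25 (.bad 51) (.node 40 (.bad 51) (.node 51 (.node 37 (.bad 20) (.node 8 (.node 3 (.node 4 (.bad 3) (.node 14 (.node 11 (.bad 42) (.node 15 (.node 19 (.bad 19) (.node 9 (.node 10 (.node 21 (.bad 10) (.bad 12)) (.bad 12)) (.bad 12))) (.bad 30))) (.bad 50))) (.bad 3)) (.bad 50))) (.bad 51))))) (.node 51 (.node 3 (.bad 27) (.node 19 (.bad 27) (.node 37 (.bad 27) (.node 41 (.bad 27) (.node 65 (.bad 27) (.node 18 (.node 22 (.node 40 (.node 60 (.node 4 (.bad 69) (.node 7 (.node 20 (.bad 37) (.node 8 (.node 10 (.bad 18) (.node 9 (.bad 10) (.bad 12))) (.bad 50))) (.bad 61))) (.bad 64)) (.bad 64)) (.bad 64)) (.bad 64))))))) (.node 18 (.node 22 (.node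 28 (.node 7 (.bad 48) (.node 40 (.node 20 (.bad 51) (.node 25 (.bad 51) (.node 37 (.bad 20) (.node 8 (.node 11 (.node 14 (.bad 42) (.bad 50)) (.bad 19)) (.bad 50))))) (.bad 64))) (.bad 16)) (.bad 64)) (.bad 64)))) (.node 3 (.node 52 (.node 11 (.bad 0) (.node 42 (.bad 0) (.node 51 (.bad 0) (.node 54 (.bad 0) (.node 27 (.node 20 (.bad 51) (.node 8 (.node 14 (.node 21 (.bad 42) (.node 25 (.bad 51) (.node 9 (.node 10 (.node 19 (.node 24 (.node 23 (.bad 11) (.node 4 (.node 15 (.node 18 (.node 7 (.bad 48) (.node 26 (.bad 56) (.bad 50))) (.bad 8)) (.bad 11)) (.bad 3))) (.bad 19)) (.bad 12)) (.bad 12)) (.bad 12)))) (.bad 50)) (.bad 50))) (.node 4 (.node 8 (.node 18 (.node 21 (.bad 10) (.node 22 (.node 23 (.node 9 (.bad 46) (.node 10 (.node 19 (.node 15 (.bad 11) (.node 24 (.bad 11) (.node 5 (.bad 24) (.bad 36)))) (.bad 12)) (.bad 12))) (.bad 3)) (.bad 64))) (.bad 64)) (.bad 3)) (.bad 3))))))) (.node 4 (.node 7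 (.node 48 (.node 59 (.node 14 (.bad 70) (.node 32 (.bad 70) (.node 35 (.bad 70) (.node 37 (.bad 7) (.node 8 (.node 20 (.bad 37) (.bad 50)) (.bad 50)))))) (.bad 61)) (.bad 61)) (.bad 61)) (.bad 61))) (.node 4 (.node 7 (.node 48 (.node 52 (.node 59 (.node 14 (.bad 70) (.node 32 (.bad 70) (.node 19 (.node 20 (.bad 37) (.node 8 (.node 25 (.node 24 (.bad 67) (.node 5 (.bad 24) (.bad 36))) (.bad 33)) (.bad 50))) (.bad 33)))) (.bad 61)) (.bad 61)) (.bad 61)) (.bad 61)) (.bad 61))))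

/-- A part of the search. -/
def cert81 : SuzRec.STree := (.node 0 (.node 23 (.node 11 (.node 15 (.bad 11) (.node 19 (.bad 11) (.node 24 (.bad 11) (.node 42 (.bad 11) (.node 8 (.bad 42) (.node 14 (.node 20 (.node 21 (.bad 42) (.node 9 (.node 10 (.node 25 (.node 3 (.bad 23) (.node 4 (.bad 3) (.node 7 (.node 18 (.bad 48) (.node 26 (.bad 37) (.bad 50))) (.bad 61)))) (.bad 12)) (.bad 12)) (.bad 12))) (.bad 50)) (.bad 50))))))) (.bad 11)) (.node 11 (.node 3 (.bad 23) (.node 8 (.bad 23) (.node 25 (.bad 23) (.node 35 (.bad 23) (.node 15 (.node 28 (.node 38 (.node 58 (.node 4 (.bad 62) (.node 5 (.bad 62) (.node 7 (.node 14 (.bad 62) (.node 18 (.bad 48) (.node 9 (.node 19 (.node 20 (.bad 37) (.bad 50)) (.bad 6)) (.bad 46)))) (.bad 61)))) (.bad 29)) (.bad 29)) (.bad 29)) (.bad 29)))))) (.node 15 (.node 18 (.node 19 (.bad 11) (.node 24 (.bad 11) (.node 28 (.node 7 (.bad 48) (.node 35 (.node 38 (.node 42 (.bad 11)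 (.node 3 (.node 8 (.bad 23) (.node 14 (.node 4 (.bad 62) (.node 5 (.bad 62) (.node 9 (.node 20 (.node 21 (.bad 10) (.node 10 (.bad 21) (.bad 12))) (.bad 50)) (.bad 46)))) (.bad 50))) (.bad 0))) (.bad 29)) (.bad 29))) (.bad 29)))) (.bad 13)) (.bad 29)))) (.node 3 (.node 52 (.node 11 (.bad 0) (.node 42 (.bad 0) (.node 51 (.bad 0) (.node 54 (.bad 0) (.node 23 (.node 15 (.bad 11) (.node 19 (.bad 11) (.node 24 (.bad 11) (.node 5 (.node 4 (.node 28 (.node 31 (.node 32 (.node 22 (.bad 69) (.node 8 (.node 18 (.bad 22) (.bad 64)) (.bad 17))) (.bad 36)) (.bad 36)) (.bad 29)) (.bad 4)) (.bad 36))))) (.node 4 (.node 8 (.node 10 (.node 15 (.node 18 (.node 21 (.bad 10) (.node 25 (.bad 23) (.node 9 (.node 19 (.node 20 (.bad 56) (.node 14 (.node 24 (.bad 11) (.bad 19)) (.bad 50))) (.bad 12)) (.bad 12)))) (.bad 8)) (.bad 29)) (.bad 8)) (.bad 3)) (.bad 3))))))) (.node 4 (.node 7 (.node 48 (.node 59 (.node 14 (.bad 70) (.node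 32 (.bad 70) (.node 35 (.bad 70) (.node 37 (.bad 7) (.node 8 (.node 11 (.bad 23) (.node 15 (.node 9 (.node 20 (.bad 37) (.bad 50)) (.bad 15)) (.bad 29))) (.bad 50)))))) (.bad 61)) (.bad 61)) (.bad 61)) (.bad 61))) (.node 4 (.node 7 (.node 48 (.node 52 (.node 59 (.node 14 (.bad 70) (.node 32 (.bad 70) (.node 19 (.node 20 (.bad 37) (.node 8 (.node 25 (.node 11 (.bad 23) (.node 23 (.bad 11) (.node 15 (.node 18 (.node 5 (.bad 24) (.node 21 (.bad 10) (.node 10 (.node 22 (.bad 18) (.node 24 (.bad 11) (.bad 24))) (.bad 49)))) (.bad 13)) (.bad 29)))) (.bad 33)) (.bad 50))) (.bad 33)))) (.bad 61)) (.bad 61)) (.bad 61)) (.bad 61)) (.bad 61))))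

/-- A part of the search. -/
def cert82 : SuzRec.STree := (.node 0 (.node 4 (.node 22 (.bad 52) (.node 26 (.bad 52) (.node 38 (.bad 52) (.node 20 (.node 24 (.node 7 (.bad 48) (.node 10 (.node 21 (.node 23 (.bad 11) (.node 11 (.node 3 (.bad 23) (.node 8 (.bad 3) (.node 14 (.node 15 (.node 9 (.bad 56) (.node 18 (.node 19 (.bad 11) (.node 25 (.bad 19) (.bad 12))) (.bad 46))) (.bad 29)) (.bad 50)))) (.bad 29))) (.bad 57)) (.bad 57))) (.bad 66)) (.bad 66))))) (.node 52 (.node 3 (.bad 4) (.node 5 (.bad 4) (.node 7 (.node 48 (.node 56 (.bad 4) (.node 59 (.node 37 (.bad 7) (.node 8 (.node 14 (.node 11 (.bad 42) (.node 9 (.node 18 (.node 10 (.node 20 (.bad 37) (.bad 50)) (.bad 10)) (.bad 46)) (.bad 46))) (.bad 50)) (.bad 50))) (.bad 61))) (.bad 61)) (.bad 61)))) (.node 3 (.node 7 (.node 9 (.node 11 (.node 8 (.bad 23) (.node 18 (.node 20 (.bad 48) (.node 14 (.node 21 (.bad 10) (.node 23 (.node 10 (.bad 8) (.node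 15 (.bad 11) (.node 19 (.bad 11) (.bad 12)))) (.bad 23))) (.bad 50))) (.bad 46))) (.bad 46)) (.bad 46)) (.bad 61)) (.bad 61)))) (.node 3 (.node 52 (.node 4 (.node 5 (.bad 4) (.node 11 (.bad 0) (.node 42 (.bad 0) (.node 51 (.bad 0) (.node 54 (.bad 0) (.node 24 (.node 23 (.bad 11) (.node 8 (.node 9 (.node 10 (.node 15 (.node 18 (.node 7 (.bad 48) (.node 19 (.bad 11) (.node 20 (.bad 56) (.bad 25)))) (.bad 8)) (.bad 29)) (.bad 8)) (.bad 46)) (.bad 3))) (.bad 36))))))) (.bad 4)) (.node 4 (.node 7 (.node 22 (.bad 52) (.node 26 (.bad 52) (.node 38 (.bad 52) (.node 20 (.node 18 (.bad 48) (.node 9 (.node 11 (.node 8 (.bad 23) (.node 14 (.node 15 (.bad 56) (.node 19 (.bad 37) (.node 23 (.node 24 (.bad 48) (.bad 66)) (.bad 3)))) (.bad 50))) (.bad 46)) (.bad 46))) (.bad 66))))) (.bad 61)) (.bad 61))) (.node 4 (.node 7 (.node 48 (.node 52 (.node 59 (.node 37 (.bad 7) (.node 20 (.bad 37) (.node 8 (.node 14 (.node 22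 (.node 10 (.bad 18) (.node 18 (.node 9 (.bad 10) (.node 19 (.node 5 (.bad 24) (.node 11 (.bad 24) (.node 21 (.bad 10) (.bad 12)))) (.bad 12))) (.bad 18))) (.bad 66)) (.bad 50)) (.bad 50)))) (.bad 61)) (.bad 61)) (.bad 61)) (.bad 61)) (.bad 61))))

/-- A part of the search. -/
def cert83 : SuzRec.STree := (.node 0 (.node 4 (.node 22 (.bad 52) (.node 26 (.bad 52) (.node 38 (.bad 52) (.node 20 (.node 24 (.node 7 (.bad 48) (.node 10 (.node 21 (.node 27 (.bad 51) (.node 18 (.node 8 (.bad 10) (.node 9 (.bad 10) (.node 14 (.node 28 (.bad 48) (.bad 45)) (.bad 50)))) (.bad 64))) (.bad 57)) (.bad 57))) (.bad 66)) (.bad 66))))) (.node 52 (.node 3 (.bad 4) (.node 5 (.bad 4) (.node 7 (.node 48 (.node 56 (.bad 4) (.node 59 (.node 37 (.bad 7) (.node 8 (.node 14 (.node 11 (.bad 42) (.node 20 (.bad 37) (.bad 50))) (.bad 50)) (.bad 50))) (.bad 61))) (.bad 61)) (.bad 61)))) (.node 3 (.node 7 (.node 9 (.node 27 (.node 20 (.bad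 37) (.node 25 (.bad 51) (.node 28 (.node 10 (.bad 58) (.node 18 (.bad 48) (.node 11 (.node 19 (.node 21 (.bad 10) (.bad 12)) (.bad 12)) (.bad 46)))) (.bad 45)))) (.bad 45)) (.bad 45)) (.bad 61)) (.bad 61)))) (.node 3 (.node 52 (.node 4 (.node 5 (.bad 4) (.node 11 (.bad 0) (.node 42 (.bad 0) (.node 51 (.bad 0) (.node 54 (.bad 0) (.node 24 (.node 31 (.node 32 (.node 22 (.bad 69) (.node 8 (.node 18 (.bad 22) (.bad 64)) (.bad 17))) (.bad 36)) (.bad 36)) (.bad 36))))))) (.bad 4)) (.node 4 (.node 7 (.node 22 (.bad 52) (.node 26 (.bad 52) (.node 38 (.bad 52) (.node 20 (.node 18 (.bad 48) (.node 19 (.bad 37) (.node 24 (.bad 48) (.bad 66)))) (.bad 66))))) (.bad 61)) (.bad 61))) (.node 4 (.node 7 (.node 48 (.node 52 (.node 59 (.node 37 (.bad 7) (.node 20 (.bad 37) (.node 8 (.node 14 (.node 22 (.node 24 (.node 10 (.bad 18) (.node 18 (.bad 48) (.bad 18))) (.bad 66)) (.bad 66)) (.bad 50)) (.bad 50)))) (.bad 61)) (.bad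 61)) (.bad 61)) (.bad 61)) (.bad 61))))

/-- A part of the search. -/
def cert84 : SuzRec.STree := (.node 2 (.node 29 (.bad 71) (.node 64 (.bad 73) (.node 71 (.bad 71) (.node 73 (.bad 73) (.node 6 (.node 33 (.node 39 (.node 12 (.bad 72) (.node 44 (.node 36 (.bad 34) (.node 34 (.bad 34) (.node 49 (.node 50 (.bad 74) (.node 57 (.node 61 (.bad 63) (.node 63 (.bad 63) (.node 72 (.bad 72) (.node 1 (.node 17 (.node 30 (.node 66 (.node 74 (.bad 74) (.node 13 (.node 16 (.node 45 (.node 46 (.node 0 (.node 3 cert5 cert9) (.node 3 cert13 cert18)) (.bad 44)) (.bad 44)) (.bad 44)) (.bad 44))) (.bad 39)) (.bad 39)) (.bad 39)) (.bad 39))))) (.bad 2))) (.bad 2)))) (.bad 2))) (.bad 2)) (.bad 2)) (.bad 2)))))) (.node 29 (.node 64 (.node 71 (.bad 71) (.node 73 (.bad 73) (.node 39 (.node 12 (.bad 72) (.node 61 (.bad 63) (.node 63 (.bad 63) (.node 1 (.node 17 (.node 30 (.node 44 (.node 36 (.bad 34) (.node 34 (.bad 34) (.node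 50 (.bad 74) (.node 13 (.node 16 (.node 45 (.node 46 (.node 66 (.node 72 (.bad 72) (.bad 39)) (.bad 39)) (.bad 44)) (.bad 44)) (.bad 44)) (.bad 44))))) (.bad 39)) (.bad 39)) (.bad 39)) (.bad 39))))) (.node 12 (.node 61 (.node 63 (.bad 63) (.node 72 (.bad 72) (.node 36 (.node 44 (.bad 34) (.node 34 (.bad 34) (.node 50 (.node 74 (.bad 74) (.node 1 cert67 (.node 17 (.node 30 (.node 66 (.node 6 cert79 (.node 33 (.node 49 (.node 57 (.node 13 (.node 16 (.node 45 (.node 46 (.bad 44) cert80) (.node 46 cert81 (.bad 44))) (.node 45 (.node 46 cert82 (.bad 44)) (.bad 44))) (.node 16 (.node 45 (.node 46 cert83 (.bad 44)) (.bad 44)) (.bad 44))) (.bad 2)) (.bad 2)) (.bad 2))) (.bad 39)) (.bad 39)) (.bad 39)))) (.bad 74)))) (.node 34 (.bad 34) (.node 44 (.node 13 (.node 16 (.node 45 (.node 46 (.node 50 (.bad 74) (.bad 44)) (.bad 44)) (.bad 44)) (.bad 44)) (.bad 44)) (.bad 34)))))) (.bad 63)) (.bad 72))))) (.bad 73)) (.bad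 71)))

/-- The search. -/
def cert : SuzRec.STree := cert84

/-- The solutions as bits. -/
def solL : List ℕ := [0x7ebad540b1437e85c10, 0x7c9f95c0a5c2f2cd410, 0x7f3ac140535b2f81d30, 0x7d1f81c047daa3c9530, 0x7aba5e58b1435c05a89, 0x789f1ed8a5c2d04d289, 0x7b3a4a58535b0d01ba9, 0x791f0ad847da81493a9]

/-- The set carried to each solution. -/
def solW : List (Bool × List ℕ) := [(false, []), (true, [0, 2, 0, 4, 5, 4]), (true, []), (false, [2, 1, 2, 3, 2, 1, 2]), (true, [0, 1, 5, 3, 5, 5]), (false, [0, 4, 0, 5, 0, 3, 5, 4]), (false, [5, 3, 4, 5, 3, 5, 1, 2]), (true, [4, 3, 4, 3, 0, 5])]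

end Cfsg.Agent.Spor.RuRec
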