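import Cfsg.Agent.Lib.Spor.SuzRec.Basic
import Cfsg.Agent.Lib.Spor.RuRec.Data
import Cfsg.Agent.Lib.Spor.RuRec.DataMask
import Cfsg.Agent.Lib.Spor.RuRec.DataOrb
import Cfsg.Agent.Lib.Spor.RuRec.DataFp
import Cfsg.Agent.Lib.Spor.RuRec.DataSteps
import Cfsg.Agent.Lib.Spor.Cos.Ru.Order

/-! The finite checks, as Boolean functions. -/

set_option autoImplicit false
set_option maxRecDepth 100000
set_option maxHeartbeats 4000000

open Cfsg.Agent.Spor.Cos
open Cfsg.Agent.Spor.SuzRec (bit maskOf ndB ptsOf chkTree connB STree)

namespace Cfsg.Agent.Spor.RuRec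

/-- The points. -/
noncomputable def octA : Act := ⟨6, 1755, octT⟩

/-- The single generators. -/
def genW : List (List ℕ) := [[0], [1], [2], [3], [4], [5]]

/-- A word in the generators of the point stabiliser as a word on the vertices. -/
def exp6 (w : List ℕ) : List ℕ := w.flatMap fun s => Cos.Ru.g1W.getD s []

/-- The fields of a packed number. -/
noncomputable def fieldsOf (E n : ℕ) : List ℕ := (List.range n).map fun i => (E >>> (16 * i)) % 65536

/-- The collinear points. -/
noncomputable def clL (p : ℕ) : List ℕ := force (clT.at p) fun E => fieldsOf E 10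

/-- All points as bits. -/
noncomputable def fullMask : ℕ := 2 ^ 1755 - 1

/-- The points at distance one, two or three from the base. -/
noncomputable def nearL : List ℕ := ptsOf oct10 ++ ptsOf oct80 ++ ptsOf oct640

/-- A tree with a number of points. -/
noncomputable def chkOrb (A : Act) (W : List (List ℕ)) (o : ℕ × List (ℕ × ℕ × ℕ)) (k : ℕ) : Bool :=
  chkTree A W o && ((ptsOf o).length == k) && ndB (ptsOf o)

/-- The points form an orbit. -/
noncomputable def chkOct : Bool :=
  chkTree octA genW (0, octTree) && Nat.beq (maskOf (ptsOf (0, octTree))) fullMask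

/-- The orbits of the stabiliser of a point. -/
noncomputable def chkSub : Bool :=
  octA.chkFix stW 0 &&
    chkOrb octA stW oct10 10 && chkOrb octA stW oct80 80 && chkOrb octA stW oct640 640 &&
    chkOrb octA stW oct1024 1024 &&
    Nat.beq (maskOf (0 :: (nearL ++ ptsOf oct1024))) fullMask && ndB (0 :: (nearL ++ ptsOf oct1024))

/-- The points near the collinear points are as listed. -/
noncomputable def chkNbs : Bool :=
  Nat.beq clW.length 10 && Act.lettersOk 6 clW &&
    (List.range 10).all fun k => nearL.map (fun x => octA.go (clW.getD k []) x) == nbs.getD k []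

/-- Common neighbours outside: the parameter less those inside. -/
noncomputable def cvalB (m q : ℕ) (l : List ℕ) : ℕ :=
  (bif bit m q then 729 else 779) - (l.filter fun x => bit m x).length

/-- The counts at the base. -/
noncomputable def chkCount : Bool :=
  (force (maskOf nearL) fun m => (List.range 10).all fun k =>
      force (octA.go (clW.getD k []) 0) fun q =>
        bit m q && Nat.beq (cvalB m q (nbs.getD k [])) 512) &&
    Nat.beq (maskOf (clW.map fun w => octA.go w 0)) (maskOf (ptsOf oct10)) &&
    ndB (clW.map fun w => octA.go w 0) &&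
    Nat.beq (((List.range 10).map fun j => force (maskOf (nbs.getD j [])) fun m =>
      ((List.range 10).map fun k => bif Nat.beq j k then 1024
        else cvalB m (octA.go (clW.getD k []) 0) (nbs.getD k [])).sum).sum) 46080

/-- The first points of the other orbits have other counts. -/
noncomputable def chkFar : Bool :=
  Act.lettersOk 6 farW && Nat.beq farW.length 3 && force (maskOf nearL) fun m => (List.range 3).all fun i =>
    Nat.beq (octA.go (farW.getD i []) 0) ([oct80, oct640, oct1024].getD i (0, [])).1 &&
      !Nat.beq ((nearL.map fun x => octA.go (farW.getD i []) x).filter fun x => bit m x).length 217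

/-- The two elements of order five, as a list. -/
def pW : List (List ℕ) := [aW, bW]

/-- The orbits of the five-group. -/
noncomputable def chkOrbs : Bool :=
  Act.lettersOk 6 pW && Nat.beq orbs.length 75 && (orbs.all fun o => chkTree octA pW o) &&
    Nat.beq (maskOf (orbs.flatMap ptsOf)) fullMask &&
    Nat.beq eqs.length 75 && Nat.beq repW.length 75 && Act.lettersOk 6 repW && (List.range 75).all fun i =>
      Nat.beq (octA.go (repW.getD i []) 0) (orbs.getD i (0, [])).1 && Nat.beq (eqs.getD i []).length 10 &&
        (List.range 10).all fun k => force ((eqs.getD i []).getD k 0) fun j =>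
          Nat.blt j 75 && bit (maskOf (ptsOf (orbs.getD j (0, []))))
            (octA.go (repW.getD i []) (octA.go (clW.getD k []) 0))

/-- An equation cannot hold. -/
noncomputable def badB (e : List ℕ) (i ones zeros : ℕ) : Bool :=
  force (e.filter fun j => bit ones j).length fun lo => force (e.filter fun j => bit zeros j).length fun z =>
    (bit zeros i || Nat.blt 5 lo || Nat.blt 5 z) && (bit ones i || Nat.blt 4 lo || Nat.blt 6 z)

/-- A search tree covers all solutions. -/
noncomputable def chkSearch (eqs : List (List ℕ)) (sols : List ℕ) (t : STree) : ℕ → ℕ → Bool :=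
  STree.rec (motive := fun _ => ℕ → ℕ → Bool)
    (fun i ones zeros => Nat.blt i eqs.length && badB (eqs.getD i []) i ones zeros)
    (fun ones zeros => (sols.any fun m => Nat.beq ones m) && Nat.beq (Nat.lor ones zeros) (2 ^ 75 - 1))
    (fun v _ _ l r ones zeros => Nat.blt v 75 &&
      force (Nat.lor (1 <<< v) zeros) (fun z => l ones z) && force (Nat.lor (1 <<< v) ones) (fun o => r o zeros))
    t

/-- Each solution is a translate of one of the two sets. -/
noncomputable def chkSols : Bool :=
  Nat.beq solL.length 8 && Nat.beq solW.length 8 && Act.lettersOk 6 (solW.map Prod.snd) && (List.range 8).all fun k =>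
    force (solL.getD k 0) fun s => force (maskOf ((List.range 75).flatMap fun i =>
        bif bit s i then ptsOf (orbs.getD i (0, [])) else [])) fun m =>
      Nat.beq m (maskOf ((bif (solW.getD k (false, [])).1 then setRL else setBL).map fun q =>
        octA.go (solW.getD k (false, [])).2 q))

/-- The sets: their sizes, and the words keeping the first. -/
noncomputable def chkSets : Bool :=
  (setRL.length == 780) && ndB setRL && (setRL.all fun q => Nat.blt q 1755) && (setBL.all fun q => Nat.blt q 1755) &&
    force (maskOf setRL) fun m => (Act.lettersOk 6 tW) &&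
      tW.all fun w => Nat.beq (maskOf (setRL.map fun q => octA.go w q)) m

/-- Bits at some points as a number. -/
noncomputable def bitsOf (m : ℕ) (l : List ℕ) : ℕ :=
  List.rec (motive := fun _ => ℕ) 0 (fun x _ r => force r fun r' => 2 * r' + bif bit m x then 1 else 0) l

/-- Strictly increasing, from a bound. -/
noncomputable def incFrom (l : List ℕ) : ℕ → Bool :=
  List.rec (motive := fun _ => ℕ → Bool) (fun _ => true)
    (fun v _ r b => force v fun v' => Nat.ble b v' && force (v' + 1) r) l

/-- The translates of a set in some order. -/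
noncomputable def chkFp (base : List ℕ) (A : List (ℕ × ℕ)) (Ms : List ℕ) (B : List (List ℕ)) (P : List ℕ)
    (Z : List (List ℕ)) (L : List (ℕ × ℕ)) (n : ℕ) : Bool :=
  Nat.beq Ms.length (A.length + 1) && Nat.beq (Ms.getD 0 0) (maskOf base) && (base.all fun q => Nat.blt q 1755) &&
    Act.lettersOk 6 B && (P.all fun q => Nat.blt q 1755) && Nat.beq Z.length B.length &&
    ((List.range B.length).all fun j => P.map (fun q => octA.go (B.getD j []) q) == Z.getD j []) &&
    Nat.beq L.length n && (L.all fun e => Nat.blt e.1 Ms.length && Nat.blt e.2 B.length) &&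
    incFrom (L.map fun e => bitsOf (Ms.getD e.1 0) (Z.getD e.2 [])) 0

/-- A mask is the translate of an earlier one. -/
noncomputable def chkFpA (A : List (ℕ × ℕ)) (Ms : List ℕ) (i : ℕ) : Bool :=
  force (A.getD i (0, 0)).1 fun par => force (A.getD i (0, 0)).2 fun s =>
    Nat.ble par i && Nat.blt s 6 && force (Ms.getD par 0) fun m =>
      Nat.beq (Ms.getD (i + 1) 0) (maskOf ((List.range 1755).filter fun q => bit m (octA.im q s)))

/-- A point, its vertex, and its kind. -/
noncomputable def chkEmb (p : ℕ) : Bool :=
  force (ptV.at p) fun v => Nat.blt v 4060 && Nat.beq (kindT.at v) (p + 2) &&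
    (List.range 6).all fun s => Nat.beq (ptV.at (octA.im p s)) (Cos.Ru.actA.go (Cos.Ru.g1W.getD s []) v) &&
      Nat.blt (octA.im p s) 1755

/-- A vertex and its kind. -/
noncomputable def chkKind (v : ℕ) : Bool :=
  force (kindT.at v) fun k => (Nat.beq k 0 && Nat.beq v 0) || Nat.beq k 1 ||
    (Nat.ble 2 k && Nat.blt k 1757 && Nat.beq (ptV.at (k - 2)) v)

/-- The outer vertices as one orbit. -/
noncomputable def chkOuter : Bool :=
  chkTree Cos.Ru.actA Cos.Ru.g1W outer && Nat.beq (ptsOf outer).length 2304 && ndB (ptsOf outer) &&
    ((ptsOf outer).all fun v => Nat.beq (kindT.at v) 1) &&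
    force (maskOf (ptsOf outer)) fun m => (List.range 4060).all fun v => !Nat.beq (kindT.at v) 1 || bit m v

/-- The orbits of the stabiliser of the outer base vertex. -/
def outerSubs : List (ℕ × List (ℕ × ℕ × ℕ)) := [outer78, outer300, outer300b, outer650, outer975]

/-- Their sizes. -/
def outerSizes : List ℕ := [78, 300, 300, 650, 975]

/-- The orbits on the outer vertices. -/
noncomputable def chkOuterSub : Bool :=
  Nat.beq outer.1 1 && Cos.Ru.actA.chkFix (tW.map exp6) 1 &&
    ((List.range 5).all fun i => chkOrb Cos.Ru.actA (tW.map exp6) (outerSubs.getD i (0, [])) (outerSizes.getD i 0)) &&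
    Nat.beq (maskOf (1 :: outerSubs.flatMap ptsOf)) (maskOf (ptsOf outer)) && ndB (1 :: outerSubs.flatMap ptsOf) &&
    outerSubs.all fun o => !bit (maskOf (ptsOf o)) 1 && !Nat.beq (ptsOf o).length 1

/-- The elements of order five commute. -/
noncomputable def chkFive : Bool :=
  Act.lettersOk 6 pW &&
    (pW.all fun w => Cos.Ru.pts.all fun r =>
      Nat.beq (Cos.Ru.actA.go (exp6 (w ++ w ++ w ++ w ++ w)) r) r) &&
    Cos.Ru.pts.all fun r => Nat.beq (Cos.Ru.actA.go (exp6 (aW ++ bW)) r) (Cos.Ru.actA.go (exp6 (bW ++ aW)) r)

/-- The points at most two steps away. -/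
noncomputable def ball2 (w : ℕ) : ℕ :=
  List.rec (motive := fun _ => ℕ) 0 (fun x _ r => force r fun r' => Nat.lor (maskT.at x) r') (clL w)

/-- The points three steps away. -/
noncomputable def ball3 (w : ℕ) : ℕ :=
  List.rec (motive := fun _ => ℕ) 0 (fun x _ r => force r fun r' => force (ball2 x) fun b => Nat.lor b r') (clL w)

/-- Two truth values are equal. -/
noncomputable def eqB (a b : Bool) : Bool := bif a then b else !b

/-- Two points are seen alike from fixed points. -/
noncomputable def samePat (W : List ℕ) (Q : List (ℕ × ℕ)) (mz mx : ℕ) : Bool :=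
  (W.all fun w => force (maskT.at w) fun mw => force (ball2 w) fun bw =>
    eqB (bit mz w) (bit mx w) && eqB (Nat.beq (Nat.land mz mw) 0) (Nat.beq (Nat.land mx mw) 0) &&
      eqB (Nat.beq (Nat.land mz bw) 0) (Nat.beq (Nat.land mx bw) 0)) &&
    Q.all fun e => force (Nat.land (ball3 e.1) (ball3 e.2)) fun m =>
      eqB (Nat.beq (Nat.land mz m) 0) (Nat.beq (Nat.land mx m) 0)

/-- The candidates for the image of a point. -/
noncomputable def cands (z a : ℕ) (W : List ℕ) (Q : List (ℕ × ℕ)) : List ℕ :=
  force (maskT.at z) fun mz => (clL a).filter fun x =>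
    (W.all fun w => !Nat.beq x w) && samePat W Q mz (maskT.at x)

/-- A base with bounds on the orbits. -/
noncomputable def chkSteps (L : List (ℕ × ℕ × ℕ × List ℕ × List (ℕ × ℕ))) : ℕ → Bool :=
  List.rec (motive := fun _ => ℕ → Bool) (fun m => Nat.beq m fullMask)
    (fun e _ r fixed => Nat.blt e.1 1755 && !bit fixed e.1 && bit fixed e.2.1 &&
      (e.2.2.2.1.all fun w => bit fixed w) && (e.2.2.2.2.all fun q => bit fixed q.1 && bit fixed q.2) &&
      bit (maskOf (clL e.2.1)) e.1 &&
      Nat.ble (cands e.1 e.2.1 e.2.2.2.1 e.2.2.2.2).length e.2.2.1 && force (Nat.lor (1 <<< e.1) fixed) r) L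

/-- The product of the bounds. -/
def stepsProd (L : List (ℕ × ℕ × ℕ × List ℕ × List (ℕ × ℕ))) : ℕ := (L.map fun e => e.2.2.1).prod

/-- The table of bits agrees with the lists. -/
noncomputable def chkMask (p : ℕ) : Bool := Nat.beq (maskT.at p) (maskOf (clL p))

/-- Collinearity along an edge of the tree. -/
noncomputable def chkClEdge (e : ℕ × ℕ × ℕ) : Bool :=
  Nat.beq (maskT.at e.1) (maskOf ((clL e.2.1).map fun q => octA.im q e.2.2))

/-- No three of the collinear points are mutually collinear, nor is the base among them. -/
noncomputable def chkClique : Bool :=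
  (ptsOf oct10).all fun q => force (maskT.at q) fun m => Nat.ble ((ptsOf oct10).filter fun x => bit m x).length 1

end Cfsg.Agent.Spor.RuRec
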