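import Cfsg.Agent.Lib.Spor.RuRec.CheckDefs

/-! Some translates, as bits. -/

set_option autoImplicit false
set_option maxRecDepth 100000
set_option maxHeartbeats 4000000
set_option Elab.async false

open Cfsg.Agent.Spor.Cos

namespace Cfsg.Agent.Spor.RuRec

theorem fpBA_ok0 : ((List.range 13).all fun i => chkFpA fpBA fpBM (0 + i)) = true := by decide +kernel

end Cfsg.Agent.Spor.RuRec
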