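import Cfsg.Agent.Lib.Spor.RuRec.CheckFp1
import Cfsg.Agent.Lib.Spor.RuRec.CheckFp2
import Cfsg.Agent.Lib.Spor.RuRec.CheckFp3
import Cfsg.Agent.Lib.Spor.RuRec.CheckFp4
import Cfsg.Agent.Lib.Spor.RuRec.CheckFp5
import Cfsg.Agent.Lib.Spor.RuRec.CheckFp6
import Cfsg.Agent.Lib.Spor.RuRec.CheckFp7
import Cfsg.Agent.Lib.Spor.RuRec.CheckFp8
import Cfsg.Agent.Lib.Spor.RuRec.CheckFp9
import Cfsg.Agent.Lib.Spor.RuRec.CheckFp10
import Cfsg.Agent.Lib.Spor.RuRec.CheckFp11
import Cfsg.Agent.Lib.Spor.RuRec.CheckFp12
import Cfsg.Agent.Lib.Spor.RuRec.CheckFp13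

/-! The translates are different. -/

set_option autoImplicit false
set_option maxRecDepth 100000
set_option maxHeartbeats 4000000
set_option Elab.async false

open Cfsg.Agent.Spor.Cos

namespace Cfsg.Agent.Spor.RuRec

theorem fpRA_len : fpRA.length = 99 := by decide +kernel

theorem fpRA_ok : ∀ i < fpRA.length, chkFpA fpRA fpRM i = true := by
  intro i hi
  rw [fpRA_len] at hi
  by_cases h0 : i < 13
  · have := List.all_eq_true.1 fpRA_ok0 (i - 0) (List.mem_range.2 (by omega))
    rwa [show 0 + (i - 0) = i by omega] at this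
  by_cases h13 : i < 26
  · have := List.all_eq_true.1 fpRA_ok13 (i - 13) (List.mem_range.2 (by omega))
    rwa [show 13 + (i - 13) = i by omega] at this
  by_cases h26 : i < 39
  · have := List.all_eq_true.1 fpRA_ok26 (i - 26) (List.mem_range.2 (by omega))
    rwa [show 26 + (i - 26) = i by omega] at this
  by_cases h39 : i < 52
  · have := List.all_eq_true.1 fpRA_ok39 (i - 39) (List.mem_range.2 (by omega))
    rwa [show 39 + (i - 39) = i by omega] at this
  by_cases h52 : i < 65
  · have := List.all_eq_true.1 fpRA_ok52 (i - 52) (List.mem_range.2 (by omega))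
    rwa [show 52 + (i - 52) = i by omega] at this
  by_cases h65 : i < 78
  · have := List.all_eq_true.1 fpRA_ok65 (i - 65) (List.mem_range.2 (by omega))
    rwa [show 65 + (i - 65) = i by omega] at this
  by_cases h78 : i < 91
  · have := List.all_eq_true.1 fpRA_ok78 (i - 78) (List.mem_range.2 (by omega))
    rwa [show 78 + (i - 78) = i by omega] at this
  by_cases h91 : i < 99
  · have := List.all_eq_true.1 fpRA_ok91 (i - 91) (List.mem_range.2 (by omega))
    rwa [show 91 + (i - 91) = i by omega] at this
  omega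

theorem fpBA_len : fpBA.length = 55 := by decide +kernel

theorem fpBA_ok : ∀ i < fpBA.length, chkFpA fpBA fpBM i = true := by
  intro i hi
  rw [fpBA_len] at hi
  by_cases h0 : i < 13
  · have := List.all_eq_true.1 fpBA_ok0 (i - 0) (List.mem_range.2 (by omega))
    rwa [show 0 + (i - 0) = i by omega] at this
  by_cases h13 : i < 26
  · have := List.all_eq_true.1 fpBA_ok13 (i - 13) (List.mem_range.2 (by omega))
    rwa [show 13 + (i - 13) = i by omega] at this
  by_cases h26 : i < 39
  · have := List.all_eq_true.1 fpBA_ok26 (i - 26) (List.mem_range.2 (by omega))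
    rwa [show 26 + (i - 26) = i by omega] at this
  by_cases h39 : i < 52
  · have := List.all_eq_true.1 fpBA_ok39 (i - 39) (List.mem_range.2 (by omega))
    rwa [show 39 + (i - 39) = i by omega] at this
  by_cases h52 : i < 55
  · have := List.all_eq_true.1 fpBA_ok52 (i - 52) (List.mem_range.2 (by omega))
    rwa [show 52 + (i - 52) = i by omega] at this
  omega

theorem fpR_ok : chkFp setRL fpRA fpRM fpRB fpRP fpRZ fpRL 2304 = true := by decide +kernel

theorem fpB_ok : chkFp setBL fpBA fpBM fpBB fpBP fpBZ fpBL 2305 = true := by decide +kernel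

end Cfsg.Agent.Spor.RuRec
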