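import Cfsg.Agent.Lib.Spor.RuRec.IsoDefs

/-! Half of the atoms. -/

set_option autoImplicit false
set_option maxRecDepth 100000
set_option maxHeartbeats 4000000
set_option Elab.async false

namespace Cfsg.Agent.Spor.RuRec

theorem atom_ok0 : chkAtom 0 = true := by decide +kernel

theorem atom_ok1 : chkAtom 1 = true := by decide +kernel

theorem atom_ok2 : chkAtom 2 = true := by decide +kernel

theorem atom_ok3 : chkAtom 3 = true := by decide +kernel

theorem atom_ok4 : chkAtom 4 = true := by decide +kernel

theorem atom_ok5 : chkAtom 5 = true := by decide +kernel

theorem atom_ok6 : chkAtom 6 = true := by decide +kernel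

theorem atom_ok7 : chkAtom 7 = true := by decide +kernel

theorem atom_ok8 : chkAtom 8 = true := by decide +kernel

theorem atom_ok9 : chkAtom 9 = true := by decide +kernel

theorem atom_ok10 : chkAtom 10 = true := by decide +kernel

theorem atom_ok11 : chkAtom 11 = true := by decide +kernel

end Cfsg.Agent.Spor.RuRec
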