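import Cfsg.Agent.Lib.Spor.RuRec.IsoDefs

/-! More atoms. -/

set_option autoImplicit false
set_option maxRecDepth 100000
set_option maxHeartbeats 4000000
set_option Elab.async false

namespace Cfsg.Agent.Spor.RuRec

theorem atom_ok12 : chkAtom 12 = true := by decide +kernel

theorem atom_ok13 : chkAtom 13 = true := by decide +kernel

theorem atom_ok14 : chkAtom 14 = true := by decide +kernel

theorem atom_ok15 : chkAtom 15 = true := by decide +kernel

theorem atom_ok16 : chkAtom 16 = true := by decide +kernel

theorem atom_ok17 : chkAtom 17 = true := by decide +kernel

theorem atom_ok18 : chkAtom 18 = true := by decide +kernel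

theorem atom_ok19 : chkAtom 19 = true := by decide +kernel

theorem atom_ok20 : chkAtom 20 = true := by decide +kernel

theorem atom_ok21 : chkAtom 21 = true := by decide +kernel

theorem atom_ok22 : chkAtom 22 = true := by decide +kernel

theorem atom_ok23 : chkAtom 23 = true := by decide +kernel

end Cfsg.Agent.Spor.RuRec
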