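import Cfsg.Agent.Lib.Spor.RuRec.IsoDefs

/-! The Weyl elements, and the vectors. -/

set_option autoImplicit false
set_option maxRecDepth 100000
set_option maxHeartbeats 4000000
set_option Elab.async false

namespace Cfsg.Agent.Spor.RuRec

theorem atom_ok24 : chkAtom 24 = true := by decide +kernel

theorem atom_ok25 : chkAtom 25 = true := by decide +kernel

theorem vec_ok : chkVec = true := by decide +kernel

theorem span_ok : chkSpan = true := by decide +kernel

end Cfsg.Agent.Spor.RuRec
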