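import Cfsg.Agent.Lib.Spor.RuRec.CheckDefs

/-! The finite checks of the search. -/

set_option autoImplicit false
set_option maxRecDepth 100000
set_option maxHeartbeats 4000000
set_option Elab.async false

open Cfsg.Agent.Spor.Cos

namespace Cfsg.Agent.Spor.RuRec

theorem orbs_ok : chkOrbs = true := by decide +kernel

theorem search_ok : chkSearch eqs solL cert 0 0 = true := by decide +kernel

theorem sols_ok : chkSols = true := by decide +kernel

theorem sets_ok : chkSets = true := by decide +kernel

end Cfsg.Agent.Spor.RuRec
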