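import Cfsg.Agent.Lib.Spor.RuRec.CheckDefs

/-! The finite checks on the vertices. -/

set_option autoImplicit false
set_option maxRecDepth 100000
set_option maxHeartbeats 4000000
set_option Elab.async false

open Cfsg.Agent.Spor.Cos

namespace Cfsg.Agent.Spor.RuRec

theorem emb_ok : ∀ v < 1755, chkEmb v = true :=
  fun v hv => List.all_eq_true.1 (show ((List.range 1755).all chkEmb) = true by decide +kernel) v (List.mem_range.2 hv)

theorem kind_ok : ∀ v < 4060, chkKind v = true :=
  fun v hv => List.all_eq_true.1 (show ((List.range 4060).all chkKind) = true by decide +kernel) v (List.mem_range.2 hv)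

theorem outer_ok : chkOuter = true := by decide +kernel

theorem outerSub_ok : chkOuterSub = true := by decide +kernel

theorem five_ok : chkFive = true := by decide +kernel

end Cfsg.Agent.Spor.RuRec
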