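import Cfsg.Agent.Lib.Spor.RuRec.Oct
import Cfsg.Agent.Lib.Spor.RuRec.CheckAut
import Cfsg.Agent.Lib.Spor.SuzRec.HexAut

/-! Collinearity in the octagon is kept by the point stabiliser of the Rudvalis group. -/

set_option autoImplicit false
set_option maxRecDepth 100000

open Cfsg.Agent.Spor.Cos Finset
open Cfsg.Agent.Spor.SuzRec (bit maskOf ptsOf chkTree bit_maskOf maskOf_eq bit_eq conn_edges tree_lt mem_listSet)

namespace Cfsg.Agent.Spor.RuRec

/-- The stabiliser of the base point. -/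
noncomputable def St : Subgroup H0 := (MulAction.stabilizer (Equiv.Perm (Fin octA.N)) o).comap θ

theorem mem_St {y : H0} : y ∈ St ↔ θ y o = o := Iff.rfl

theorem card_St : Nat.card St = 20480 := by
  letI : MulAction H0 (Fin octA.N) := MulAction.compHom (Fin octA.N) θ
  have hh := Nat.card_congr (MulAction.orbitProdStabilizerEquivGroup H0 o)
  have horb : MulAction.orbit H0 o = Set.univ := Set.eq_univ_of_forall fun p => transitive p
  rw [Nat.card_prod, horb, Nat.card_coe_set_eq, Set.ncard_univ, Nat.card_fin, card_H0,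
    show MulAction.stabilizer H0 o = St from rfl] at hh
  rw [octN] at hh
  omega

theorem sums_dvd : ∀ s : Finset (Fin 4), (∑ i ∈ s, octSizes i) ∣ 20480 → #s ≤ 1 := by decide +kernel

/-- The classes are the orbits of the whole stabiliser. -/
theorem St_orbit {i : Fin 4} {x : Fin octA.N} (hx : x ∈ cls i) :
    ({q : Fin octA.N | ∃ y ∈ St, θ y x = q} : Set (Fin octA.N)).ncard = octSizes i ∧ ∀ y ∈ St, θ y x ∈ cls i := by
  classical
  set O : Finset (Fin octA.N) := univ.filter fun q => ∃ y ∈ St, θ y x = q with hO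
  have hOmem : ∀ q, q ∈ O ↔ ∃ y ∈ St, θ y x = q := fun q => by simp [hO]
  have hxo : x ≠ o := fun e => o_notMem i (e ▸ hx)
  have hoO : o ∉ O := fun h => by
    obtain ⟨y, hy, e⟩ := (hOmem _).1 h
    exact hxo ((θ y).injective (e.trans (mem_St.1 hy).symm))
  have hinv : ∀ w ∈ stW, ∀ p, p ∈ O ↔ θ (ev gH w) p ∈ O := by
    intro w hw p
    have hwS : ev gH w ∈ St := (stW_fix hw).2
    rw [hOmem, hOmem]
    constructor
    · rintro ⟨y, hy, rfl⟩
      exact ⟨ev gH w * y, mul_mem hwS hy, by rw [map_mul]; rfl⟩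
    · rintro ⟨y, hy, e⟩
      refine ⟨(ev gH w)⁻¹ * y, mul_mem (inv_mem hwS) hy, ?_⟩
      rw [map_mul, Equiv.Perm.mul_apply, e, theta_self_inv]
  have hOs := invariant_set O hinv hoO
  set s := univ.filter fun j => cls j ⊆ O
  have hcard : #O = ∑ j ∈ s, octSizes j := by rw [hOs, card_union]
  letI : MulAction H0 (Fin octA.N) := MulAction.compHom (Fin octA.N) θ
  have hB := Nat.card_congr (MulAction.orbitProdStabilizerEquivGroup St x)
  rw [Nat.card_prod, card_St, Nat.card_coe_set_eq] at hB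
  have hor : (MulAction.orbit St x).ncard = #O := by
    rw [← Set.ncard_coe_finset]
    congr 1
    ext q
    rw [mem_coe, hOmem]
    exact ⟨fun ⟨⟨y, hy⟩, e⟩ => ⟨y, hy, e⟩, fun ⟨y, hy, e⟩ => ⟨⟨y, hy⟩, e⟩⟩
  have h1 := sums_dvd s (hcard ▸ hor ▸ ⟨_, hB.symm⟩)
  have hxO : x ∈ O := (hOmem x).2 ⟨1, one_mem _, by rw [map_one]; rfl⟩
  have hx2 : x ∈ s.biUnion cls := hOs ▸ hxO
  obtain ⟨j, hj, hxj⟩ := mem_biUnion.1 hx2
  obtain rfl : j = i := by
    by_contra hji
    exact disjoint_left.1 (cls_disjoint hji) hxj hx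
  have hs : s = {j} := eq_singleton_iff_unique_mem.2 ⟨hj, fun k hk => card_le_one.1 h1 k hk j hj⟩
  have e2 : ({q : Fin octA.N | ∃ y ∈ St, θ y x = q} : Set (Fin octA.N)) = O := by ext q; simp [hO]
  refine ⟨by rw [e2, Set.ncard_coe_finset, hcard, hs, sum_singleton], fun y hy => ?_⟩
  have h2 := (hOmem (θ y x)).2 ⟨y, hy, rfl⟩
  rwa [hOs, hs, singleton_biUnion] at h2

theorem St_cls {y : H0} (hy : y ∈ St) {i : Fin 4} {x : Fin octA.N} : θ y x ∈ cls i ↔ x ∈ cls i := by
  refine ⟨fun h => ?_, fun h => (St_orbit h).2 y hy⟩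
  have := (St_orbit h).2 y⁻¹ (inv_mem hy)
  rwa [theta_self_inv] at this

/-- Collinearity. -/
def Col (p q : Fin octA.N) : Prop := bit (maskT.at p) q = true

theorem mask_clL {p : ℕ} (hp : p < 1755) : maskT.at p = maskOf (clL p) := Nat.eq_of_beq_eq_true (mask_ok p hp)

/-- The bits of a point are the translate of the base's ten points. -/
theorem mask_translate (p : Fin octA.N) : ∃ y : H0, θ y o = p ∧
    ∀ q, bit (maskT.at p) q = true ↔ ∃ t : Fin octA.N, t ∈ cls 0 ∧ (θ y t : ℕ) = q := by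
  let Pr : ℕ → Prop := fun x => ∃ y : H0, (θ y o : ℕ) = x ∧
    ∀ q, bit (maskT.at x) q = true ↔ ∃ t : Fin octA.N, t ∈ cls 0 ∧ (θ y t : ℕ) = q
  suffices h : Pr p by
    obtain ⟨y, hy, hq⟩ := h
    exact ⟨y, Fin.ext hy, hq⟩
  have hoct := inv_ok
  simp only [chkOct, Bool.and_eq_true] at hoct
  have htree := hoct.1
  simp only [chkTree, Bool.and_eq_true] at htree
  have hroot : Pr 0 := by
    refine ⟨1, by rw [map_one]; rfl, fun q => ?_⟩
    rw [Nat.eq_of_beq_eq_true clRoot_ok, bit_maskOf, map_one]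
    constructor
    · exact fun hq => ⟨⟨q, tree_lt (chkOrb_spec subParts.t10).1 hq⟩, mem_listSet.2 hq, rfl⟩
    · rintro ⟨t, ht, rfl⟩; exact mem_listSet.1 ht
  have hp : (p : ℕ) ∈ ptsOf (0, octTree) := by
    rw [← bit_maskOf, Nat.eq_of_beq_eq_true hoct.2, fullMask_bit]
    exact p.2
  rcases List.mem_cons.1 hp with e | hp
  · rw [e]; exact hroot
  obtain ⟨e, he, hep⟩ := List.mem_map.1 hp
  rw [← hep]
  refine conn_edges (A := octA) (W := genW) Pr octTree (1 <<< 0) (fun d hd hgo hk ⟨y, hy, hq⟩ => ?_) htree.1.2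
    (fun x hx => ?_) e he
  · have hk' : d.2.2 < 6 := hk
    have hw : genW.getD d.2.2 [] = [d.2.2] := by
      have : ∀ k < 6, genW.getD k [] = [k] := by decide
      exact this _ hk'
    rw [hw] at hgo
    have hlt : ∀ s ∈ [d.2.2], s < 6 := by simpa using hk'
    refine ⟨ev gH [d.2.2] * y, ?_, fun q => ?_⟩
    · rw [map_mul, Equiv.Perm.mul_apply]
      exact (theta_spec hlt _).trans (by rw [hy]; exact hgo)
    · have hpar : d.2.1 < 1755 := hy ▸ (θ y o).2
      rw [Nat.eq_of_beq_eq_true (List.all_eq_true.1 clEdge_ok d hd), bit_maskOf, List.mem_map]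
      constructor
      · rintro ⟨z, hz, rfl⟩
        obtain ⟨t, ht, ht'⟩ := (hq z).1 (by rw [mask_clL hpar]; exact bit_maskOf.2 hz)
        refine ⟨t, ht, ?_⟩
        rw [map_mul, Equiv.Perm.mul_apply]
        exact (theta_spec hlt _).trans (by rw [ht', Act.go_cons, Act.go_nil])
      · rintro ⟨t, ht, rfl⟩
        refine ⟨_, bit_maskOf.1 (mask_clL hpar ▸ (hq (θ y t : ℕ)).2 ⟨t, ht, rfl⟩), ?_⟩
        rw [map_mul, Equiv.Perm.mul_apply]
        exact ((theta_spec hlt _).trans (by rw [Act.go_cons, Act.go_nil])).symm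
  · rw [bit_eq, Nat.one_shiftLeft, Nat.testBit_two_pow, decide_eq_true_eq] at hx
    exact hx ▸ hroot

theorem col_base (y : H0) (q : Fin octA.N) : Col (θ y o) q ↔ θ y⁻¹ q ∈ cls 0 := by
  obtain ⟨z, hz, hq⟩ := mask_translate (θ y o)
  have hSt : y⁻¹ * z ∈ St := by
    rw [mem_St, map_mul, Equiv.Perm.mul_apply, hz, theta_self_inv]
  rw [Col, hq]
  constructor
  · rintro ⟨t, ht, e⟩
    rw [← Fin.ext e, ← Equiv.Perm.mul_apply, ← map_mul]
    exact (St_cls hSt).2 ht
  · intro h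
    refine ⟨θ (y⁻¹ * z)⁻¹ (θ y⁻¹ q), (St_cls (inv_mem hSt)).2 h, congrArg Fin.val ?_⟩
    rw [← Equiv.Perm.mul_apply, ← Equiv.Perm.mul_apply, ← map_mul, ← map_mul,
      show z * (y⁻¹ * z)⁻¹ * y⁻¹ = 1 by group, map_one]
    rfl

theorem col_equiv (z : H0) (p q : Fin octA.N) : Col (θ z p) (θ z q) ↔ Col p q := by
  obtain ⟨y, rfl⟩ := transitive p
  rw [← Equiv.Perm.mul_apply, ← map_mul, col_base, col_base, ← Equiv.Perm.mul_apply, ← map_mul]
  rw [show (z * y)⁻¹ * z = y⁻¹ by group]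

theorem col_o (q : Fin octA.N) : Col o q ↔ q ∈ cls 0 := by
  have := col_base 1 q
  rwa [inv_one, map_one] at this

end Cfsg.Agent.Spor.RuRec
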