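import Cfsg.Agent.Lib.Spor.RuRec.Col

/-! A subgroup of order 20480 of the point stabiliser fixes a point of the octagon. -/

set_option autoImplicit false
set_option maxRecDepth 100000

open Cfsg.Agent.Spor.Cos Finset
open Cfsg.Agent.Spor.SuzRec (bit maskOf ptsOf bit_maskOf mem_listSet card_listSet)

namespace Cfsg.Agent.Spor.RuRec

/-- Among the collinear points of the base each is collinear to at most one. -/
theorem no_clique {q : Fin octA.N} (hq : q ∈ cls 0) (X : Finset (Fin octA.N)) (hX : X ⊆ cls 0)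
    (hcol : ∀ x ∈ X, Col q x) : #X ≤ 1 := by
  have h := clique_ok
  simp only [chkClique, force_eq, List.all_eq_true] at h
  have h1 : ((ptsOf oct10).filter fun x => bit (maskT.at q) x).length ≤ 1 :=
    Nat.le_of_ble_eq_true (h q (mem_listSet.1 hq))
  refine le_trans ?_ h1
  calc #X ≤ ((ptsOf oct10).filter fun x => bit (maskT.at q) x).toFinset.card :=
        card_le_card_of_injOn (fun p => (p : ℕ)) (fun p hp => by
          simp only [mem_coe, List.mem_toFinset, List.mem_filter]
          exact ⟨mem_listSet.1 (hX hp), hcol p hp⟩) fun p _ q _ e => Fin.ext e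
    _ ≤ _ := List.toFinset_card_le _

/-- A subgroup of order 20480 is conjugate to the stabiliser of a point. -/
theorem exists_conj (T : Subgroup H0) (hT : Nat.card T = 20480) :
    ∃ g : H0, ∀ y, y ∈ T ↔ g * y * g⁻¹ ∈ St := by
  classical
  have : Fact (Nat.Prime 2) := ⟨Nat.prime_two⟩
  obtain ⟨P0, hP0⟩ := Sylow.exists_subgroup_card_pow_prime 2 (G := St) (n := 12) (by rw [card_St]; norm_num)
  obtain ⟨Q, hQ⟩ := Sylow.exists_subgroup_card_pow_prime 2 (G := T) (n := 12) (by rw [hT]; norm_num)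
  have hfac : (Nat.card H0).factorization 2 = 12 := by
    rw [card_H0, show 35942400 = 2 ^ 12 * 8775 by norm_num,
      Nat.factorization_mul (by norm_num) (by norm_num), Finsupp.add_apply, Nat.Prime.factorization_pow Nat.prime_two,
      Nat.factorization_eq_zero_of_not_dvd (show ¬ 2 ∣ 8775 by norm_num)]
    simp
  set P : Subgroup H0 := P0.map St.subtype
  have hP : Nat.card P = 4096 := by
    rw [← Nat.card_congr (Subgroup.equivMapOfInjective P0 St.subtype St.subtype_injective).toEquiv, hP0]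
    norm_num
  have hQ' : Nat.card (Q.map T.subtype) = 4096 := by
    rw [← Nat.card_congr (Subgroup.equivMapOfInjective Q T.subtype T.subtype_injective).toEquiv, hQ]
    norm_num
  have hPB : P ≤ St := Subgroup.map_subtype_le P0
  let P1 : Sylow 2 H0 := Sylow.ofCard P (by rw [hP, hfac]; norm_num)
  let Q1 : Sylow 2 H0 := Sylow.ofCard (Q.map T.subtype) (by rw [hQ', hfac]; norm_num)
  obtain ⟨g, hg⟩ := MulAction.exists_smul_eq H0 Q1 P1
  refine ⟨g, ?_⟩
  set T' : Subgroup H0 := T.map (MulAut.conj g).toMonoidHom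
  have hmem : ∀ z, z ∈ T ↔ g * z * g⁻¹ ∈ T' := fun z =>
    ⟨fun hz => ⟨z, hz, rfl⟩, fun ⟨x, hx, e⟩ => by
      have e' : g * x * g⁻¹ = g * z * g⁻¹ := e
      rwa [mul_left_cancel (mul_right_cancel e')] at hx⟩
  suffices h : T' = St from h ▸ hmem
  have hcT : Nat.card T' = 20480 := by
    rw [← Nat.card_congr (Subgroup.equivMapOfInjective T _ (MulAut.conj g).injective).toEquiv, hT]
  have hPT : P ≤ T' := by
    intro u hu
    have h1 : u ∈ (g • Q1 : Sylow 2 H0) := hg.symm ▸ hu
    have h2 : u ∈ (Q.map T.subtype).map (MulAut.conj g).toMonoidHom := h1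
    obtain ⟨x, ⟨q, -, rfl⟩, rfl⟩ := h2
    exact ⟨q, q.2, rfl⟩
  letI : MulAction H0 (Fin octA.N) := MulAction.compHom (Fin octA.N) θ
  let O : Finset (Fin octA.N) := univ.filter fun q => ∃ y ∈ T', θ y o = q
  have hOmem : ∀ q, q ∈ O ↔ ∃ y ∈ T', θ y o = q := fun q => by simp [O]
  have hOinv : ∀ y ∈ T', ∀ q ∈ O, θ y q ∈ O := fun y hy q hq => by
    obtain ⟨z, hz, rfl⟩ := (hOmem q).1 hq
    exact (hOmem _).2 ⟨y * z, mul_mem hy hz, by rw [map_mul]; rfl⟩
  have h5 : #O ∣ 5 := by
    have hc := Nat.card_congr (MulAction.orbitProdStabilizerEquivGroup T' o)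
    have hPs : P.subgroupOf T' ≤ MulAction.stabilizer T' o := fun u hu => mem_St.1 (hPB hu)
    have h := Subgroup.card_dvd_of_le hPs
    rw [Nat.card_congr (Subgroup.subgroupOfEquivOfLe hPT).toEquiv, hP] at h
    obtain ⟨c, hc'⟩ := h
    rw [Nat.card_prod, hcT, hc', Nat.card_coe_set_eq, show MulAction.orbit T' o = (O : Set _) by
      ext q
      rw [mem_coe, hOmem]
      exact ⟨fun ⟨⟨y, hy⟩, e⟩ => ⟨y, hy, e⟩, fun ⟨y, hy, e⟩ => ⟨⟨y, hy⟩, e⟩⟩, Set.ncard_coe_finset] at hc
    exact ⟨c, by nlinarith⟩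
  have h5' : #O ≤ 5 := Nat.le_of_dvd (by norm_num) h5
  have hoO : o ∈ O := (hOmem _).2 ⟨1, one_mem _, by rw [map_one]; rfl⟩
  have hsmall : ∀ q ∈ O, q ≠ o → q ∈ cls 0 := by
    intro q hq hne
    rcases mem_cls_or q with e | ⟨i, hi⟩
    · exact absurd e hne
    by_contra hn
    have hi0 : i ≠ 0 := fun e => hn (e ▸ hi)
    have hB := Nat.card_congr (MulAction.orbitProdStabilizerEquivGroup St q)
    have hQ := Nat.card_congr (MulAction.orbitProdStabilizerEquivGroup P q)
    rw [Nat.card_prod, Nat.card_coe_set_eq] at hB hQ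
    rw [card_St] at hB
    rw [hP] at hQ
    have hBO : MulAction.orbit St q = {p : Fin octA.N | ∃ y ∈ St, θ y q = p} := by
      ext p
      exact ⟨fun ⟨⟨y, hy⟩, e⟩ => ⟨y, hy, e⟩, fun ⟨y, hy, e⟩ => ⟨⟨y, hy⟩, e⟩⟩
    rw [hBO, (St_orbit hi).1] at hB
    have hsub : MulAction.orbit P q ⊆ ((O.erase o : Finset (Fin octA.N)) : Set (Fin octA.N)) := by
      rintro _ ⟨⟨y, hy⟩, rfl⟩
      refine mem_erase.2 ⟨fun e => hne ?_, hOinv y (hPT hy) q hq⟩
      exact (θ y).injective (e.trans (mem_St.1 (hPB hy)).symm)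
    have hle := Set.ncard_le_ncard hsub
    rw [Set.ncard_coe_finset, card_erase_of_mem hoO] at hle
    set R := MulAction.stabilizer P q
    have h2 : Nat.card R ∣ Nat.card (MulAction.stabilizer St q) := by
      refine Subgroup.card_dvd_of_injective
        ({ toFun := fun g => ⟨⟨g.1.1, hPB g.1.2⟩, g.2⟩, map_one' := rfl, map_mul' := fun _ _ => rfl } :
          R →* MulAction.stabilizer St q) fun a b e => ?_
      exact Subtype.ext (Subtype.ext (congrArg (fun z => z.1.1) e))
    have hk : 80 ≤ octSizes i := by fin_cases i <;> simp_all [octSizes]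
    have hS : Nat.card (MulAction.stabilizer St q) ≤ 256 := by
      have := Nat.mul_le_mul_right (Nat.card (MulAction.stabilizer St q)) hk
      rw [hB] at this
      omega
    have hR : Nat.card R ≤ 256 := le_trans (Nat.le_of_dvd Nat.card_pos h2) hS
    have := Nat.mul_le_mul (show (MulAction.orbit P q).ncard ≤ 4 by omega) hR
    rw [hQ] at this
    omega
  by_cases h1 : #O = 1
  · refine Subgroup.eq_of_le_of_card_ge (fun y hy => mem_St.2 ?_) (by rw [card_St, hcT])
    exact card_le_one.1 h1.le _ (hOinv y hy _ hoO) _ hoO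
  exfalso
  have hO5 : #O = 5 := by
    rcases (Nat.dvd_prime (by norm_num)).1 h5 with e | e
    · exact absurd e h1
    · exact e
  have hcol : ∀ x ∈ O, ∀ x' ∈ O, x' ≠ x → Col x x' := by
    intro x hx x' hx' hne
    obtain ⟨t, ht, rfl⟩ := (hOmem x).1 hx
    rw [← theta_inv_self t x', col_equiv, col_o]
    exact hsmall _ (hOinv _ (inv_mem ht) _ hx') fun e => hne (by rw [← e, theta_inv_self])
  have h4 : #(O.erase o) = 4 := by rw [card_erase_of_mem hoO, hO5]
  obtain ⟨x, hx⟩ := card_pos.1 (by omega : 0 < #(O.erase o))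
  obtain ⟨hxo, hxO⟩ := mem_erase.1 hx
  have := no_clique (hsmall x hxO hxo) ((O.erase o).erase x)
    (fun y hy => by
      obtain ⟨hyo, hyO⟩ := mem_erase.1 (mem_erase.1 hy).2
      exact hsmall y hyO hyo)
    (fun y hy => hcol x hxO y (mem_erase.1 (mem_erase.1 hy).2).2 (mem_erase.1 hy).1)
  rw [card_erase_of_mem hx, h4] at this
  omega

end Cfsg.Agent.Spor.RuRec
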