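import Cfsg.Agent.Lib.Spor.RuRec.Search

/-! The five-group. -/

set_option autoImplicit false
set_option maxRecDepth 100000

open Cfsg.Agent.Spor.Cos

namespace Cfsg.Agent.Spor.RuRec

/-- The five-group. -/
noncomputable def Q5 : Subgroup H0 := Subgroup.closure {y | y ∈ fiveGens}

theorem five_facts : (∀ y ∈ fiveGens, y ^ 5 = 1) ∧ Commute (ev gH aW) (ev gH bW) := by
  have h := five_ok
  simp only [chkFive, Bool.and_eq_true, List.all_eq_true] at h
  obtain ⟨⟨hl, hp⟩, hc⟩ := h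
  have hlt : ∀ w ∈ pW, ∀ s ∈ w, s < 6 := fun w hw => Act.lt_of_lettersOk hl hw
  have hdet : ∀ {w : List ℕ}, (∀ s ∈ w, s < 6) → ∀ {v : List ℕ}, (∀ s ∈ v, s < 6) →
      (∀ r ∈ Cos.Ru.pts, Cos.Ru.actA.go (exp6 w) r = Cos.Ru.actA.go (exp6 v) r) → ev gH w = ev gH v := by
    intro w hw v hv h
    refine Subtype.ext ((inv_mul_eq_one.1 (Cos.Ru.det _ fun q hq => ?_)).symm)
    show piV ((ev gH v)⁻¹ * ev gH w) q = q
    rw [map_mul, map_inv, Equiv.Perm.mul_apply,
      show piV (ev gH w) q = piV (ev gH v) q from Fin.ext (by rw [piV_ev hw, piV_ev hv, h q hq])]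
    exact (piV (ev gH v)).symm_apply_apply q
  refine ⟨fun y hy => ?_, ?_⟩
  · obtain ⟨w, hw, rfl⟩ : ∃ w ∈ pW, ev gH w = y := by
      simp only [fiveGens, List.mem_cons, List.not_mem_nil, or_false] at hy
      rcases hy with rfl | rfl
      · exact ⟨aW, by simp [pW], rfl⟩
      · exact ⟨bW, by simp [pW], rfl⟩
    have hl5 : ∀ s ∈ w ++ w ++ w ++ w ++ w, s < 6 := fun s hs => by
      simp only [List.mem_append] at hs
      exact hlt w hw s (by tauto)
    have e := hdet hl5 (v := []) (by simp) fun r hr => (Nat.eq_of_beq_eq_true (hp w hw r hr)).trans (by rfl)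
    simp only [ev_append, ev] at e
    rw [← e]
    simp only [pow_succ, pow_zero, one_mul]
  · have ha := hlt aW (by simp [pW])
    have hb := hlt bW (by simp [pW])
    show ev gH aW * ev gH bW = ev gH bW * ev gH aW
    rw [← ev_append, ← ev_append]
    exact hdet (fun s hs => (List.mem_append.1 hs).elim (ha s) (hb s))
      (fun s hs => (List.mem_append.1 hs).elim (hb s) (ha s)) fun r hr => Nat.eq_of_beq_eq_true (hc r hr)

theorem isPGroup_Q5 : IsPGroup 5 Q5 := by
  obtain ⟨h5, hcom⟩ := five_facts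
  let K : Subgroup H0 :=
    { carrier := {y | y ^ 5 = 1 ∧ Commute y (ev gH aW) ∧ Commute y (ev gH bW) ∧ ∀ z, Commute z (ev gH aW) →
        Commute z (ev gH bW) → Commute y z}
      one_mem' := ⟨one_pow 5, Commute.one_left _, Commute.one_left _, fun z _ _ => Commute.one_left z⟩
      mul_mem' := fun {x y} hx hy => ⟨by rw [(hx.2.2.2 y hy.2.1 hy.2.2.1).mul_pow, hx.1, hy.1, one_mul],
        hx.2.1.mul_left hy.2.1, hx.2.2.1.mul_left hy.2.2.1, fun z h1 h2 => (hx.2.2.2 z h1 h2).mul_left (hy.2.2.2 z h1 h2)⟩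
      inv_mem' := fun {x} hx => ⟨by rw [inv_pow, hx.1, inv_one], hx.2.1.inv_left, hx.2.2.1.inv_left,
        fun z h1 h2 => (hx.2.2.2 z h1 h2).inv_left⟩ }
  have hle : Q5 ≤ K := (Subgroup.closure_le _).2 fun y hy => by
    refine ⟨h5 y hy, ?_⟩
    simp only [fiveGens, List.mem_cons, List.not_mem_nil, or_false, Set.mem_ofPred_eq] at hy
    rcases hy with rfl | rfl
    · exact ⟨Commute.refl _, hcom, fun z h1 _ => h1.symm⟩
    · exact ⟨hcom.symm, Commute.refl _, fun z _ h2 => h2.symm⟩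
  exact fun g => ⟨1, by rw [pow_one]; exact Subtype.ext (hle g.2).1⟩

end Cfsg.Agent.Spor.RuRec
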