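import Mathlib

/-!
A transitive group of degree 4060 with suborbits 1, 1755, 2304 gives a graph of valency 1755 with constant numbers of
common neighbours.
-/

set_option autoImplicit false

namespace Cfsg.Agent.Spor.RuRec

open Finset

section Orbital

variable {G Ω : Type*} [Group G] [Finite G] [MulAction G Ω] [Fintype Ω] [DecidableEq Ω] [MulAction.IsPretransitive G Ω]
  {a b c : Ω}

omit [Finite G] [DecidableEq Ω] [MulAction.IsPretransitive G Ω] in
theorem orbit_cases (hΩ : Fintype.card Ω = 4060) (hb : (MulAction.orbit (MulAction.stabilizer G a) b).ncard = 1755)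
    (hc : (MulAction.orbit (MulAction.stabilizer G a) c).ncard = 2304) :
    a ∉ MulAction.orbit (MulAction.stabilizer G a) b ∧ ∀ y : Ω, y = a ∨ y ∈ MulAction.orbit (MulAction.stabilizer G a) b ∨
      y ∈ MulAction.orbit (MulAction.stabilizer G a) c := by
  set H := MulAction.stabilizer G a
  have ha : MulAction.orbit H a = {a} := by
    ext y
    simp only [MulAction.mem_orbit_iff, Set.mem_singleton_iff]
    exact ⟨fun ⟨g, hg⟩ => hg ▸ g.2, fun e => ⟨1, by rw [e, one_smul]⟩⟩
  have hne : ∀ x : Ω, 1 < (MulAction.orbit H x).ncard → a ∉ MulAction.orbit H x := fun x hx h => by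
    rw [← MulAction.orbit_eq_iff.2 h, ha, Set.ncard_singleton] at hx
    omega
  have hab := hne b (by omega)
  have hac := hne c (by omega)
  have hbc : Disjoint (MulAction.orbit H b) (MulAction.orbit H c) := by
    rw [Set.disjoint_left]
    intro y h1 h2
    rw [← MulAction.orbit_eq_iff.2 h1, MulAction.orbit_eq_iff.2 h2, hc] at hb
    omega
  refine ⟨hab, fun y => ?_⟩
  have huniv : insert a (MulAction.orbit H b ∪ MulAction.orbit H c) = Set.univ := by
    refine Set.eq_of_subset_of_ncard_le (Set.subset_univ _) ?_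
    rw [Set.ncard_univ, Nat.card_eq_fintype_card, hΩ, Set.ncard_insert_of_notMem (by simp [hab, hac]),
      Set.ncard_union_eq hbc, hb, hc]
  have := huniv.ge (Set.mem_univ y)
  simpa [or_assoc] using this

variable (G a b) in
/-- Adjacency: the pair is a translate of `(a, b)`. -/
def Rel (x y : Ω) : Prop := ∃ g : G, g • a = x ∧ g • b = y

omit [Finite G] [Fintype Ω] [DecidableEq Ω] [MulAction.IsPretransitive G Ω] in
theorem rel_smul {x y : Ω} (h : Rel G a b x y) (g : G) : Rel G a b (g • x) (g • y) := by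
  obtain ⟨k, rfl, rfl⟩ := h
  exact ⟨g * k, mul_smul _ _ _, mul_smul _ _ _⟩

omit [Finite G] [Fintype Ω] [DecidableEq Ω] [MulAction.IsPretransitive G Ω] in
theorem rel_left {y : Ω} : Rel G a b a y ↔ y ∈ MulAction.orbit (MulAction.stabilizer G a) b := by
  constructor
  · rintro ⟨g, h1, h2⟩; exact ⟨⟨g, h1⟩, h2⟩
  · rintro ⟨g, hg⟩; exact ⟨g, g.2, hg⟩

/-- The facts about the orbital graph. -/
structure Orbital (Γ : SimpleGraph Ω) [DecidableRel Γ.Adj] (a b : Ω) (l m : ℕ) : Prop where
  inv : ∀ (g : G) (x y : Ω), Γ.Adj (g • x) (g • y) ↔ Γ.Adj x y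
  nbr : ∀ y, Γ.Adj a y ↔ y ∈ MulAction.orbit (MulAction.stabilizer G a) b
  deg : ∀ x, #(univ.filter fun z => Γ.Adj x z) = 1755
  adj : ∀ x y, Γ.Adj x y → #(univ.filter fun z => Γ.Adj x z ∧ Γ.Adj y z) = l
  nadj : ∀ x y, x ≠ y → ¬ Γ.Adj x y → #(univ.filter fun z => Γ.Adj x z ∧ Γ.Adj y z) = m
  count : 1755 + 1755 * l + 2304 * m = 3080025

omit [Finite G] in
/-- The parameters. -/
theorem exists_params (Γ : SimpleGraph Ω) [DecidableRel Γ.Adj] (hΩ : Fintype.card Ω = 4060)
    (hinv : ∀ (g : G) (x y : Ω), Γ.Adj (g • x) (g • y) ↔ Γ.Adj x y)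
    (hnbr : ∀ y, Γ.Adj a y ↔ y ∈ MulAction.orbit (MulAction.stabilizer G a) b)
    (hb : (MulAction.orbit (MulAction.stabilizer G a) b).ncard = 1755)
    (hc : (MulAction.orbit (MulAction.stabilizer G a) c).ncard = 2304) : ∃ l m,
      (∀ x y, Γ.Adj x y → #(univ.filter fun z => Γ.Adj x z ∧ Γ.Adj y z) = l) ∧
      (∀ x y, x ≠ y → ¬ Γ.Adj x y → #(univ.filter fun z => Γ.Adj x z ∧ Γ.Adj y z) = m) ∧
      (∀ x, #(univ.filter fun z => Γ.Adj x z) = 1755) ∧ 1755 + 1755 * l + 2304 * m = 3080025 := by
  classical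
  obtain ⟨hab, hcases⟩ := orbit_cases hΩ hb hc
  let N : Ω → Finset Ω := fun x => univ.filter fun z => Γ.Adj x z
  let C : Ω → Ω → ℕ := fun x y => #(univ.filter fun z => Γ.Adj x z ∧ Γ.Adj y z)
  have hCinv : ∀ (g : G) x y, C (g • x) (g • y) = C x y := fun g x y => by
    symm
    refine card_nbij' (g • ·) (g⁻¹ • ·) ?_ ?_ ?_ ?_
    · intro z hz
      simp only [coe_filter, mem_univ, true_and, Set.mem_ofPred_eq] at hz ⊢
      exact ⟨(hinv g x z).2 hz.1, (hinv g y z).2 hz.2⟩
    · intro z hz
      simp only [coe_filter, mem_univ, true_and, Set.mem_ofPred_eq] at hz ⊢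
      rw [← hinv g x, ← hinv g y, smul_inv_smul]; exact hz
    · intro z _; exact inv_smul_smul g z
    · intro z _; exact smul_inv_smul g z
  have hNa : #(N a) = 1755 := by
    rw [← hb, ← Set.ncard_coe_finset]
    congr 1
    ext z
    simp [N, hnbr]
  have hN : ∀ x, #(N x) = 1755 := fun x => by
    obtain ⟨g, rfl⟩ := MulAction.exists_smul_eq G a x
    rw [← hNa]
    symm
    refine card_nbij' (g • ·) (g⁻¹ • ·) ?_ ?_ ?_ ?_
    · intro z hz
      simp only [N, coe_filter, mem_univ, true_and, Set.mem_ofPred_eq] at hz ⊢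
      exact (hinv g a z).2 hz
    · intro z hz
      simp only [N, coe_filter, mem_univ, true_and, Set.mem_ofPred_eq] at hz ⊢
      rw [← hinv g a, smul_inv_smul]; exact hz
    · intro z _; exact inv_smul_smul g z
    · intro z _; exact smul_inv_smul g z
  set l := C a b with hl
  set m := C a c with hm
  have hCb : ∀ y, Γ.Adj a y → C a y = l := fun y hy => by
    obtain ⟨g, hg⟩ := (hnbr y).1 hy
    have hga : (g : G) • a = a := g.2
    have hgb : (g : G) • b = y := hg
    have := hCinv g a b
    rwa [hga, hgb] at this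
  have hCc : ∀ y, y ≠ a → ¬ Γ.Adj a y → C a y = m := fun y hy hn => by
    rcases hcases y with h | h | h
    · exact absurd h hy
    · exact absurd ((hnbr y).2 h) hn
    obtain ⟨g, hg⟩ := h
    have hga : (g : G) • a = a := g.2
    have hgc : (g : G) • c = y := hg
    have := hCinv g a c
    rwa [hga, hgc] at this
  have hsum : ∑ y, C a y = 1755 * 1755 := by
    simp only [C, card_filter, ite_and]
    rw [sum_comm]
    have : ∀ z, (∑ y, if Γ.Adj a z then if Γ.Adj y z then 1 else 0 else 0) = if Γ.Adj a z then 1755 else 0 := fun z => by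
      by_cases hz : Γ.Adj a z
      · simp only [hz, if_true]
        rw [← card_filter, ← hN z]
        simp [N, Γ.adj_comm z]
      · simp [hz]
    rw [sum_congr rfl fun z _ => this z, ← sum_filter, sum_const, smul_eq_mul]
    exact congrArg (· * 1755) hNa
  have hcount : 1755 + 1755 * l + 2304 * m = 3080025 := by
    have hCa : C a a = 1755 := by rw [← hNa]; simp [C, N]
    rw [← add_sum_erase _ _ (mem_univ a), hCa, ← sum_filter_add_sum_filter_not (univ.erase a) (fun y => Γ.Adj a y),
      sum_congr rfl fun y hy => hCb y (mem_filter.1 hy).2,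
      sum_congr rfl fun y hy => hCc y (ne_of_mem_erase (mem_filter.1 hy).1) (mem_filter.1 hy).2,
      sum_const, sum_const, smul_eq_mul, smul_eq_mul] at hsum
    have e1 : (univ.erase a).filter (fun y => Γ.Adj a y) = N a := by
      ext y
      simp only [N, mem_filter, mem_erase, mem_univ, and_true, true_and]
      exact ⟨And.right, fun h => ⟨h.ne', h⟩⟩
    have e2 := card_filter_add_card_filter_not (s := univ.erase a) (fun y => Γ.Adj a y)
    rw [card_erase_of_mem (mem_univ a), card_univ, hΩ, e1, hNa] at e2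
    rw [e1, hNa, show #((univ.erase a).filter fun y => ¬ Γ.Adj a y) = 2304 by omega] at hsum
    omega
  refine ⟨l, m, fun x y hxy => ?_, fun x y hne hn => ?_, hN, hcount⟩
  · obtain ⟨g, hg⟩ := MulAction.exists_smul_eq G x a
    have h1 : C (g • x) (g • y) = C x y := hCinv g x y
    rw [hg, hCb _ (by rw [← hg]; exact (hinv g x y).2 hxy)] at h1
    exact h1.symm
  · obtain ⟨g, hg⟩ := MulAction.exists_smul_eq G x a
    have h1 : C (g • x) (g • y) = C x y := hCinv g x y
    rw [hg, hCc _ (fun e => hne (smul_left_cancel g (hg.trans e.symm)))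
      (by rw [← hg]; exact fun e => hn ((hinv g x y).1 e))] at h1
    exact h1.symm

/-- The orbital graph. -/
theorem exists_orbital (hΩ : Fintype.card Ω = 4060) (hb : (MulAction.orbit (MulAction.stabilizer G a) b).ncard = 1755)
    (hc : (MulAction.orbit (MulAction.stabilizer G a) c).ncard = 2304) :
    ∃ (Γ : SimpleGraph Ω) (_ : DecidableRel Γ.Adj) (l m : ℕ), Orbital (G := G) Γ a b l m := by
  classical
  obtain ⟨hab, hcases⟩ := orbit_cases hΩ hb hc
  have hne : ∀ x, ¬ Rel G a b x x := by
    rintro x ⟨g, h1, h2⟩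
    exact hab ⟨1, (one_smul _ b).trans (smul_left_cancel g (h2.trans h1.symm))⟩
  -- the paired suborbit is the same
  have hsymm : ∀ x y, Rel G a b x y → Rel G a b y x := by
    have hba : Rel G a b b a := by
      obtain ⟨k, hk⟩ := MulAction.exists_smul_eq G b a
      set H := MulAction.stabilizer G a
      have horb : ∀ z : Ω, (MulAction.orbit H z).ncard * Nat.card ↥(MulAction.stabilizer H z) = Nat.card H := fun z => by
        rw [← Nat.card_coe_set_eq, ← Nat.card_prod]
        exact Nat.card_congr (MulAction.orbitProdStabilizerEquivGroup H z)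
      have heq : Nat.card ↥(MulAction.stabilizer H (k • a)) = Nat.card ↥(MulAction.stabilizer H b) := by
        refine Nat.card_congr
          { toFun := fun g => ⟨⟨k⁻¹ * g.1.1 * k, ?_⟩, ?_⟩
            invFun := fun g => ⟨⟨k * g.1.1 * k⁻¹, ?_⟩, ?_⟩
            left_inv := fun g => by ext; simp [mul_assoc]
            right_inv := fun g => by ext; simp [mul_assoc] }
        · have h2 : g.1.1 • (k • a) = k • a := g.2
          show (k⁻¹ * g.1.1 * k) • a = a
          rw [mul_smul, mul_smul, h2, inv_smul_smul]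
        · have h1 : g.1.1 • a = a := g.1.2
          show (k⁻¹ * g.1.1 * k) • b = b
          rw [mul_smul, mul_smul, hk, h1, ← hk, inv_smul_smul]
        · have h2 : g.1.1 • b = b := g.2
          show (k * g.1.1 * k⁻¹) • a = a
          rw [← hk, ← mul_smul, inv_mul_cancel_right, mul_smul, h2]
        · have h1 : g.1.1 • a = a := g.1.2
          show (k * g.1.1 * k⁻¹) • (k • a) = k • a
          rw [← mul_smul, inv_mul_cancel_right, mul_smul, h1]
      have hb1755 : (MulAction.orbit H (k • a)).ncard = 1755 := by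
        have h1 := horb (k • a)
        rw [heq, ← horb b, hb] at h1
        exact Nat.eq_of_mul_eq_mul_right Nat.card_pos h1
      have hmem : k • a ∈ MulAction.orbit H b := by
        rcases hcases (k • a) with h | h | h
        · exfalso
          have : k • a = k • b := h.trans hk.symm
          exact hne a ⟨1, one_smul _ _, by rw [one_smul]; exact (smul_left_cancel k this).symm⟩
        · exact h
        · rw [MulAction.orbit_eq_iff.2 h, hc] at hb1755; omega
      have := rel_smul (rel_left.2 hmem) k⁻¹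
      rwa [inv_smul_smul, show k⁻¹ • a = b by rw [← hk, inv_smul_smul]] at this
    rintro x y ⟨g, rfl, rfl⟩
    exact rel_smul hba g
  let Γ : SimpleGraph Ω :=
    { Adj := Rel G a b
      symm := ⟨hsymm⟩
      loopless := ⟨hne⟩ }
  have hinv : ∀ (g : G) (x y : Ω), Γ.Adj (g • x) (g • y) ↔ Γ.Adj x y := fun g x y =>
    ⟨fun h => by have := rel_smul h g⁻¹; rwa [inv_smul_smul, inv_smul_smul] at this, fun h => rel_smul h g⟩
  obtain ⟨l, m, hl, hm, hdeg, hcount⟩ := exists_params Γ hΩ hinv (fun y => rel_left (G := G) (a := a) (b := b) (y := y)) hb hc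
  exact ⟨Γ, inferInstance, l, m, hinv, fun y => rel_left, hdeg, hl, hm, hcount⟩

omit [Finite G] in
/-- The graph is not a disjoint union of complete graphs. -/
theorem Orbital.not_clique {Γ : SimpleGraph Ω} [DecidableRel Γ.Adj] {l m : ℕ} (h : Orbital (G := G) Γ a b l m)
    (hΩ : Fintype.card Ω = 4060) : l ≠ 1754 := by
  intro hl
  have hm : m = 0 := by
    have := h.count
    omega
  let C : Ω → Finset Ω := fun x => insert x (univ.filter fun z => Γ.Adj x z)
  have hC : ∀ x, #(C x) = 1756 := fun x => by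
    rw [card_insert_of_notMem (by simp), h.deg]
  have hdis : ∀ x y, y ∉ C x → Disjoint (C x) (C y) := by
    intro x y hy
    simp only [C, mem_insert, mem_filter, mem_univ, true_and, not_or] at hy
    rw [disjoint_left]
    intro z hz hz'
    simp only [C, mem_insert, mem_filter, mem_univ, true_and] at hz hz'
    rcases hz with rfl | hz <;> rcases hz' with e | hz'
    · exact hy.1 e.symm
    · exact hy.2 hz'.symm
    · exact hy.2 (e ▸ hz)
    · have h0 := h.nadj x y (Ne.symm hy.1) hy.2
      rw [hm, card_eq_zero] at h0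
      exact (eq_empty_iff_forall_notMem.1 h0) z (mem_filter.2 ⟨mem_univ _, hz, hz'⟩)
  obtain ⟨c', hc'⟩ : ∃ c', c' ∉ C a := by
    by_contra hn
    simp only [not_exists, not_not] at hn
    have := card_le_card (fun x _ => hn x : univ ⊆ C a)
    rw [card_univ, hΩ, hC] at this
    omega
  obtain ⟨d, hd⟩ : ∃ d, d ∉ C a ∪ C c' := by
    by_contra hn
    simp only [not_exists, not_not] at hn
    have := (card_le_card (fun x _ => hn x : univ ⊆ C a ∪ C c')).trans (card_union_le _ _)
    rw [card_univ, hΩ, hC, hC] at this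
    omega
  rw [mem_union, not_or] at hd
  have := card_le_univ (C a ∪ C c' ∪ C d)
  rw [card_union_of_disjoint (disjoint_union_left.2 ⟨hdis _ _ hd.1, hdis _ _ hd.2⟩),
    card_union_of_disjoint (hdis _ _ hc'), hC, hC, hC, hΩ] at this
  omega

end Orbital

end Cfsg.Agent.Spor.RuRec
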