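import Cfsg.Agent.Lib.Spor.RuRec.Oct
import Cfsg.Agent.Lib.Spor.RuRec.Srg

/-!
The octagon in a graph of valency 1755 on 4060 vertices: the parameters, and the neighbours in the octagon of a
vertex not adjacent to the base vertex form a set meeting every ten collinear points in five or four points.
-/

set_option autoImplicit false
set_option maxRecDepth 100000
set_option maxHeartbeats 1000000

open Cfsg.Agent.Spor.Cos Finset
open Cfsg.Agent.Spor.SuzRec (bit maskOf ptsOf bit_maskOf mem_listSet)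

namespace Cfsg.Agent.Spor.RuRec

variable {Ω : Type*} [Fintype Ω] [DecidableEq Ω] {Γ : SimpleGraph Ω} [DecidableRel Γ.Adj] {a : Ω}
  {r : H0 →* Equiv.Perm Ω} {l m : ℕ}

/-- A graph with the point stabiliser acting around a vertex. -/
structure Around (Γ : SimpleGraph Ω) [DecidableRel Γ.Adj] (a : Ω) (r : H0 →* Equiv.Perm Ω) (l m : ℕ) : Prop where
  inv : ∀ y x z, Γ.Adj (r y x) (r y z) ↔ Γ.Adj x z
  fix : ∀ y, r y a = a
  deg : ∀ x, #(univ.filter fun z => Γ.Adj x z) = 1755
  adj : ∀ x y, Γ.Adj x y → #(univ.filter fun z => Γ.Adj x z ∧ Γ.Adj y z) = l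
  nadj : ∀ x y, x ≠ y → ¬ Γ.Adj x y → #(univ.filter fun z => Γ.Adj x z ∧ Γ.Adj y z) = m
  count : 1755 + 1755 * l + 2304 * m = 3080025
  ne : l ≠ 1754

/-- The neighbours of the base vertex labelled by the points of the octagon. -/
structure Inner (Γ : SimpleGraph Ω) (a : Ω) (r : H0 →* Equiv.Perm Ω) (φ : Fin octA.N → Ω) : Prop where
  inj : Function.Injective φ
  range : ∀ x, Γ.Adj a x ↔ ∃ p, φ p = x
  equiv : ∀ y p, φ (θ y p) = r y (φ p)

theorem perm_smul_inv (y : H0) (x : Ω) : r y (r y⁻¹ x) = x := by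
  rw [map_inv]; exact (r y).apply_symm_apply x

theorem perm_inv_smul (y : H0) (x : Ω) : r y⁻¹ (r y x) = x := by
  rw [map_inv]; exact (r y).symm_apply_apply x

variable {φ : Fin octA.N → Ω}

theorem Inner.adj_base (hF : Inner Γ a r φ) (p : Fin octA.N) : Γ.Adj a (φ p) := (hF.range _).2 ⟨p, rfl⟩

/-- The vertices not adjacent to the base. -/
def outerV (Γ : SimpleGraph Ω) [DecidableRel Γ.Adj] (a : Ω) : Finset Ω :=
  univ.filter fun u => u ≠ a ∧ ¬ Γ.Adj a u

theorem mem_outerV {u : Ω} : u ∈ outerV Γ a ↔ u ≠ a ∧ ¬ Γ.Adj a u := by simp [outerV]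

theorem card_outerV (hA : Around Γ a r l m) (hΩ : Fintype.card Ω = 4060) : #(outerV Γ a) = 2304 := by
  have e : outerV Γ a = univ \ insert a (univ.filter fun z => Γ.Adj a z) := by
    ext u
    simp [outerV]
  rw [e, card_sdiff_of_subset (subset_univ _), card_insert_of_notMem (by simp), hA.deg, card_univ, hΩ]

theorem size_cases : ∀ s : Finset (Fin 4), ∀ l, l = ∑ i ∈ s, octSizes i → l ≠ 1754 →
    (3080025 - 1755 - 1755 * l) % 2304 = 0 → s = {0, 1, 2} := by
  intro s l hl
  subst hl
  revert s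
  decide +kernel

/-- The neighbours in the octagon of the base and the parameters. -/
theorem Inner.params (hA : Around Γ a r l m) (hF : Inner Γ a r φ) :
    l = 730 ∧ m = 780 ∧ ∀ q, Γ.Adj (φ o) (φ q) ↔ q ∈ near := by
  classical
  set T : Finset (Fin octA.N) := univ.filter fun q => Γ.Adj (φ o) (φ q)
  have hTc : #T = l := by
    rw [← card_image_of_injective _ hF.inj, ← hA.adj a (φ o) (hF.adj_base o)]
    congr 1
    ext z
    simp only [T, mem_image, mem_filter, mem_univ, true_and]
    constructor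
    · rintro ⟨q, hq, rfl⟩
      exact ⟨hF.adj_base q, hq⟩
    · rintro ⟨h1, h2⟩
      obtain ⟨q, rfl⟩ := (hF.range z).1 h1
      exact ⟨q, h2, rfl⟩
  have hinv : ∀ w ∈ stW, ∀ p, p ∈ T ↔ θ (ev gH w) p ∈ T := by
    intro w hw p
    simp only [T, mem_filter, mem_univ, true_and]
    conv_rhs => rw [← (stW_fix hw).2, hF.equiv, hF.equiv]
    exact (hA.inv _ _ _).symm
  have hT := invariant_set T hinv (by simp [T])
  set s := univ.filter fun i => cls i ⊆ T
  have hs : l = ∑ i ∈ s, octSizes i := by rw [← hTc, hT, card_union]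
  have hc := hA.count
  have h3 := size_cases s l hs hA.ne (by omega)
  have hl : l = 730 := by rw [hs, h3]; rfl
  refine ⟨hl, by omega, fun q => ?_⟩
  rw [near_eq, ← h3, ← hT]
  simp [T]

theorem Inner.adj_inner (hA : Around Γ a r l m) (hF : Inner Γ a r φ) (y : H0) (q : Fin octA.N) :
    Γ.Adj (φ (θ y o)) (φ q) ↔ q ∈ nb y := by
  rw [mem_nb, ← (hF.params hA).2.2]
  conv_lhs => rw [← theta_inv_self y q, hF.equiv, hF.equiv, hA.inv]

theorem Inner.split (hA : Around Γ a r l m) (hF : Inner Γ a r φ) (S : Finset Ω) (y : H0) (Pq : Fin octA.N → Prop)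
    [DecidablePred Pq] (hS : ∀ z, z ∈ S → z = a ∨ z ∈ outerV Γ a ∨ ∃ q, φ q = z)
    (haS : a ∈ S) (hq : ∀ q, φ q ∈ S ↔ q ∈ nb y ∧ Pq q) :
    #S = 1 + #(S ∩ outerV Γ a) + #((nb y).filter Pq) := by
  classical
  have e : S = insert a ((S ∩ outerV Γ a) ∪ ((nb y).filter Pq).image φ) := by
    ext z
    simp only [mem_insert, mem_union, mem_inter, mem_image, mem_filter]
    constructor
    · intro hz
      rcases hS z hz with h | h | ⟨q, rfl⟩
      · exact Or.inl h
      · exact Or.inr (Or.inl ⟨hz, h⟩)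
      · exact Or.inr (Or.inr ⟨q, (hq q).1 hz, rfl⟩)
    · rintro (rfl | ⟨h, -⟩ | ⟨q, h, rfl⟩)
      exacts [haS, h, (hq q).2 h]
  have hna : a ∉ (S ∩ outerV Γ a) ∪ ((nb y).filter Pq).image φ := by
    simp only [mem_union, mem_inter, mem_outerV, mem_image, not_or]
    exact ⟨fun h => h.2.1 rfl, fun ⟨q, _, h⟩ => Γ.loopless.irrefl a (by
      have := hF.adj_base q
      rwa [h] at this)⟩
  have hdis : Disjoint (S ∩ outerV Γ a) (((nb y).filter Pq).image φ) := by
    rw [disjoint_left]
    intro z hz hz'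
    obtain ⟨q, -, rfl⟩ := mem_image.1 hz'
    exact (mem_outerV.1 (mem_inter.1 hz).2).2 (hF.adj_base q)
  conv_lhs => rw [e]
  rw [card_insert_of_notMem hna, card_union_of_disjoint hdis, card_image_of_injective _ hF.inj]
  omega

attribute [local irreducible] nb near outerV in
/-- Common neighbours outside of two points. -/
theorem Inner.outer_count (hA : Around Γ a r l m) (hF : Inner Γ a r φ) (y z : H0) (hne : θ y o ≠ θ z o) :
    #((outerV Γ a).filter fun u => Γ.Adj u (φ (θ y o)) ∧ Γ.Adj u (φ (θ z o))) + #(nb y ∩ nb z) =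
      if θ z o ∈ nb y then 729 else 779 := by
  classical
  obtain ⟨hl, hm, -⟩ := hF.params hA
  set x := φ (θ y o) with hx
  set x' := φ (θ z o) with hx'
  have hxx : x ≠ x' := fun e => hne (hF.inj e)
  have hadj := hF.adj_inner hA y (θ z o)
  set S := univ.filter fun w => Γ.Adj x w ∧ Γ.Adj x' w
  have h := hF.split hA S y (fun q => q ∈ nb z)
    (fun w _ => by
      by_cases h1 : w = a
      · exact Or.inl h1
      by_cases h2 : Γ.Adj a w
      · exact Or.inr (Or.inr ((hF.range w).1 h2))
      · exact Or.inr (Or.inl (mem_outerV.2 ⟨h1, h2⟩)))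
    (mem_filter.2 ⟨mem_univ _, (hF.adj_base _).symm, (hF.adj_base _).symm⟩)
    (fun q => by simp only [S, mem_filter, mem_univ, true_and, hx, hx', hF.adj_inner hA])
  rw [filter_mem_eq_inter, show S ∩ outerV Γ a = (outerV Γ a).filter fun u => Γ.Adj u x ∧ Γ.Adj u x' by
    ext u
    simp only [S, mem_inter, mem_filter, mem_univ, true_and, Γ.adj_comm x, Γ.adj_comm x']
    tauto] at h
  by_cases hq : θ z o ∈ nb y
  · rw [if_pos hq]
    have : #S = 730 := hl ▸ hA.adj _ _ (hadj.2 hq)
    omega
  · rw [if_neg hq]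
    have : #S = 780 := hm ▸ hA.nadj _ _ hxx (fun e => hq (hadj.1 e))
    omega

attribute [local irreducible] near outerV in
/-- Neighbours outside of a point. -/
theorem Inner.outer_one (hA : Around Γ a r l m) (hF : Inner Γ a r φ) (p : Fin octA.N) :
    #((outerV Γ a).filter fun u => Γ.Adj u (φ p)) = 1024 := by
  classical
  obtain ⟨y, rfl⟩ := transitive p
  set S := univ.filter fun w => Γ.Adj (φ (θ y o)) w
  have h := hF.split hA S y (fun _ => True)
    (fun w _ => by
      by_cases h1 : w = a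
      · exact Or.inl h1
      by_cases h2 : Γ.Adj a w
      · exact Or.inr (Or.inr ((hF.range w).1 h2))
      · exact Or.inr (Or.inl (mem_outerV.2 ⟨h1, h2⟩)))
    (mem_filter.2 ⟨mem_univ _, (hF.adj_base _).symm⟩)
    (fun q => by simp only [S, mem_filter, mem_univ, true_and, and_true, hF.adj_inner hA])
  rw [filter_true_of_mem (fun _ _ => trivial), show #(nb y) = 730 by
      rw [nb, card_image_of_injective _ (θ y).injective, card_near], hA.deg,
    show S ∩ outerV Γ a = (outerV Γ a).filter fun u => Γ.Adj u (φ (θ y o)) by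
      ext u
      simp only [S, mem_inter, mem_filter, mem_univ, true_and, Γ.adj_comm (φ (θ y o))]
      tauto] at h
  omega

theorem count_parts : (∀ k : Fin 10, cp k ≠ o ∧ cp k ∈ nb 1 ∧ cvalB (maskOf nearL) (cp k) (nbs.getD k []) = 512) ∧
    (∑ j : Fin 10, ∑ k : Fin 10, bif Nat.beq j k then 1024
      else cvalB (maskOf (nbs.getD j [])) (cp k) (nbs.getD k [])) = 46080 := by
  have hc := count_ok
  simp only [chkCount, force_eq, Bool.and_eq_true, List.all_eq_true, List.mem_range] at hc
  refine ⟨fun k => ?_, ?_⟩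
  · obtain ⟨h1, h2⟩ := hc.1.1.1 k k.2
    rw [← cp_val] at h1 h2
    refine ⟨fun e => ?_, ?_, Nat.eq_of_beq_eq_true h2⟩
    · have hk : cp k ∈ cls 0 := mem_listSet.2 ((cp_range _).2 ⟨k, rfl⟩)
      exact o_notMem 0 (e ▸ hk)
    · rw [nb_one, near, mem_listSet]
      exact bit_maskOf.1 h1
  · have h2 := Nat.eq_of_beq_eq_true hc.2
    rw [← h2]
    rw [Fin.sum_univ_def, ← List.map_coe_finRange_eq_range (n := 10), List.map_map]
    refine congrArg List.sum (List.map_congr_left fun j _ => ?_)
    rw [Fin.sum_univ_def, Function.comp_apply, List.map_map]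
    exact congrArg List.sum (List.map_congr_left fun k _ => by rw [Function.comp_apply, cp_val])

theorem card_nb_inter (y : H0) {L : List ℕ} (hy : nb y = maskSet (maskOf L)) (k : Fin 10) :
    #(nb y ∩ nb (ev gH (clW.getD k []))) = ((nbs.getD k []).filter fun x => bit (maskOf L) x).length := by
  obtain ⟨e, hnd, hlt⟩ := nb_cp k
  rw [hy, e, card_inter_list hnd hlt]

/-- The ten points collinear to the base meet the neighbours of an outer vertex in five or four points. -/
theorem Inner.five_four (hA : Around Γ a r l m) (hF : Inner Γ a r φ) (hΩ : Fintype.card Ω = 4060) {u : Ω}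
    (hu : u ∈ outerV Γ a) :
    #(univ.filter fun k : Fin 10 => Γ.Adj u (φ (cp k))) = if Γ.Adj u (φ o) then 5 else 4 := by
  classical
  obtain ⟨hpart, hpair⟩ := count_parts
  set N := outerV Γ a
  let n : Fin 10 → Ω → ℤ := fun k u => if Γ.Adj u (φ (cp k)) then 1 else 0
  let n0 : Ω → ℤ := fun u => if Γ.Adj u (φ o) then 1 else 0
  have hCC : ∀ (P Q : Ω → Prop) [DecidablePred P] [DecidablePred Q],
      ∑ u ∈ N, ((if P u then 1 else 0 : ℤ) * if Q u then 1 else 0) =
        (#(N.filter fun u => P u ∧ Q u) : ℤ) := by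
    intro P Q _ _
    rw [card_filter, Nat.cast_sum]
    exact sum_congr rfl fun u _ => by by_cases hP : P u <;> by_cases hQ : Q u <;> simp [hP, hQ]
  have hself : ∀ p, ∑ u ∈ N, ((if Γ.Adj u (φ p) then 1 else 0 : ℤ) * if Γ.Adj u (φ p) then 1 else 0) = 1024 := fun p => by
    rw [hCC]
    simp only [and_self]
    exact_mod_cast hF.outer_one hA p
  have hone : ∀ k, ∑ u ∈ N, n k u = 1024 := fun k => by
    rw [← hself (cp k)]
    exact sum_congr rfl fun u _ => by simp only [n]; by_cases hk : Γ.Adj u (φ (cp k)) <;> simp [hk]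
  have hzero : ∑ u ∈ N, n0 u = 1024 := by
    rw [← hself o]
    exact sum_congr rfl fun u _ => by simp only [n0]; by_cases hk : Γ.Adj u (φ o) <;> simp [hk]
  have he : θ 1 o = o := by rw [map_one]; rfl
  have hbase : ∀ k, ∑ u ∈ N, n0 u * n k u = 512 := fun k => by
    rw [hCC]
    obtain ⟨hne, hnf, hv⟩ := hpart k
    have h1 := hF.outer_count hA 1 (ev gH (clW.getD k [])) (by rw [he]; exact hne.symm)
    rw [he, show θ (ev gH (clW.getD k [])) o = cp k from rfl, if_pos hnf,
      card_nb_inter 1 (nb_one.trans (listSet_mask _)) k] at h1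
    have hb : bit (maskOf nearL) (cp k) = true := by
      rw [bit_maskOf, ← mem_listSet (n := octA.N)]
      have := hnf
      rwa [nb_one] at this
    rw [cvalB, hb, Bool.cond_true] at hv
    rw [show outerV Γ a = N from rfl] at h1
    exact_mod_cast (by omega : #(N.filter fun u => Γ.Adj u (φ o) ∧ Γ.Adj u (φ (cp k))) = 512)
  have hjk : ∀ j k, ∑ u ∈ N, n j u * n k u = ((bif Nat.beq (j : ℕ) k then 1024
      else cvalB (maskOf (nbs.getD j [])) (cp k) (nbs.getD k [])) : ℕ) := by
    intro j k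
    by_cases hjk : j = k
    · subst hjk
      rw [show Nat.beq (j : ℕ) j = true from Nat.beq_refl _, Bool.cond_true]
      simp only [n, Nat.cast_ofNat]
      exact hself (cp j)
    · rw [show Nat.beq (j : ℕ) k = false from Bool.eq_false_iff.2 fun e => hjk (Fin.ext (Nat.eq_of_beq_eq_true e)),
        Bool.cond_false, hCC]
      have h1 := hF.outer_count hA (ev gH (clW.getD j [])) (ev gH (clW.getD k []))
        (fun e => hjk (cp_injective e))
      have hm := (nb_cp j).1.trans (listSet_mask _)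
      rw [show θ (ev gH (clW.getD j [])) o = cp j from rfl,
        show θ (ev gH (clW.getD k [])) o = cp k from rfl, card_nb_inter _ hm k,
        show outerV Γ a = N from rfl] at h1
      rw [cvalB]
      by_cases hb : cp k ∈ nb (ev gH (clW.getD j []))
      · rw [if_pos hb] at h1
        rw [hm, maskSet, mem_filter] at hb
        rw [hb.2, Bool.cond_true]
        rw [Nat.cast_inj]
        omega
      · rw [if_neg hb] at h1
        rw [hm, maskSet, mem_filter] at hb
        rw [Bool.eq_false_iff.2 fun e => hb ⟨mem_univ _, e⟩, Bool.cond_false]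
        rw [Nat.cast_inj]
        omega
  let f : Ω → ℤ := fun u => ∑ k, n k u - n0 u - 4
  have hN : #N = 2304 := card_outerV hA hΩ
  have h00 : ∑ u ∈ N, n0 u * n0 u = 1024 := hself o
  have hsq : ∑ u ∈ N, ∑ j, ∑ k, n j u * n k u = 46080 := by
    rw [sum_comm, sum_congr rfl fun j _ => sum_comm, sum_congr rfl fun j _ => sum_congr rfl fun k _ => hjk j k]
    exact_mod_cast hpair
  have hmix : ∑ u ∈ N, ∑ k, n0 u * n k u = 5120 := by
    rw [sum_comm, sum_congr rfl fun k _ => hbase k]
    simp
  have hlin : ∑ u ∈ N, ∑ k, n k u = 10240 := by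
    rw [sum_comm, sum_congr rfl fun k _ => hone k]
    simp
  have hf : ∑ u ∈ N, f u * f u = 0 := by
    have e : ∀ u, f u * f u = (∑ j, ∑ k, n j u * n k u) - 2 * (∑ k, n0 u * n k u) + (n0 u * n0 u) -
        8 * (∑ k, n k u) + 8 * n0 u + 16 := fun u => by
      rw [← sum_mul_sum, ← mul_sum]
      simp only [f]
      ring
    rw [sum_congr rfl fun u _ => e u, sum_add_distrib, sum_add_distrib, sum_sub_distrib, sum_add_distrib,
      sum_sub_distrib, ← mul_sum, ← mul_sum, ← mul_sum, sum_const, hN, hzero, h00, hsq, hmix, hlin]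
    norm_num
  have h0 := (sum_eq_zero_iff_of_nonneg fun u _ => mul_self_nonneg (f u)).1 hf u hu
  have h1 : ∑ k, n k u = n0 u + 4 := by
    have := mul_self_eq_zero.1 h0
    simp only [f] at this
    linarith
  have h2 : ∑ k, n k u = (#(univ.filter fun k : Fin 10 => Γ.Adj u (φ (cp k))) : ℤ) := by
    rw [card_filter, Nat.cast_sum]
    exact sum_congr rfl fun k _ => by simp [n]
  rw [h2] at h1
  simp only [n0] at h1
  split_ifs at h1 ⊢ with hb <;> omega

end Cfsg.Agent.Spor.RuRec
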