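import Cfsg.Agent.Lib.Spor.RuRec.Col

/-! The automorphisms of collinearity in the octagon are at most as many as the elements of `²F₄(2)`. -/

set_option autoImplicit false
set_option maxRecDepth 100000

open Cfsg.Agent.Spor.Cos Finset
open Cfsg.Agent.Spor.SuzRec (bit maskOf ptsOf bit_maskOf bit_eq mem_listSet listSet)

namespace Cfsg.Agent.Spor.RuRec

theorem bit_lt {p : Fin octA.N} {q : ℕ} (h : bit (maskT.at p) q = true) : q < octA.N := by
  obtain ⟨y, -, hq⟩ := mask_translate p
  obtain ⟨t, -, rfl⟩ := (hq q).1 h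
  exact (θ y t).2

theorem bit_or (a b q : ℕ) : bit (Nat.lor a b) q = true ↔ bit a q = true ∨ bit b q = true := by
  rw [bit_eq, bit_eq, bit_eq, show Nat.lor a b = a ||| b from rfl, Nat.testBit_or, Bool.or_eq_true]

theorem mem_clL {w : Fin octA.N} {x : ℕ} : x ∈ clL w ↔ bit (maskT.at w) x = true := by
  rw [mask_clL w.2, bit_maskOf]

theorem ball2_spec (w : Fin octA.N) (q : ℕ) :
    bit (ball2 w) q = true ↔ ∃ x : Fin octA.N, Col w x ∧ bit (maskT.at x) q = true := by
  have key : ∀ l : List ℕ, bit (List.rec (motive := fun _ => ℕ) 0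
      (fun x _ r => force r fun r' => Nat.lor (maskT.at x) r') l) q = true ↔
      ∃ x ∈ l, bit (maskT.at x) q = true := by
    intro l
    induction l with
    | nil => simp [bit_eq]
    | cons x l ih =>
      show bit (force _ fun r' => Nat.lor (maskT.at x) r') q = true ↔ _
      rw [force_eq, bit_or, ih]
      simp
  rw [ball2, key]
  constructor
  · rintro ⟨x, hx, h⟩
    exact ⟨⟨x, bit_lt (mem_clL.1 hx)⟩, mem_clL.1 hx, h⟩
  · rintro ⟨x, hx, h⟩
    exact ⟨x, mem_clL.2 hx, h⟩

theorem ball3_spec (w : Fin octA.N) (q : ℕ) :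
    bit (ball3 w) q = true ↔ ∃ x : Fin octA.N, Col w x ∧ bit (ball2 x) q = true := by
  have key : ∀ l : List ℕ, bit (List.rec (motive := fun _ => ℕ) 0
      (fun x _ r => force r fun r' => force (ball2 x) fun b => Nat.lor b r') l) q = true ↔
      ∃ x ∈ l, bit (ball2 x) q = true := by
    intro l
    induction l with
    | nil => simp [bit_eq]
    | cons x l ih =>
      show bit (force _ fun r' => force (ball2 x) fun b => Nat.lor b r') q = true ↔ _
      rw [force_eq, force_eq, bit_or, ih]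
      simp
  rw [ball3, key]
  constructor
  · rintro ⟨x, hx, h⟩
    exact ⟨⟨x, bit_lt (mem_clL.1 hx)⟩, mem_clL.1 hx, h⟩
  · rintro ⟨x, hx, h⟩
    exact ⟨x, mem_clL.2 hx, h⟩

theorem land_eq_zero (z : Fin octA.N) (m : ℕ) : Nat.land (maskT.at z) m = 0 ↔
    ∀ x : Fin octA.N, ¬ (Col z x ∧ bit m x = true) := by
  constructor
  · intro h x ⟨h1, h2⟩
    have : bit (Nat.land (maskT.at z) m) x = true := by
      rw [bit_eq, show Nat.land (maskT.at z) m = maskT.at z &&& m from rfl, Nat.testBit_and, ← bit_eq, ← bit_eq,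
        show bit (maskT.at z) x = true from h1, h2]
      rfl
    rw [h, bit_eq, Nat.zero_testBit] at this
    cases this
  · intro h
    refine Nat.eq_of_testBit_eq fun q => ?_
    rw [show Nat.land (maskT.at z) m = maskT.at z &&& m from rfl, Nat.testBit_and, Nat.zero_testBit, ← bit_eq,
      ← bit_eq, Bool.and_eq_false_iff]
    by_contra hc
    rw [not_or, Bool.not_eq_false, Bool.not_eq_false] at hc
    exact h ⟨q, bit_lt hc.1⟩ ⟨hc.1, hc.2⟩

/-- Paths are kept by automorphisms. -/
theorem exists_col_map {π : Equiv.Perm (Fin octA.N)} (hπ : ∀ p q, Col (π p) (π q) ↔ Col p q)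
    {P Q : Fin octA.N → Prop} (h : ∀ x, Q (π x) ↔ P x) (z : Fin octA.N) :
    (∃ x, Col (π z) x ∧ Q x) ↔ ∃ x, Col z x ∧ P x := by
  constructor
  · rintro ⟨x, h1, h2⟩
    obtain ⟨x', rfl⟩ := π.surjective x
    exact ⟨x', (hπ _ _).1 h1, (h x').1 h2⟩
  · rintro ⟨x, h1, h2⟩
    exact ⟨π x, (hπ _ _).2 h1, (h x).2 h2⟩

theorem ball2_map {π : Equiv.Perm (Fin octA.N)} (hπ : ∀ p q, Col (π p) (π q) ↔ Col p q) (w q : Fin octA.N) :
    bit (ball2 (π w : ℕ)) (π q : ℕ) = true ↔ bit (ball2 (w : ℕ)) (q : ℕ) = true := by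
  rw [ball2_spec, ball2_spec]
  exact exists_col_map hπ (fun x => hπ x q) w

theorem ball3_map {π : Equiv.Perm (Fin octA.N)} (hπ : ∀ p q, Col (π p) (π q) ↔ Col p q) (w q : Fin octA.N) :
    bit (ball3 (π w : ℕ)) (π q : ℕ) = true ↔ bit (ball3 (w : ℕ)) (q : ℕ) = true := by
  rw [ball3_spec, ball3_spec]
  exact exists_col_map hπ (fun x => ball2_map hπ x q) w

theorem land_map {π : Equiv.Perm (Fin octA.N)} (hπ : ∀ p q, Col (π p) (π q) ↔ Col p q) (z : Fin octA.N) {m m' : ℕ}
    (hm : ∀ x : Fin octA.N, bit m' (π x : ℕ) = true ↔ bit m (x : ℕ) = true) :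
    Nat.land (maskT.at (z : ℕ)) m = 0 ↔ Nat.land (maskT.at (π z : ℕ)) m' = 0 := by
  rw [land_eq_zero, land_eq_zero, ← not_exists, ← not_exists]
  exact not_congr (exists_col_map hπ hm z).symm

theorem eqB_iff {a b : Bool} : eqB a b = true ↔ a = b := by cases a <;> cases b <;> decide

theorem beq_zero_eq {x y : ℕ} (h : x = 0 ↔ y = 0) : Nat.beq x 0 = Nat.beq y 0 := by
  rw [Bool.eq_iff_iff]
  exact ⟨fun e => by rw [h.1 (Nat.eq_of_beq_eq_true e)]; rfl, fun e => by rw [h.2 (Nat.eq_of_beq_eq_true e)]; rfl⟩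

/-- The automorphisms fixing the points of some bits. -/
def fixM (m : ℕ) : Subgroup (Equiv.Perm (Fin octA.N)) where
  carrier := {π | (∀ p q, Col (π p) (π q) ↔ Col p q) ∧ ∀ p : Fin octA.N, bit m p = true → π p = p}
  one_mem' := ⟨fun _ _ => Iff.rfl, fun _ _ => rfl⟩
  mul_mem' := fun {a b} ha hb => ⟨fun p q => (ha.1 (b p) (b q)).trans (hb.1 p q), fun p hp => by
    show a (b p) = p
    rw [hb.2 p hp, ha.2 p hp]⟩
  inv_mem' := fun {a} ha => ⟨fun p q => by
    have h := ha.1 (a⁻¹ p) (a⁻¹ q)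
    rw [show a (a⁻¹ p) = p from a.apply_symm_apply p, show a (a⁻¹ q) = q from a.apply_symm_apply q] at h
    exact h.symm, fun p hp => by
    conv_lhs => rw [← ha.2 p hp]
    exact a.symm_apply_apply p⟩

theorem card_fix_le : ∀ (L : List (ℕ × ℕ × ℕ × List ℕ × List (ℕ × ℕ))) (m : ℕ), chkSteps L m = true →
    (∀ q, bit m q = true → q < octA.N) → Nat.card (fixM m) ≤ stepsProd L
  | [], m, h, _ => by
    have h' : Nat.beq m fullMask = true := h
    have : fixM m = ⊥ := (Subgroup.eq_bot_iff_forall _).2 fun π hπ => Equiv.ext fun p =>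
      hπ.2 p (by rw [Nat.eq_of_beq_eq_true h', fullMask_bit]; exact p.2)
    rw [this, Subgroup.card_bot]
    exact le_rfl
  | (z, a, k, W, Q) :: L, m, h, hm => by
    classical
    have h' : (Nat.blt z 1755 && !bit m z && bit m a && (W.all fun w => bit m w) &&
        (Q.all fun q => bit m q.1 && bit m q.2) &&
        bit (maskOf (clL a)) z && Nat.ble (cands z a W Q).length k &&
        force (Nat.lor (1 <<< z) m) (chkSteps L)) = true := h
    rw [force_eq] at h'
    simp only [Bool.and_eq_true, Bool.not_eq_true', List.all_eq_true] at h'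
    obtain ⟨⟨⟨⟨⟨⟨⟨hz, hzm⟩, ham⟩, hWm⟩, hQm⟩, hza⟩, hk⟩, hrest⟩ := h'
    have hz' : z < octA.N := Nat.le_of_ble_eq_true hz
    have ih := card_fix_le L _ hrest (fun q hq => by
      rw [bit_or, bit_eq, Nat.one_shiftLeft, Nat.testBit_two_pow, decide_eq_true_eq] at hq
      rcases hq with rfl | hq
      · exact hz'
      · exact hm q hq)
    let x : Fin octA.N := ⟨z, hz'⟩
    have hst := Nat.card_congr (MulAction.orbitProdStabilizerEquivGroup (fixM m) x)
    rw [Nat.card_prod] at hst
    have hs : Nat.card (MulAction.stabilizer (fixM m) x) ≤ Nat.card (fixM (Nat.lor (1 <<< z) m)) :=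
      Nat.card_le_card_of_injective (fun π => (⟨π.1.1, π.1.2.1, fun y hy => by
        rw [bit_or, bit_eq, Nat.one_shiftLeft, Nat.testBit_two_pow, decide_eq_true_eq] at hy
        rcases hy with e | e
        · rw [show y = x from Fin.ext e.symm]; exact π.2
        · exact π.1.2.2 y e⟩ : fixM (Nat.lor (1 <<< z) m))) fun π ρ e =>
        Subtype.ext (Subtype.ext (congrArg (fun z : fixM (Nat.lor _ m) => (z : Equiv.Perm (Fin octA.N))) e))
    show _ ≤ stepsProd ((z, a, k, W, Q) :: L)
    rw [show stepsProd ((z, a, k, W, Q) :: L) = k * stepsProd L from List.prod_cons, ← hst]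
    refine Nat.mul_le_mul ?_ (hs.trans ih)
    rw [Nat.card_coe_set_eq]
    have hsub : MulAction.orbit (fixM m) x ⊆
        ((listSet (cands z a W Q) : Finset (Fin octA.N)) : Set (Fin octA.N)) := by
      rintro _ ⟨⟨π, hπ⟩, rfl⟩
      rw [mem_coe, mem_listSet, cands, force_eq, List.mem_filter]
      show ((π x : Fin octA.N) : ℕ) ∈ clL a ∧ _
      have hxfix : ∀ w : Fin octA.N, bit m w = true → (π x : ℕ) ≠ w := fun w hw e => by
        have h1 : π x = π w := (Fin.ext e).trans (hπ.2 w hw).symm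
        have h2 := congrArg Fin.val (π.injective h1)
        rw [← h2] at hw
        exact Bool.false_ne_true (hzm.symm.trans hw)
      have ha : a < octA.N := hm a ham
      refine ⟨?_, ?_⟩
      · have e : π ⟨a, ha⟩ = ⟨a, ha⟩ := hπ.2 _ ham
        have hc : Col (π ⟨a, ha⟩) (π x) := by
          rw [hπ.1]
          show bit (maskT.at a) z = true
          rw [mask_clL ha]
          exact hza
        rw [e] at hc
        exact mem_clL.2 hc
      · rw [Bool.and_eq_true, List.all_eq_true, samePat, Bool.and_eq_true, List.all_eq_true, List.all_eq_true]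
        refine ⟨fun w hw => ?_, fun w hw => ?_, fun q hq => ?_⟩
        · rw [Bool.not_eq_true', Bool.eq_false_iff]
          intro e
          have e' : ((π x : Fin octA.N) : ℕ) = w := Nat.eq_of_beq_eq_true e
          exact hxfix ⟨w, e' ▸ (π x).2⟩ (hWm w hw) e'
        · let y : Fin octA.N := ⟨w, hm w (hWm w hw)⟩
          have hy : π y = y := hπ.2 y (hWm w hw)
          simp only [force_eq, Bool.and_eq_true, eqB_iff]
          refine ⟨⟨?_, beq_zero_eq (land_map hπ.1 x fun t => ?_)⟩, beq_zero_eq (land_map hπ.1 x fun t => ?_)⟩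
          · rw [Bool.eq_iff_iff]
            show Col x y ↔ Col (π x) y
            conv_rhs => rw [← hy, hπ.1]
          · show Col y (π t) ↔ Col y t
            conv_lhs => rw [← hy, hπ.1]
          · show bit (ball2 (y : ℕ)) (π t : ℕ) = true ↔ bit (ball2 (y : ℕ)) (t : ℕ) = true
            conv_lhs => rw [← hy, ball2_map hπ.1]
        · obtain ⟨q1, q2⟩ := hQm q hq
          let y1 : Fin octA.N := ⟨q.1, hm _ q1⟩
          let y2 : Fin octA.N := ⟨q.2, hm _ q2⟩
          have hy1 : π y1 = y1 := hπ.2 y1 q1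
          have hy2 : π y2 = y2 := hπ.2 y2 q2
          simp only [force_eq, eqB_iff]
          refine beq_zero_eq (land_map hπ.1 x fun t => ?_)
          have hb : ∀ n k j : ℕ, bit (Nat.land n k) j = true ↔ bit n j = true ∧ bit k j = true := fun n k j => by
            rw [bit_eq, bit_eq, bit_eq, show Nat.land n k = n &&& k from rfl, Nat.testBit_and, Bool.and_eq_true]
          rw [hb, hb]
          show bit (ball3 (y1 : ℕ)) (π t : ℕ) = true ∧ bit (ball3 (y2 : ℕ)) (π t : ℕ) = true ↔
            bit (ball3 (y1 : ℕ)) (t : ℕ) = true ∧ bit (ball3 (y2 : ℕ)) (t : ℕ) = true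
          conv_lhs => rw [← hy1, ← hy2, ball3_map hπ.1, ball3_map hπ.1]
    refine (Set.ncard_le_ncard hsub).trans ?_
    rw [Set.ncard_coe_finset]
    refine le_trans ?_ (Nat.le_of_ble_eq_true hk)
    calc #(listSet (cands z a W Q) : Finset (Fin octA.N)) ≤ (cands z a W Q).toFinset.card :=
          card_le_card_of_injOn (fun p => (p : ℕ)) (fun p hp => by
            simpa [mem_listSet] using hp) fun p _ q _ e => Fin.ext e
      _ ≤ (cands z a W Q).length := List.toFinset_card_le _

theorem card_col_le (F : Subgroup (Equiv.Perm (Fin octA.N))) (hF : ∀ π ∈ F, ∀ p q, Col (π p) (π q) ↔ Col p q) :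
    Nat.card F ≤ 35942400 := by
  classical
  rw [← steps_prod]
  have hst := Nat.card_congr (MulAction.orbitProdStabilizerEquivGroup F o)
  rw [Nat.card_prod] at hst
  rw [← hst]
  have hs : Nat.card (MulAction.stabilizer F o) ≤ stepsProd autSteps := by
    refine le_trans ?_ (card_fix_le autSteps 1 steps_ok fun q hq => ?_)
    · refine Nat.card_le_card_of_injective
        (fun π : MulAction.stabilizer F o => (⟨π.1.1, hF _ π.1.2, fun p hp => ?_⟩ : fixM 1)) fun π ρ e =>
          Subtype.ext (Subtype.ext (congrArg (fun z : fixM 1 => (z : Equiv.Perm (Fin octA.N))) e))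
      rw [bit_eq, show (1 : ℕ) = 2 ^ 0 from rfl, Nat.testBit_two_pow, decide_eq_true_eq] at hp
      rw [show p = o from Fin.ext (hp.symm.trans o_val.symm)]
      exact π.2
    · rw [bit_eq, show (1 : ℕ) = 2 ^ 0 from rfl, Nat.testBit_two_pow, decide_eq_true_eq] at hq
      subst hq
      decide
  refine Nat.mul_le_mul ?_ hs
  refine (Nat.card_le_card_of_injective (Subtype.val : MulAction.orbit F o → Fin octA.N)
    Subtype.val_injective).trans ?_
  rw [Nat.card_fin]
  exact le_rfl

end Cfsg.Agent.Spor.RuRec
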