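import Cfsg.Agent.Lib.Spor.RuRec.Std
import Cfsg.Agent.Lib.Spor.RuRec.OctAut

/-! The automorphisms of the standard graph fixing the base vertex. -/

set_option autoImplicit false
set_option maxRecDepth 100000
set_option maxHeartbeats 1000000

open Cfsg.Agent.Spor.Cos Finset
open Cfsg.Agent.Spor.SuzRec (bit maskOf ptsOf bit_maskOf mem_listSet listSet tree_lt)

namespace Cfsg.Agent.Spor.RuRec

variable {E : SimpleGraph V} [DecidableRel E.Adj]

theorem adj_emb (h : Std E piV id) (y : H0) (p q : Fin octA.N) :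
    E.Adj (emb (θ y p)) (emb (θ y q)) ↔ E.Adj (emb p) (emb q) := by
  rw [← piV_emb, ← piV_emb]; exact h.inv y _ _

theorem adj_nb (h : Std E piV id) (y : H0) (q : Fin octA.N) : E.Adj (emb (θ y o)) (emb q) ↔ q ∈ nb y := by
  conv_lhs => rw [← theta_inv_self y q, adj_emb h]
  exact (h.inner _).trans mem_nb.symm

/-- Common neighbours among the points. -/
noncomputable def inCommon (E : SimpleGraph V) [DecidableRel E.Adj] (p q : Fin octA.N) : ℕ :=
  #(univ.filter fun x : Fin octA.N => E.Adj (emb p) (emb x) ∧ E.Adj (emb q) (emb x))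

theorem inCommon_map (π : Equiv.Perm (Fin octA.N))
    (hπ : ∀ x z, E.Adj (emb (π x)) (emb (π z)) ↔ E.Adj (emb x) (emb z)) (p q : Fin octA.N) :
    inCommon E (π p) (π q) = inCommon E p q := by
  rw [inCommon, inCommon]
  conv_rhs => rw [← card_image_of_injective _ π.injective]
  congr 1
  ext x
  simp only [mem_filter, mem_univ, true_and, mem_image]
  constructor
  · intro hx
    obtain ⟨x', rfl⟩ := π.surjective x
    rw [hπ, hπ] at hx
    exact ⟨x', hx, rfl⟩
  · rintro ⟨x', hx, rfl⟩
    rw [hπ, hπ]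
    exact hx

theorem inCommon_base (h : Std E piV id) (y : H0) : inCommon E o (θ y o) = #(nb 1 ∩ nb y) := by
  refine congrArg Finset.card (Finset.ext fun x => ?_)
  simp only [mem_filter, mem_univ, true_and, mem_inter]
  rw [adj_nb h y x]
  have h1 : θ 1 o = o := by rw [map_one]; rfl
  conv_lhs => rw [← h1, adj_nb h 1 x]

/-- Collinearity is read off the graph. -/
theorem col_iff (h : Std E piV id) (p q : Fin octA.N) : Col p q ↔ p ≠ q ∧ inCommon E p q = 217 := by
  classical
  obtain ⟨y, rfl⟩ := transitive p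
  obtain ⟨q', rfl⟩ := (θ y).surjective q
  rw [col_equiv, col_o, (θ y).injective.ne_iff, inCommon_map (θ y) (adj_emb h y)]
  constructor
  · intro hq
    obtain ⟨k, rfl⟩ := (cp_range _).1 (mem_listSet.1 hq)
    obtain ⟨hne, hnf, hv⟩ := count_parts.1 k
    refine ⟨hne.symm, ?_⟩
    have hb : bit (maskOf nearL) (cp k) = true := by
      have := hnf
      rw [nb_one, near, mem_listSet] at this
      exact bit_maskOf.2 this
    rw [cvalB, hb, Bool.cond_true] at hv
    rw [show cp k = θ (ev gH (clW.getD k [])) o from rfl, inCommon_base h,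
      card_nb_inter 1 (nb_one.trans (listSet_mask _)) k]
    omega
  · rintro ⟨hne, hcnt⟩
    rcases mem_cls_or q' with e | ⟨i, hi⟩
    · exact absurd e.symm hne
    by_contra hn
    have hf := far_ok
    simp only [chkFar, force_eq, Bool.and_eq_true, List.all_eq_true, List.mem_range, Bool.not_eq_true'] at hf
    obtain ⟨⟨hl, hlen⟩, hall⟩ := hf
    have hi0 : (i : ℕ) ≠ 0 := fun e => hn ((Fin.ext e : i = 0) ▸ hi)
    have hi4 := i.2
    have hj : (i : ℕ) - 1 < 3 := by omega
    obtain ⟨hgo, hne217⟩ := hall _ hj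
    set w := farW.getD ((i : ℕ) - 1) []
    have hw : ∀ s ∈ w, s < 6 :=
      Act.lt_of_lettersOk hl (getD_mem (by rw [Nat.eq_of_beq_eq_true hlen]; exact hj))
    have hcl : [oct80, oct640, oct1024].getD ((i : ℕ) - 1) (0, []) = octCls.getD i (0, []) := by
      obtain ⟨j, hj'⟩ : ∃ j, (i : ℕ) = j + 1 := ⟨(i : ℕ) - 1, by omega⟩
      rw [hj', Nat.add_sub_cancel, octCls, List.getD_cons_succ]
    have hlt := tree_lt (cls_spec i).1 (List.mem_cons_self ..)
    have hrep : inCommon E o ⟨_, hlt⟩ = 217 := by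
      rw [← hcnt]
      exact (tree_prop (cls_spec i).1 (fun t => inCommon E o t = inCommon E o ⟨_, hlt⟩)
        (fun v hv t ht => by
          have hh := inCommon_map (θ (ev gH v)) (adj_emb h (ev gH v)) o t
          rw [(stW_fix hv).2] at hh
          exact hh.trans ht) hlt rfl q' (mem_listSet.1 hi)).symm
    rw [show (⟨(octCls.getD i (0, [])).1, hlt⟩ : Fin octA.N) = θ (ev gH w) o from
      Fin.ext (by
        show (octCls.getD i (0, [])).1 = _
        rw [← hcl, theta_spec hw, o_val]
        exact (Nat.eq_of_beq_eq_true hgo).symm), inCommon_base h] at hrep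
    obtain ⟨e, hnd, hlt'⟩ := nb_word hw (l := nearL.map fun x => octA.go w x) rfl
    rw [nb_one, near, listSet_mask, e, card_inter_list hnd hlt'] at hrep
    rw [hrep] at hne217
    simp at hne217

/-- The automorphisms. -/
def autE (E : SimpleGraph V) : Subgroup (Equiv.Perm V) where
  carrier := {π | ∀ x z, E.Adj (π x) (π z) ↔ E.Adj x z}
  one_mem' := fun _ _ => Iff.rfl
  mul_mem' := fun {a b} ha hb x z => (ha (b x) (b z)).trans (hb x z)
  inv_mem' := fun {a} ha x z => by
    have h := ha (a⁻¹ x) (a⁻¹ z)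
    rw [show a (a⁻¹ x) = x from a.apply_symm_apply x, show a (a⁻¹ z) = z from a.apply_symm_apply z] at h
    exact h.symm

theorem out_of_mixed (h : Std E piV id) {x z : V} (hx : isOut x) (hz : isOut z)
    (he : ∀ q, E.Adj x (emb q) ↔ E.Adj z (emb q)) : x = z := by
  obtain ⟨y, rfl⟩ := out_orbit hx
  obtain ⟨y', rfl⟩ := out_orbit hz
  have hR : ∀ y q, E.Adj (piV y u0) (emb q) ↔ InR (θ y⁻¹ q) := fun y q => by
    conv_lhs => rw [← theta_inv_self y q, ← piV_emb]
    exact (h.inv y _ _).trans (h.mixed _)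
  have hmem : y'⁻¹ * y ∈ stR := by
    intro p
    have := he (θ y p)
    rw [hR, hR, theta_self_inv] at this
    rw [map_mul, Equiv.Perm.mul_apply]
    exact this.symm
  have e := (stR_iff _).2 hmem
  rw [map_mul, map_inv, Equiv.Perm.mul_apply, Equiv.Perm.inv_eq_iff_eq] at e
  exact e

theorem card_autE (h : Std E piV id) : Nat.card (autE E) ≤ 4060 * 35942400 := by
  classical
  set A := autE E
  have hst := Nat.card_congr (MulAction.orbitProdStabilizerEquivGroup A v0)
  rw [Nat.card_prod] at hst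
  rw [← hst]
  refine Nat.mul_le_mul ?_ ?_
  · refine (Nat.card_le_card_of_injective (Subtype.val : MulAction.orbit A v0 → V) Subtype.val_injective).trans ?_
    rw [Nat.card_fin]
    exact le_rfl
  have hbase : ∀ π ∈ A, π v0 = v0 → ∀ v, (∃ p, emb p = π v) ↔ ∃ p, emb p = v := by
    intro π hπ h0 v
    have h1 := h.base v
    have h2 := h.base (π v)
    simp only [id] at h1 h2
    rw [← h1, ← h2]
    conv_lhs => rw [← h0]
    exact hπ v0 v
  have hout : ∀ π ∈ A, π v0 = v0 → ∀ v, isOut v → isOut (π v) := by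
    intro π hπ h0 v hv
    rcases kind_cases (π v) with e | e | e
    · exact absurd hv (by rw [π.injective (e.trans h0.symm)]; exact v0_not_out)
    · exact e
    · obtain ⟨p, rfl⟩ := (hbase π hπ h0 v).1 e
      exact absurd hv emb_not_out
  let S := MulAction.stabilizer A v0
  have hmem : ∀ g : S, (g.1 : Equiv.Perm V) ∈ A ∧ (g.1 : Equiv.Perm V) v0 = v0 := fun g => ⟨g.1.2, g.2⟩
  choose f hf using fun (g : S) (p : Fin octA.N) => (hbase _ (hmem g).1 (hmem g).2 (emb p)).2 ⟨p, rfl⟩
  have hfinj : ∀ g, Function.Injective (f g) := fun g p q e =>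
    emb_injective ((g.1 : Equiv.Perm V).injective ((hf g p).symm.trans ((congrArg emb e).trans (hf g q))))
  let σ : S →* Equiv.Perm (Fin octA.N) :=
    MonoidHom.mk' (fun g => Equiv.ofBijective (f g) (Finite.injective_iff_bijective.1 (hfinj g))) fun g k =>
      Equiv.ext fun p => emb_injective (by
        show emb (f (g * k) p) = emb (f g (f k p))
        rw [hf, hf, hf]
        rfl)
  have hσ : ∀ g p, emb (σ g p) = (g.1 : Equiv.Perm V) (emb p) := fun g p => hf g p
  have hσinj : Function.Injective σ := by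
    intro g k e
    have he : ∀ p, (g.1 : Equiv.Perm V) (emb p) = (k.1 : Equiv.Perm V) (emb p) := fun p => by
      rw [← hσ, ← hσ, e]
    refine Subtype.ext (Subtype.ext (Equiv.ext fun v => ?_))
    rcases kind_cases v with rfl | hv | ⟨p, rfl⟩
    · exact (hmem g).2.trans (hmem k).2.symm
    · refine out_of_mixed h (hout _ (hmem g).1 (hmem g).2 v hv) (hout _ (hmem k).1 (hmem k).2 v hv) fun q => ?_
      obtain ⟨q', rfl⟩ := (σ g).surjective q
      rw [hσ, (hmem g).1, he, (hmem k).1]
    · exact he p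
  refine le_trans (le_of_eq (Nat.card_congr (MonoidHom.ofInjective hσinj).toEquiv)) (card_col_le σ.range ?_)
  rintro π ⟨g, rfl⟩ p q
  have hadj : ∀ x z, E.Adj (emb (σ g x)) (emb (σ g z)) ↔ E.Adj (emb x) (emb z) := fun x z => by
    rw [hσ, hσ]; exact (hmem g).1 _ _
  rw [col_iff h, col_iff h, (σ g).injective.ne_iff, inCommon_map (σ g) hadj]

end Cfsg.Agent.Spor.RuRec
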