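import Cfsg.Agent.Lib.Spor.RuRec.CheckVert
import Cfsg.Agent.Lib.Spor.RuRec.CheckOct

/-! The point stabiliser of the Rudvalis group on the points of its octagon. -/

set_option autoImplicit false
set_option maxRecDepth 100000

open Cfsg.Agent.Spor.Cos
open Cfsg.Agent.Spor.SuzRec (bit maskOf ndB ptsOf chkTree connB conn_pts tree_lt tree_letters listSet mem_listSet
  card_listSet card_tree nodup_of_ndB bit_maskOf maskOf_eq bit_eq)

namespace Cfsg.Agent.Spor.RuRec

/-- The point stabiliser. -/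
abbrev H0 : Type := ↥(val (genOf Cos.Ru.actA) Cos.Ru.g1W)

theorem g1_len : Cos.Ru.g1W.length = 6 := by decide +kernel

theorem g1_lt : ∀ s, ∀ l ∈ Cos.Ru.g1W.getD s [], l < 5 := by
  intro s l hl
  by_cases h : s < Cos.Ru.g1W.length
  · refine Act.lt_of_lettersOk (n := 5) (ws := Cos.Ru.g1W) (by decide +kernel) ?_ l hl
    rw [List.getD_eq_getElem _ _ h]; exact List.getElem_mem _
  · rw [List.getD_eq_default _ _ (not_lt.1 h)] at hl
    simp at hl

/-- Its generators by number. -/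
noncomputable def gH (s : ℕ) : H0 :=
  if h : s < Cos.Ru.g1W.length then
    ⟨ev (genOf Cos.Ru.actA) (Cos.Ru.g1W.getD s []),
      mem_val (by rw [List.getD_eq_getElem _ _ h]; exact List.getElem_mem _)⟩
  else 1

theorem gH_val {s : ℕ} (h : s < 6) : (gH s : Cos.Ru.G4060) = ev (genOf Cos.Ru.actA) (Cos.Ru.g1W.getD s []) := by
  rw [gH, dif_pos (g1_len.symm ▸ h)]

theorem exp6_lt (w : List ℕ) : ∀ l ∈ exp6 w, l < 5 := by
  intro l hl
  obtain ⟨s, -, hs⟩ := List.mem_flatMap.1 hl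
  exact g1_lt s l hs

theorem exp6_cons (s : ℕ) (w : List ℕ) : exp6 (s :: w) = Cos.Ru.g1W.getD s [] ++ exp6 w := List.flatMap_cons ..

theorem ev_gH_val : ∀ {w : List ℕ}, (∀ s ∈ w, s < 6) →
    ((ev gH w : H0) : Cos.Ru.G4060) = ev (genOf Cos.Ru.actA) (exp6 w)
  | [], _ => rfl
  | s :: w, h => by
    rw [ev, Subgroup.coe_mul, gH_val (h s (List.mem_cons_self ..)),
      ev_gH_val fun t ht => h t (List.mem_cons_of_mem _ ht), exp6_cons, ev_append]

theorem exists_word (y : H0) : ∃ w : List ℕ, (∀ s ∈ w, s < 6) ∧ ev gH w = y := by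
  obtain ⟨y, hy⟩ := y
  suffices h : ∃ w : List ℕ, (∀ s ∈ w, s < 6) ∧ ev (genOf Cos.Ru.actA) (exp6 w) = y by
    obtain ⟨w, hw, e⟩ := h
    exact ⟨w, hw, Subtype.ext ((ev_gH_val hw).trans e)⟩
  rw [val, ← Subgroup.mem_toSubmonoid, Subgroup.closure_toSubmonoid_of_finite] at hy
  induction hy using Submonoid.closure_induction with
  | mem y hy =>
    obtain ⟨w, hw, rfl⟩ := hy
    obtain ⟨s, hs, rfl⟩ := List.getElem_of_mem hw
    refine ⟨[s], by simpa [g1_len] using hs, ?_⟩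
    rw [exp6_cons, show exp6 [] = [] from rfl, List.append_nil, List.getD_eq_getElem _ _ hs]
  | one => exact ⟨[], by simp, rfl⟩
  | mul a b _ _ ha hb =>
    obtain ⟨v, hv, rfl⟩ := ha
    obtain ⟨w, hw, rfl⟩ := hb
    exact ⟨v ++ w, fun s hs => (List.mem_append.1 hs).elim (hv s) (hw s), by
      rw [show exp6 (v ++ w) = exp6 v ++ exp6 w from List.flatMap_append .., ev_append]⟩

/-- The vertices. -/
abbrev V : Type := Fin Cos.Ru.actA.N

theorem hV : Cos.Ru.actA.N = 4060 := rfl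

/-- The action on the vertices. -/
noncomputable def piV : H0 →* Equiv.Perm V := Cos.Ru.pi.comp (Subgroup.subtype _)

theorem piV_injective : Function.Injective piV := fun _ _ e => Subtype.ext (Subtype.ext e)

theorem piV_ev {w : List ℕ} (hw : ∀ s ∈ w, s < 6) (v : V) :
    (piV (ev gH w) v : ℕ) = Cos.Ru.actA.go (exp6 w) v := by
  show (Cos.Ru.pi ((ev gH w : H0) : Cos.Ru.G4060) v : ℕ) = _
  rw [ev_gH_val hw]
  exact Cos.Ru.hom.apply_ev _ (exp6_lt w) v

theorem go_append (A : Act) : ∀ (v w : List ℕ) (p : ℕ), A.go (v ++ w) p = A.go v (A.go w p)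
  | [], _, _ => rfl
  | s :: v, w, p => by rw [List.cons_append, Act.go_cons, Act.go_cons, go_append A v w]

/-- The base vertex. -/
noncomputable def v0 : V := Cos.Ru.base

theorem mem_H0 {z : Cos.Ru.G4060} : z ∈ val (genOf Cos.Ru.actA) Cos.Ru.g1W ↔ Cos.Ru.pi z v0 = v0 := by
  rw [Cos.Ru.stab_eq]
  exact mem_stab

theorem piV_v0 (y : H0) : piV y v0 = v0 := mem_H0.1 y.2

theorem card_H0 : Nat.card H0 = 35942400 := by
  rw [show Nat.card H0 = Nat.card (stab Cos.Ru.pi Cos.Ru.base) from by rw [← Cos.Ru.stab_eq]]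
  exact Cos.Ru.card_stab_base

theorem transV (v : V) : ∃ z : Cos.Ru.G4060, Cos.Ru.pi z v0 = v := Cos.Ru.transitive v

/-! ### The points -/

theorem emb_facts {p : ℕ} (hp : p < 1755) : ptV.at p < 4060 ∧ kindT.at (ptV.at p) = p + 2 ∧
    ∀ s < 6, ptV.at (octA.im p s) = Cos.Ru.actA.go (Cos.Ru.g1W.getD s []) (ptV.at p) ∧ octA.im p s < 1755 := by
  have h := emb_ok p hp
  simp only [chkEmb, force_eq, Bool.and_eq_true, List.all_eq_true, List.mem_range] at h
  exact ⟨Nat.le_of_ble_eq_true h.1.1, Nat.eq_of_beq_eq_true h.1.2,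
    fun s hs => ⟨Nat.eq_of_beq_eq_true (h.2 s hs).1, Nat.le_of_ble_eq_true (h.2 s hs).2⟩⟩

/-- The number of points. -/
theorem octN : octA.N = 1755 := rfl

/-- The vertex of a point. -/
noncomputable def emb (p : Fin octA.N) : V := ⟨ptV.at p, (emb_facts p.2).1⟩

theorem kind_emb (p : Fin octA.N) : kindT.at (emb p) = (p : ℕ) + 2 := (emb_facts p.2).2.1

theorem emb_injective : Function.Injective emb := fun p q e => Fin.ext (by
  have h := kind_emb p; rw [e, kind_emb] at h; omega)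

theorem emb_go : ∀ {w : List ℕ}, (∀ s ∈ w, s < 6) → ∀ {p : ℕ}, p < 1755 →
    octA.go w p < 1755 ∧ ptV.at (octA.go w p) = Cos.Ru.actA.go (exp6 w) (ptV.at p)
  | [], _, p, hp => ⟨hp, rfl⟩
  | s :: w, hw, p, hp => by
    have hw' : ∀ t ∈ w, t < 6 := fun t ht => hw t (List.mem_cons_of_mem _ ht)
    obtain ⟨h1, h2⟩ := emb_go hw' hp
    obtain ⟨h3, h4⟩ := (emb_facts h1).2.2 s (hw s (List.mem_cons_self ..))
    rw [Act.go_cons, exp6_cons, go_append, ← h2]
    exact ⟨h4, h3⟩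

theorem exists_theta (y : H0) (p : Fin octA.N) : ∃ q, emb q = piV y (emb p) := by
  obtain ⟨w, hw, rfl⟩ := exists_word y
  obtain ⟨h1, h2⟩ := emb_go hw p.2
  exact ⟨⟨_, h1⟩, Fin.ext (h2.trans (piV_ev hw (emb p)).symm)⟩

/-- The map of an element on the points. -/
noncomputable def thetaF (y : H0) (p : Fin octA.N) : Fin octA.N := (exists_theta y p).choose

theorem emb_thetaF (y : H0) (p : Fin octA.N) : emb (thetaF y p) = piV y (emb p) := (exists_theta y p).choose_spec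

/-- The action on the points. -/
noncomputable def θ : H0 →* Equiv.Perm (Fin octA.N) :=
  MonoidHom.mk' (fun y =>
    { toFun := thetaF y
      invFun := thetaF y⁻¹
      left_inv := fun p => emb_injective (by
        rw [emb_thetaF, emb_thetaF, map_inv]; exact (piV y).symm_apply_apply _)
      right_inv := fun p => emb_injective (by
        rw [emb_thetaF, emb_thetaF, map_inv]; exact (piV y).apply_symm_apply _) })
    fun y z => Equiv.ext fun p => emb_injective (by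
      show emb (thetaF (y * z) p) = emb (thetaF y (thetaF z p))
      rw [emb_thetaF, emb_thetaF, emb_thetaF, map_mul]; rfl)

theorem piV_emb (y : H0) (p : Fin octA.N) : piV y (emb p) = emb (θ y p) := (emb_thetaF y p).symm

theorem theta_spec {w : List ℕ} (hw : ∀ s ∈ w, s < 6) (p : Fin octA.N) :
    (θ (ev gH w) p : ℕ) = octA.go w p := by
  obtain ⟨h1, h2⟩ := emb_go hw p.2
  exact congrArg Fin.val (emb_injective (a₁ := θ (ev gH w) p) (a₂ := ⟨_, h1⟩)
    ((piV_emb _ p).symm.trans (Fin.ext ((piV_ev hw _).trans h2.symm))))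

theorem theta_inv_self (y : H0) (p : Fin octA.N) : θ y (θ y⁻¹ p) = p := by
  rw [map_inv]; exact (θ y).apply_symm_apply p

theorem theta_self_inv (y : H0) (p : Fin octA.N) : θ y⁻¹ (θ y p) = p := by
  rw [map_inv]; exact (θ y).symm_apply_apply p

theorem piV_inv_self (y : H0) (v : V) : piV y (piV y⁻¹ v) = v := by
  rw [map_inv]; exact (piV y).apply_symm_apply v

theorem fullMask_bit {p : ℕ} : bit fullMask p = true ↔ p < 1755 := by
  rw [bit_eq, fullMask, Nat.testBit_two_pow_sub_one, decide_eq_true_eq]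

theorem getD_mem {α : Type*} {l : List α} {k : ℕ} {d : α} (hk : k < l.length) : l.getD k d ∈ l := by
  rw [List.getD_eq_getElem _ _ hk]; exact List.getElem_mem _

/-- The orbit by words: a property kept by them holds on it. -/
theorem tree_prop {W : List (List ℕ)} {o : ℕ × List (ℕ × ℕ × ℕ)} (ht : chkTree octA W o = true)
    (Pr : Fin octA.N → Prop) (hst : ∀ w ∈ W, ∀ p, Pr p → Pr (θ (ev gH w) p)) (ho : o.1 < octA.N)
    (hr : Pr ⟨o.1, ho⟩) (p : Fin octA.N) (hp : (p : ℕ) ∈ ptsOf o) : Pr p := by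
  obtain ⟨q, e, hq⟩ := conn_pts (fun x => ∃ q : Fin octA.N, (q : ℕ) = x ∧ Pr q)
    (fun w hw x ⟨q, e, hq⟩ => ⟨_, (theta_spec (Act.lt_of_lettersOk (tree_letters ht) hw) q).trans (by rw [e]),
      hst w hw q hq⟩) ht ⟨⟨o.1, ho⟩, rfl, hr⟩ _ hp
  rwa [Fin.ext e] at hq

/-- An orbit on the vertices by words in the generators. -/
theorem tree_propV {W : List (List ℕ)} {o : ℕ × List (ℕ × ℕ × ℕ)}
    (ht : chkTree Cos.Ru.actA (W.map exp6) o = true) (hW : ∀ w ∈ W, ∀ s ∈ w, s < 6)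
    (Pr : V → Prop) (hst : ∀ w ∈ W, ∀ v, Pr v → Pr (piV (ev gH w) v)) (ho : o.1 < Cos.Ru.actA.N)
    (hr : Pr ⟨o.1, ho⟩) (v : V) (hv : (v : ℕ) ∈ ptsOf o) : Pr v := by
  obtain ⟨q, e, hq⟩ := conn_pts (fun x => ∃ q : V, (q : ℕ) = x ∧ Pr q) (fun w' hw' x ⟨q, e, hq⟩ => by
    obtain ⟨w, hw, rfl⟩ := List.mem_map.1 hw'
    exact ⟨_, (piV_ev (hW w hw) q).trans (by rw [e]), hst w hw q hq⟩) ht ⟨⟨o.1, ho⟩, rfl, hr⟩ _ hv
  rwa [Fin.ext e] at hq

theorem genW_exp : genW.map exp6 = Cos.Ru.g1W := by decide +kernel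

end Cfsg.Agent.Spor.RuRec
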