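import Cfsg.Agent.Lib.Spor.RuRec.Hom
import Cfsg.Agent.Lib.Spor.RuRec.CheckIso1
import Cfsg.Agent.Lib.Spor.RuRec.CheckIso2
import Cfsg.Agent.Lib.Spor.RuRec.CheckIso3
import Cfsg.Agent.Lib.Lie.Chev.TwistF4TwoSimple

/-! The point stabiliser of the Rudvalis group is the Ree group: both act alike on 1755 vectors. -/

set_option autoImplicit false
set_option maxRecDepth 100000

open Cfsg.Agent.Spor.Cos
open Cfsg.Agent.Spor.SuzRec (bit maskOf maskOf_eq bit_maskOf)
open Cfsg.Agent.Lie.Chev
open Cfsg.Lie Matrix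

namespace Cfsg.Agent.Spor.RuRec

open F4Two (bitVal wd atom G₂ K₂)

/-- A number below `2 ^ 52` as a vector. -/
def vf (v : ℕ) : chevF4.Idx → K₂ := fun b => bitVal v (enum chevF4 b)

theorem root_facts {r : ℕ} (hr : r < 48) : ∀ p ∈ F4Two.rootCols.getD r [], p.2 < 2 ^ 52 := by
  have h := F4Two.checkRoot_ok
  simp only [List.all_eq_true, List.mem_range, Bool.and_eq_true, Nat.blt_eq] at h
  exact (h r hr).2

theorem wd_mulVec : ∀ {w : List ℕ}, (∀ r ∈ w, r < 48) → ∀ {v : ℕ}, v < 2 ^ 52 →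
    applyW w v < 2 ^ 52 ∧ (wd w : Matrix chevF4.Idx chevF4.Idx K₂).mulVec (vf v) = vf (applyW w v)
  | [], _, v, hv => ⟨hv, by simp [wd, applyW]⟩
  | r :: w, hw, v, hv => by
    have hw' : ∀ y ∈ w, y < 48 := fun y hy => hw y (List.mem_cons_of_mem _ hy)
    obtain ⟨h1, h2⟩ := wd_mulVec hw' hv
    have hr := hw r (List.mem_cons_self ..)
    refine ⟨F4Two.bapply_lt (root_facts hr) h1, ?_⟩
    rw [wd, List.map_cons, List.prod_cons, Units.val_mul, ← Matrix.mulVec_mulVec, ← wd, h2]
    exact F4Two.mulVec_bits hr _ h1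

theorem vec_parts : (∀ p < 1755, vec p < 2 ^ 52) ∧ ∀ p < 1755, ∀ q < 1755, vec p = vec q → p = q := by
  have h := vec_ok
  simp only [chkVec, Bool.and_eq_true, List.all_eq_true, List.mem_range] at h
  obtain ⟨⟨⟨h1, h2⟩, h3⟩, h4⟩ := h
  refine ⟨fun p hp => Nat.le_of_ble_eq_true (h1 p hp), ?_⟩
  have hnd : (vecOrd.map vec).Pairwise (· < ·) := by
    have key : ∀ (l : List ℕ) (b : ℕ), incFrom l b = true → l.Pairwise (· < ·) ∧ ∀ x ∈ l, b ≤ x := by
      intro l
      induction l with
      | nil => simp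
      | cons v l ih =>
        intro b h
        have h' : (force v fun v' => Nat.ble b v' && force (v' + 1) (incFrom l)) = true := h
        rw [force_eq, force_eq, Bool.and_eq_true] at h'
        obtain ⟨i1, i2⟩ := ih _ h'.2
        refine ⟨List.pairwise_cons.2 ⟨fun x hx => i2 x hx, i1⟩, fun x hx => ?_⟩
        have hb : b ≤ v := Nat.le_of_ble_eq_true h'.1
        rcases List.mem_cons.1 hx with rfl | hx
        · exact hb
        · exact le_trans hb (le_of_lt (i2 x hx))
    exact (key _ _ h3).1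
  intro p hp q hq e
  have hin : ∀ x, x < 1755 → x ∈ vecOrd := fun x hx => by
    rw [← bit_maskOf, Nat.eq_of_beq_eq_true h2, fullMask_bit]; exact hx
  obtain ⟨i, hi, rfl⟩ := List.getElem_of_mem (hin p hp)
  obtain ⟨j, hj, rfl⟩ := List.getElem_of_mem (hin q hq)
  have := (List.pairwise_iff_getElem.1 hnd)
  rcases Nat.lt_trichotomy i j with h' | h' | h'
  · have := this i j (by simpa using hi) (by simpa using hj) h'
    rw [List.getElem_map, List.getElem_map, e] at this
    exact absurd this (lt_irrefl _)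
  · subst h'; rfl
  · have := this j i (by simpa using hj) (by simpa using hi) h'
    rw [List.getElem_map, List.getElem_map, e] at this
    exact absurd this (lt_irrefl _)

theorem vf_injective {v w : ℕ} (hv : v < 2 ^ 52) (hw : w < 2 ^ 52) (h : vf v = vf w) : v = w := by
  refine Nat.eq_of_testBit_eq fun i => ?_
  by_cases hi : i < 52
  · have := congrFun h (F4Two.ix i)
    simp only [vf, F4Two.enum_ix hi, bitVal] at this
    revert this
    cases v.testBit i <;> cases w.testBit i <;> decide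
  · rw [Nat.testBit_lt_two_pow (lt_of_lt_of_le hv (Nat.pow_le_pow_right (by norm_num) (by omega))),
      Nat.testBit_lt_two_pow (lt_of_lt_of_le hw (Nat.pow_le_pow_right (by norm_num) (by omega)))]

theorem vecPt_injective : Function.Injective fun p : Fin octA.N => vf (vec p) := fun p q e =>
  Fin.ext (vec_parts.2 p p.2 q q.2 (vf_injective (vec_parts.1 p p.2) (vec_parts.1 q q.2) e))

/-- The elements moving the vectors as the points are moved. -/
def Alike (g : G₂) (y : H0) : Prop :=
  ∀ p : Fin octA.N, ((g : GL chevF4.Idx K₂) : Matrix chevF4.Idx chevF4.Idx K₂).mulVec (vf (vec p)) = vf (vec (θ y p))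

theorem atom_alike {k : ℕ} (hk : k < 26) : ∃ (g : G₂) (y : H0), (g : GL chevF4.Idx K₂) = wd (atom k) ∧ Alike g y := by
  have h : chkAtom k = true := by
    interval_cases k
    exacts [atom_ok0, atom_ok1, atom_ok2, atom_ok3, atom_ok4, atom_ok5, atom_ok6, atom_ok7, atom_ok8, atom_ok9, atom_ok10, atom_ok11, atom_ok12, atom_ok13, atom_ok14, atom_ok15, atom_ok16, atom_ok17, atom_ok18, atom_ok19, atom_ok20, atom_ok21, atom_ok22, atom_ok23, atom_ok24, atom_ok25]
  simp only [chkAtom, force_eq, Bool.and_eq_true, List.all_eq_true, List.mem_range] at h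
  obtain ⟨⟨hl, hr⟩, he⟩ := h
  have hl' : ∀ s ∈ atomW.getD k [], s < 6 := Act.lt_of_lettersOk hl (List.mem_cons_self ..)
  refine ⟨⟨_, F4Two.atom_mem k⟩, ev gH (atomW.getD k []), rfl, fun p => ?_⟩
  obtain ⟨-, e⟩ := wd_mulVec (w := atom k) (fun r hr' => Nat.le_of_ble_eq_true (hr r hr')) (vec_parts.1 p p.2)
  rw [show ((⟨_, F4Two.atom_mem k⟩ : G₂) : GL chevF4.Idx K₂) = wd (atom k) from rfl, e,
    (fastW_eq _ _).symm.trans (Nat.eq_of_beq_eq_true (he p p.2)), theta_spec hl']

/-- The subgroup of these elements. -/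
def alikeSub : Subgroup G₂ where
  carrier := {g | ∃ y, Alike g y}
  one_mem' := ⟨1, fun p => by simp⟩
  mul_mem' := fun {a b} ⟨y, hy⟩ ⟨z, hz⟩ => ⟨y * z, fun p => by
    rw [Subgroup.coe_mul, Units.val_mul, ← Matrix.mulVec_mulVec, hz, hy, map_mul]
    rfl⟩
  inv_mem' := fun {a} ⟨y, hy⟩ => ⟨y⁻¹, fun p => by
    have h := hy (θ y⁻¹ p)
    rw [theta_inv_self] at h
    rw [← h, Matrix.mulVec_mulVec, ← Units.val_mul, ← Subgroup.coe_mul, inv_mul_cancel, Subgroup.coe_one,
      Units.val_one, Matrix.one_mulVec]⟩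

theorem alikeSub_top : alikeSub = ⊤ := by
  have hat : ∀ k, k < 26 → ∀ g : G₂, (g : GL chevF4.Idx K₂) = wd (atom k) → g ∈ alikeSub := fun k hk g hg => by
    obtain ⟨g', y, e, hy⟩ := atom_alike hk
    exact ⟨y, (Subtype.ext (hg.trans e.symm) : g = g') ▸ hy⟩
  have hgen : ∀ g : G₂, (g : GL chevF4.Idx K₂) ∈ F4Two.genSub → g ∈ alikeSub := by
    have hle : F4Two.genSub ≤ alikeSub.map (twistedF4 K₂ 1).subtype := by
      refine (Subgroup.closure_le _).2 ?_
      rintro x ⟨k, hk, rfl⟩
      refine ⟨F4Two.gen k hk, hat k (by omega) _ ?_, rfl⟩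
      rw [atom, show Nat.blt k 24 = true by rw [Nat.blt_eq]; exact hk, cond_true]
      rfl
    intro g hg
    obtain ⟨x, hx, e⟩ := hle hg
    rwa [show g = x from Subtype.ext e.symm]
  have hB : F4Two.Y₀.bnPair.B ≤ (alikeSub : Subgroup ↥F4Two.Y₀.G₁) := fun b hb => by
    have h := (Twist.Datum.mem_bnB F4Two.Y₀).1 hb
    rw [F4Two.borel_fix_eq] at h
    exact hgen (b : G₂) h
  have hS : ∀ s ∈ F4Two.Y₀.bnPair.S, s ∈ (alikeSub : Subgroup ↥F4Two.Y₀.G₁) := by
    rintro s ⟨J, hJ, es⟩
    have hJ' : J ∈ orbitsF4 := hJ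
    simp only [orbitsF4, List.mem_cons, List.not_mem_nil, or_false] at hJ'
    rcases hJ' with rfl | rfl
    · exact hat 25 (by norm_num) (s : G₂) (es.trans (F4Two.node_spec F4Two.checkNode_ok.2).1.2.symm)
    · exact hat 24 (by norm_num) (s : G₂) (es.trans (F4Two.node_spec F4Two.checkNode_ok.1).1.2.symm)
  refine top_le_iff.1 ?_
  show (⊤ : Subgroup ↥F4Two.Y₀.G₁) ≤ alikeSub
  rw [← F4Two.Y₀.bnPair.sup_eq_top, ← F4Two.Y₀.bnPair.closure_sup]
  exact sup_le hB (sup_le ((Subgroup.closure_le _).2 hS) (inf_le_left.trans hB))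

/-- The point stabiliser is the Ree group. -/
theorem iso_data : Function.Injective θ ∧ Nonempty (H0 ≃* G₂) := by
  choose Y hY using fun g : G₂ => (SetLike.ext_iff.1 alikeSub_top g).2 (Subgroup.mem_top g)
  let Ψ : G₂ →* Equiv.Perm (Fin octA.N) := MonoidHom.mk' (fun g => θ (Y g)) fun g h => Equiv.ext fun p =>
    vecPt_injective (by
      show vf (vec (θ (Y (g * h)) p)) = vf (vec (θ (Y g) (θ (Y h) p)))
      rw [← hY, ← hY, ← hY, Subgroup.coe_mul, Units.val_mul, Matrix.mulVec_mulVec])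
  have hΨ : Function.Injective Ψ := by
    refine (injective_iff_map_eq_one Ψ).2 fun g hg => ?_
    set A : Matrix chevF4.Idx chevF4.Idx K₂ := ((g : GL chevF4.Idx K₂) : Matrix chevF4.Idx chevF4.Idx K₂)
    have hfix : ∀ p : ℕ, p < 1755 → A.mulVec (vf (vec p)) = vf (vec p) := fun p hp => by
      have e := hY g ⟨p, hp⟩
      rwa [show θ (Y g) = 1 from hg] at e
    have hxor : ∀ l : List ℕ, (∀ p ∈ l, p < 1755) →
        A.mulVec (vf (l.foldr (fun p acc => Nat.xor (vec p) acc) 0)) =
          vf (l.foldr (fun p acc => Nat.xor (vec p) acc) 0) := by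
      intro l hl
      have hadd : ∀ v w, vf (Nat.xor v w) = vf v + vf w := fun v w => funext fun b => F4Two.bitVal_xor v w _
      induction l with
      | nil =>
        rw [List.foldr_nil, show vf 0 = 0 from funext fun b => by simp [vf, bitVal], Matrix.mulVec_zero]
      | cons p l ih =>
        rw [List.foldr_cons, hadd, Matrix.mulVec_add, hfix p (hl p (List.mem_cons_self ..)),
          ih fun q hq => hl q (List.mem_cons_of_mem _ hq)]
    refine Subtype.ext (Units.ext (Matrix.ext fun a b => ?_))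
    have h := span_ok
    simp only [chkSpan, force_eq, Bool.and_eq_true, List.all_eq_true, List.mem_range] at h
    obtain ⟨h1, h2⟩ := h.2 (enum chevF4 b) (F4Two.enum_lt' b)
    have e := hxor _ fun p hp => Nat.le_of_ble_eq_true (h1 p hp)
    rw [Nat.eq_of_beq_eq_true h2] at e
    have hb : vf (2 ^ enum chevF4 b) = Pi.single b 1 := funext fun c => by
      simp only [vf, bitVal, Nat.testBit_two_pow]
      by_cases hc : c = b
      · subst hc; simp
      · rw [Pi.single_eq_of_ne hc, if_neg]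
        simp only [decide_eq_true_eq]
        exact fun e' => hc (enum_injective chevF4 e'.symm)
    rw [hb, Matrix.mulVec_single_one] at e
    have e' := congrFun e a
    rw [Matrix.col_apply] at e'
    show A a b = (1 : Matrix chevF4.Idx chevF4.Idx K₂) a b
    rw [e', Matrix.one_apply]
    by_cases hab : a = b
    · subst hab; rw [if_pos rfl, Pi.single_eq_same]
    · rw [if_neg hab, Pi.single_eq_of_ne hab]
  have hc : Nat.card G₂ = Nat.card H0 := by rw [F4Two.card_G₂, card_H0]; norm_num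
  have hle : Ψ.range ≤ θ.range := by rintro _ ⟨g, rfl⟩; exact ⟨Y g, rfl⟩
  have h1 : Nat.card Ψ.range = Nat.card G₂ := (Nat.card_congr (MonoidHom.ofInjective hΨ).toEquiv).symm
  have hθc : Nat.card θ.range = Nat.card H0 := by
    refine le_antisymm (Nat.card_le_card_of_surjective _ θ.rangeRestrict_surjective) ?_
    rw [← hc, ← h1]
    exact Subgroup.card_le_of_le hle
  have hθ : Function.Injective θ := fun a b e => by
    have hbij := (Nat.bijective_iff_surjective_and_card θ.rangeRestrict).2 ⟨θ.rangeRestrict_surjective, hθc.symm⟩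
    exact hbij.1 (Subtype.ext e)
  have heq : Ψ.range = θ.range := Subgroup.eq_of_le_of_card_ge hle (by rw [hθc, h1, hc])
  exact ⟨hθ, ⟨(MonoidHom.ofInjective hθ).trans ((MulEquiv.subgroupCongr heq.symm).trans
    (MonoidHom.ofInjective hΨ).symm)⟩⟩

end Cfsg.Agent.Spor.RuRec
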