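import Cfsg.Agent.Lib.Spor.RuRec.CheckDefs
import Cfsg.Agent.Lib.Spor.RuRec.DataIso
import Cfsg.Agent.Lib.Lie.Chev.TwistF4TwoTits

/-! The checks comparing the Ree group with the point stabiliser. -/

set_option autoImplicit false
set_option maxRecDepth 100000
set_option maxHeartbeats 4000000

open Cfsg.Agent.Spor.Cos
open Cfsg.Agent.Spor.SuzRec (bit maskOf)

namespace Cfsg.Agent.Spor.RuRec

/-- Apply a word of roots to a vector. -/
def applyW (w : List ℕ) (v : ℕ) : ℕ := w.foldr Lie.Chev.F4Two.bapply v

/-- Apply one root element, reducing as it goes. -/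
noncomputable def rootApply (v : ℕ) (l : List (ℕ × ℕ)) : ℕ :=
  List.rec (motive := fun _ => ℕ) v (fun p _ r => force r fun r' => bif bit v p.1 then Nat.xor r' p.2 else r') l

/-- Apply a word of roots, reducing as it goes. -/
noncomputable def fastW (w : List ℕ) (v : ℕ) : ℕ :=
  List.rec (motive := fun _ => ℕ) v
    (fun r _ u => force u fun u' => rootApply u' (Lie.Chev.F4Two.rootCols.getD r [])) w

theorem rootApply_eq (v : ℕ) : ∀ l : List (ℕ × ℕ),
    rootApply v l = l.foldr (fun p acc => bif Nat.testBit v p.1 then Nat.xor acc p.2 else acc) v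
  | [] => rfl
  | p :: l => by
    show force (rootApply v l) (fun r' => bif bit v p.1 then Nat.xor r' p.2 else r') = _
    rw [force_eq, rootApply_eq v l, SuzRec.bit_eq, List.foldr_cons]

theorem fastW_eq (v : ℕ) : ∀ w : List ℕ, fastW w v = applyW w v
  | [] => rfl
  | r :: w => by
    show force (fastW w v) (fun u' => rootApply u' (Lie.Chev.F4Two.rootCols.getD r [])) = _
    rw [force_eq, fastW_eq v w, rootApply_eq, applyW, applyW, List.foldr_cons, Lie.Chev.F4Two.bapply,
      Lie.Chev.F4Two.force_eq]

/-- The vector of a point. -/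
noncomputable def vec (p : ℕ) : ℕ := vecT.at p

/-- An atom moves the vectors as its word moves the points. -/
noncomputable def chkAtom (k : ℕ) : Bool :=
  force k fun k => Act.lettersOk 6 [atomW.getD k []] &&
    (Lie.Chev.F4Two.atom k).all (fun r => Nat.blt r 48) && (List.range 1755).all fun p =>
      Nat.beq (fastW (Lie.Chev.F4Two.atom k) (vec p)) (vec (octA.go (atomW.getD k []) p))

/-- The vectors are different. -/
noncomputable def chkVec : Bool :=
  (List.range 1755).all (fun p => Nat.blt (vec p) (2 ^ 52)) &&
    Nat.beq (maskOf vecOrd) fullMask && incFrom (vecOrd.map vec) 0 && (vecOrd.all fun p => Nat.blt p 1755)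

/-- The vectors span. -/
noncomputable def chkSpan : Bool :=
  Nat.beq spanL.length 52 && (List.range 52).all fun j => force j fun j =>
    (spanL.getD j []).all (fun p => Nat.blt p 1755) &&
      Nat.beq ((spanL.getD j []).foldr (fun p acc => Nat.xor (vec p) acc) 0) (2 ^ j)

end Cfsg.Agent.Spor.RuRec
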