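import Cfsg.Agent.Lib.Spor.RuRec.Sets

/-! The orbits of the point stabiliser of the Rudvalis group on the vertices. -/

set_option autoImplicit false
set_option maxRecDepth 100000

open Cfsg.Agent.Spor.Cos Finset
open Cfsg.Agent.Spor.SuzRec (bit maskOf ptsOf chkTree bit_maskOf maskOf_eq tree_lt nodup_of_ndB listSet mem_listSet
  card_listSet)

namespace Cfsg.Agent.Spor.RuRec

/-- The kind of the vertices not adjacent to the base. -/
def isOut (v : V) : Prop := kindT.at v = 1

noncomputable instance : DecidablePred isOut := fun v => inferInstanceAs (Decidable (kindT.at v = 1))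

theorem v0_val : (v0 : ℕ) = 0 := rfl

theorem kind_v0 : kindT.at (v0 : ℕ) = 0 := by rw [v0_val]; decide +kernel

theorem kind_cases (v : V) : v = v0 ∨ isOut v ∨ ∃ p, emb p = v := by
  have h := kind_ok v v.2
  simp only [chkKind, force_eq, Bool.and_eq_true, Bool.or_eq_true] at h
  rcases h with (⟨h1, h2⟩ | h1) | ⟨⟨h1, h2⟩, h3⟩
  · exact Or.inl (Fin.ext ((Nat.eq_of_beq_eq_true h2).trans v0_val.symm))
  · exact Or.inr (Or.inl (Nat.eq_of_beq_eq_true h1))
  · have hlt : kindT.at v - 2 < 1755 := by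
      have := Nat.le_of_ble_eq_true h1
      have : kindT.at v < 1757 := Nat.le_of_ble_eq_true h2
      omega
    exact Or.inr (Or.inr ⟨⟨_, hlt⟩, Fin.ext (Nat.eq_of_beq_eq_true h3)⟩)

theorem emb_not_out {p : Fin octA.N} : ¬ isOut (emb p) := fun h => by
  have := kind_emb p
  rw [h] at this
  omega

theorem v0_not_out : ¬ isOut v0 := fun h => by
  have := kind_v0
  rw [h] at this
  omega

theorem emb_ne_v0 {p : Fin octA.N} : emb p ≠ v0 := fun e => by
  have := kind_emb p
  rw [e, kind_v0] at this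
  omega

theorem out_piV (y : H0) {v : V} (h : isOut v) : isOut (piV y v) := by
  rcases kind_cases (piV y v) with e | e | ⟨q, e⟩
  · refine absurd h ?_
    rw [show v = v0 from (piV y).injective (e.trans (piV_v0 y).symm)]
    exact v0_not_out
  · exact e
  · refine absurd h ?_
    rw [show v = emb (θ y⁻¹ q) from (piV y).injective (e.symm.trans (by rw [piV_emb, theta_inv_self]))]
    exact emb_not_out

theorem outer_parts : chkTree Cos.Ru.actA (genW.map exp6) outer = true ∧ (ptsOf outer).length = 2304 ∧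
    (ptsOf outer).Nodup ∧ outer.1 = 1 ∧ ∀ v : V, isOut v ↔ (v : ℕ) ∈ ptsOf outer := by
  have h := outer_ok
  simp only [chkOuter, force_eq, Bool.and_eq_true, List.all_eq_true, List.mem_range] at h
  obtain ⟨⟨⟨⟨h1, h2⟩, h3⟩, h4⟩, h5⟩ := h
  have h6 := outerSub_ok
  simp only [chkOuterSub, Bool.and_eq_true] at h6
  refine ⟨by rw [genW_exp]; exact h1, Nat.eq_of_beq_eq_true h2, nodup_of_ndB h3,
    Nat.eq_of_beq_eq_true h6.1.1.1.1.1, fun v => ⟨fun hv => ?_, fun hv => Nat.eq_of_beq_eq_true (h4 v hv)⟩⟩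
  have := h5 v v.2
  rw [Bool.or_eq_true, Bool.not_eq_true'] at this
  rcases this with e | e
  · rw [show kindT.at v = 1 from hv] at e
    simp at e
  · exact bit_maskOf.1 e

/-- The base vertex not adjacent to the base. -/
noncomputable def u0 : V := ⟨1, by decide +kernel⟩

theorem u0_out : isOut u0 := by
  refine (outer_parts.2.2.2.2 u0).2 ?_
  show 1 ∈ ptsOf outer
  rw [← outer_parts.2.2.2.1]
  exact List.mem_cons_self ..

theorem out_orbit {v : V} (h : isOut v) : ∃ y : H0, piV y u0 = v := by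
  obtain ⟨ht, -, -, hr, hout⟩ := outer_parts
  have hlt : outer.1 < Cos.Ru.actA.N := tree_lt ht (List.mem_cons_self ..)
  refine tree_propV ht (fun w hw s hs => Act.lt_of_lettersOk (n := 6) (by decide +kernel) hw s hs)
    (fun q => ∃ y : H0, piV y u0 = q) (fun w _ q ⟨y, hy⟩ => ⟨ev gH w * y, by rw [map_mul, ← hy]; rfl⟩) hlt
    ⟨1, by rw [map_one]; exact Fin.ext hr.symm⟩ v ((hout v).1 h)

theorem card_out : #(univ.filter fun v : V => isOut v) = 2304 := by
  obtain ⟨ht, hl, hnd, -, hout⟩ := outer_parts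
  rw [show (univ.filter fun v : V => isOut v) = listSet (ptsOf outer) by ext v; simp [mem_listSet, hout],
    card_listSet hnd (fun q hq => tree_lt ht hq), hl]

/-- A class of the stabiliser of the outer base vertex. -/
noncomputable def ocls (i : Fin 5) : Finset V := listSet (ptsOf (outerSubs.getD i (0, [])))

/-- Their sizes. -/
def osize : Fin 5 → ℕ := ![78, 300, 300, 650, 975]

theorem ocls_parts : (∀ i : Fin 5, chkTree Cos.Ru.actA (tW.map exp6) (outerSubs.getD i (0, [])) = true ∧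
      #(ocls i) = osize i ∧ u0 ∉ ocls i ∧ 2 ≤ #(ocls i)) ∧
    (∀ w ∈ tW, piV (ev gH w) u0 = u0) ∧ (∀ v, isOut v → v = u0 ∨ ∃ i, v ∈ ocls i) ∧
    ∀ i j : Fin 5, i ≠ j → Disjoint (ocls i) (ocls j) := by
  have h := outerSub_ok
  simp only [chkOuterSub, Bool.and_eq_true, List.all_eq_true, List.mem_range] at h
  obtain ⟨⟨⟨⟨⟨-, hfix⟩, horb⟩, hcov⟩, hnd⟩, hu⟩ := h
  have hlen : outerSubs.length = 5 := rfl
  have hsz : ∀ i : Fin 5, outerSizes.getD i 0 = osize i := by intro i; fin_cases i <;> rfl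
  refine ⟨fun i => ?_, fun w hw => ?_, fun v hv => ?_, ?_⟩
  · have h1 := horb i i.2
    simp only [chkOrb, Bool.and_eq_true, beq_iff_eq] at h1
    have hc : #(ocls i) = osize i := by
      rw [ocls, card_listSet (nodup_of_ndB h1.2) (fun q hq => tree_lt h1.1.1 hq), h1.1.2, hsz]
    refine ⟨h1.1.1, hc, fun hu0 => ?_, by rw [hc]; fin_cases i <;> simp [osize]⟩
    have := (hu _ (getD_mem (d := (0, [])) (show (i : ℕ) < outerSubs.length from i.2))).1
    rw [Bool.not_eq_true', Bool.eq_false_iff] at this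
    exact this (bit_maskOf.2 (mem_listSet.1 hu0))
  · refine Fin.ext ((piV_ev (sets_parts.2.2.2 w hw).1 u0).trans ?_)
    exact Nat.eq_of_beq_eq_true (List.all_eq_true.1 hfix _ (List.mem_map.2 ⟨w, hw, rfl⟩))
  · have hv' : (v : ℕ) ∈ 1 :: outerSubs.flatMap ptsOf :=
      (maskOf_eq.1 (Nat.eq_of_beq_eq_true hcov) v).2 ((outer_parts.2.2.2.2 v).1 hv)
    rcases List.mem_cons.1 hv' with e | e
    · exact Or.inl (Fin.ext e)
    · obtain ⟨o, ho, hvo⟩ := List.mem_flatMap.1 e
      obtain ⟨i, hi, rfl⟩ := List.getElem_of_mem ho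
      exact Or.inr ⟨⟨i, hlen ▸ hi⟩, mem_listSet.2 (by rw [List.getD_eq_getElem _ _ hi]; exact hvo)⟩
  · have hnd' := (List.nodup_cons.1 (nodup_of_ndB hnd)).2
    rw [List.nodup_flatMap] at hnd'
    have key : ∀ a b : Fin 5, a < b → Disjoint (ocls a) (ocls b) := by
      intro a b hab
      rw [disjoint_left]
      intro q ha hb
      have hd := List.pairwise_iff_getElem.1 hnd'.2 a b (hlen.symm ▸ a.2) (hlen.symm ▸ b.2) hab
      have e : ∀ c : Fin 5, q ∈ ocls c → (q : ℕ) ∈ ptsOf (outerSubs[(c : ℕ)]'(hlen.symm ▸ c.2)) := fun c hc => by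
        rw [← List.getD_eq_getElem _ (0, [])]
        exact mem_listSet.1 hc
      exact hd (e a ha) (e b hb)
    intro i j hij
    rcases lt_or_gt_of_ne hij with h | h
    · exact key i j h
    · exact (key j i h).symm

/-- Only the outer base vertex is fixed by these words. -/
theorem unique_fix {v : V} (hv : isOut v) (hfix : ∀ w ∈ tW, piV (ev gH w) v = v) : v = u0 := by
  obtain ⟨hcl, -, hcov, -⟩ := ocls_parts
  rcases hcov v hv with e | ⟨i, hi⟩
  · exact e
  exfalso
  obtain ⟨ht, -, -, h2⟩ := hcl i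
  have hlt := tree_lt ht (List.mem_cons_self ..)
  have key : ∀ q, q ∈ ocls i → (q = v ↔ (⟨_, hlt⟩ : V) = v) := fun q hq =>
    tree_propV ht (fun w hw => (sets_parts.2.2.2 w hw).1) (fun x => x = v ↔ (⟨_, hlt⟩ : V) = v)
      (fun w hw x hx => Iff.trans ⟨fun e => (piV (ev gH w)).injective (e.trans (hfix w hw).symm),
        fun e => by rw [e]; exact hfix w hw⟩ hx) hlt Iff.rfl q (mem_listSet.1 hq)
  have h1 := (key v hi).1 rfl
  have : ocls i ⊆ {v} := fun q hq => mem_singleton.2 ((key q hq).2 h1)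
  have := card_le_card this
  rw [card_singleton] at this
  omega

theorem osums : ∀ s : Finset (Fin 5), ∑ i ∈ s, osize i = 975 → s = {4} := by decide +kernel

/-- A set of 975 outer vertices kept by the stabiliser of the set of points. -/
theorem nbr_outer (T : Finset V) (hsub : ∀ v ∈ T, isOut v) (hu : u0 ∉ T)
    (hinv : ∀ y ∈ stR, ∀ v, v ∈ T → piV y v ∈ T) (hc : #T = 975) (v : V) :
    v ∈ T ↔ (v : ℕ) ∈ ptsOf outer975 := by
  obtain ⟨hcl, -, hcov, hdis⟩ := ocls_parts
  have hiff : ∀ w ∈ tW, ∀ x, x ∈ T ↔ piV (ev gH w) x ∈ T := fun w hw x =>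
    ⟨hinv _ (sets_parts.2.2.2 w hw).2 x, fun hx => by
      have := hinv _ (inv_mem (sets_parts.2.2.2 w hw).2) _ hx
      rwa [map_inv, Equiv.Perm.inv_def, Equiv.symm_apply_apply] at this⟩
  set s := univ.filter fun i => ocls i ⊆ T
  have hT : T = s.biUnion ocls := by
    refine Subset.antisymm (fun q hq => ?_) fun q hq => ?_
    · rcases hcov q (hsub q hq) with rfl | ⟨i, hi⟩
      · exact absurd hq hu
      refine mem_biUnion.2 ⟨i, mem_filter.2 ⟨mem_univ _, fun p hp => ?_⟩, hi⟩
      have ht := (hcl i).1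
      have hlt := tree_lt ht (List.mem_cons_self ..)
      have key : ∀ x, x ∈ ocls i → (x ∈ T ↔ (⟨_, hlt⟩ : V) ∈ T) := fun x hx =>
        tree_propV ht (fun w hw => (sets_parts.2.2.2 w hw).1) (fun x => x ∈ T ↔ (⟨_, hlt⟩ : V) ∈ T)
          (fun w hw x hx => (hiff w hw x).symm.trans hx) hlt Iff.rfl x (mem_listSet.1 hx)
      exact (key p hp).2 ((key q hi).1 hq)
    · obtain ⟨i, hi, e⟩ := mem_biUnion.1 hq
      exact (mem_filter.1 hi).2 e
  have hs : s = {4} := by
    refine osums s ?_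
    rw [← hc, hT, card_biUnion fun a _ b _ hab => hdis a b hab]
    exact sum_congr rfl fun k _ => ((hcl k).2.1).symm
  rw [hT, hs, singleton_biUnion, ocls, mem_listSet]
  rfl

end Cfsg.Agent.Spor.RuRec
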