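import Cfsg.Agent.Lib.Spor.RuRec.GraphAut
import Cfsg.Agent.Lib.Spor.RuRec.Iso
import Cfsg.Agent.Lib.Spor.Cos.RuLat.Main

/-!
A rank three group of degree 4060 with point stabiliser `²F₄(2)` and suborbits 1, 1755, 2304 is the Rudvalis group.
-/

set_option autoImplicit false
set_option maxRecDepth 100000
set_option maxHeartbeats 1000000

open Cfsg.Agent.Spor.Cos Finset

namespace Cfsg.Agent.Spor.RuRec

theorem main {Ω : Type*} [Fintype Ω] [DecidableEq Ω] (hΩ : Fintype.card Ω = 4060) (G : Subgroup (Equiv.Perm Ω))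
    [MulAction.IsPretransitive G Ω] (a : Ω) (e : MulAction.stabilizer G a ≃* Cfsg.Lie.twistedF4 (ZMod 2) 1)
    (b c : Ω) (hb : (MulAction.orbit (MulAction.stabilizer G a) b).ncard = 1755)
    (hc : (MulAction.orbit (MulAction.stabilizer G a) c).ncard = 2304) : Cfsg.Spor.IsoRu G := by
  classical
  obtain ⟨-, ⟨i⟩⟩ := iso_data
  let ψ : H0 ≃* MulAction.stabilizer G a := i.trans e.symm
  obtain ⟨Γ, Φ, hinv, -, hstd⟩ := exists_std hΩ G a ψ b c hb hc
  -- the graph of the Rudvalis group in the same labels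
  obtain ⟨ψ₀, hψ₀⟩ := exists_ru_psi
  obtain ⟨-, hb₀, hc₀⟩ := ru_orbits hψ₀
  obtain ⟨Γ₀, Φ₀, hinv₀, -, hstd₀⟩ := exists_std (Ω := V) (by rw [Fintype.card_fin]; rfl) ruP v0 ψ₀ (emb o) u0 hb₀ hc₀
  have hr₀ : actOn ruP v0 ψ₀ = piV := MonoidHom.ext fun y => Equiv.ext fun x => hψ₀ y x
  rw [hr₀] at hstd₀
  let e₀ : V ≃ V := Equiv.ofBijective Φ₀ hstd₀.bij
  let E : SimpleGraph V := Γ₀.comap Φ₀
  have hE : Std E piV id := by
    refine ⟨Function.bijective_id, fun y v => rfl, fun y x z => ?_, hstd₀.base, hstd₀.outer, hstd₀.mixed, hstd₀.inner⟩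
    show Γ₀.Adj (Φ₀ (piV y x)) (Φ₀ (piV y z)) ↔ Γ₀.Adj (Φ₀ x) (Φ₀ z)
    rw [hstd₀.equiv, hstd₀.equiv, hstd₀.inv]
  -- both groups as automorphisms
  let σ : ruP →* Equiv.Perm V := e₀.symm.permCongrHom.toMonoidHom.comp ruP.subtype
  have hσinj : Function.Injective σ := e₀.symm.permCongrHom.injective.comp Subtype.val_injective
  have hσA : σ.range ≤ autE E := by
    rintro _ ⟨g, rfl⟩ x z
    show Γ₀.Adj (e₀ (e₀.symm ((g : Equiv.Perm V) (e₀ x)))) (e₀ (e₀.symm ((g : Equiv.Perm V) (e₀ z)))) ↔ _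
    rw [e₀.apply_symm_apply, e₀.apply_symm_apply]
    exact hinv₀ g _ _
  have hσc : Nat.card σ.range = 4060 * 35942400 := by
    rw [← Nat.card_congr (MonoidHom.ofInjective hσinj).toEquiv]
    exact Cos.Ru.card_eq.trans (by norm_num)
  have hTop : σ.range = autE E :=
    Subgroup.eq_of_le_of_card_ge hσA (by rw [hσc]; exact card_autE hE)
  let e₁ : V ≃ Ω := Equiv.ofBijective Φ hstd.bij
  let ρ : G →* Equiv.Perm V := e₁.symm.permCongrHom.toMonoidHom.comp G.subtype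
  have hρinj : Function.Injective ρ := e₁.symm.permCongrHom.injective.comp Subtype.val_injective
  have hρA : ρ.range ≤ autE E := by
    rintro _ ⟨g, rfl⟩ x z
    show Γ₀.Adj (Φ₀ _) (Φ₀ _) ↔ Γ₀.Adj (Φ₀ x) (Φ₀ z)
    rw [← hstd.adj_iff hstd₀, ← hstd.adj_iff hstd₀]
    show Γ.Adj (e₁ (e₁.symm ((g : Equiv.Perm Ω) (e₁ x)))) (e₁ (e₁.symm ((g : Equiv.Perm Ω) (e₁ z)))) ↔ _
    rw [e₁.apply_symm_apply, e₁.apply_symm_apply]
    exact hinv g _ _
  have hcardG : Nat.card G = 4060 * 35942400 := by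
    have h1 := Nat.card_congr (MulAction.orbitProdStabilizerEquivGroup G a)
    rw [Nat.card_prod, MulAction.orbit_eq_univ, Nat.card_coe_set_eq, Set.ncard_univ, Nat.card_eq_fintype_card,
      hΩ, ← Nat.card_congr ψ.toEquiv, card_H0] at h1
    exact h1.symm
  have hρc : ρ.range = σ.range := Subgroup.eq_of_le_of_card_ge (hρA.trans hTop.ge) (by
    rw [hσc, ← Nat.card_congr (MonoidHom.ofInjective hρinj).toEquiv, hcardG])
  exact ⟨(MonoidHom.ofInjective hρinj).trans ((MulEquiv.subgroupCongr hρc).trans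
    ((MonoidHom.ofInjective hσinj).symm.trans Cos.RuLat.ruEquiv.symm))⟩

end Cfsg.Agent.Spor.RuRec
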