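import Cfsg.Agent.Lib.Spor.RuRec.Hom

/-! The orbits of the stabiliser of a point of the octagon. -/

set_option autoImplicit false
set_option maxRecDepth 100000

open Cfsg.Agent.Spor.Cos Finset
open Cfsg.Agent.Spor.SuzRec (bit maskOf ndB ptsOf chkTree conn_pts tree_lt tree_letters listSet mem_listSet
  card_listSet card_tree nodup_of_ndB bit_maskOf maskOf_eq bit_eq)

namespace Cfsg.Agent.Spor.RuRec

theorem chkOrb_spec {A : Act} {W : List (List ℕ)} {o : ℕ × List (ℕ × ℕ × ℕ)} {k : ℕ} (h : chkOrb A W o k = true) :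
    chkTree A W o = true ∧ (ptsOf o).Nodup ∧ (ptsOf o).length = k ∧ (listSet (ptsOf o) : Finset (Fin A.N)).card = k := by
  simp only [chkOrb, Bool.and_eq_true, beq_iff_eq] at h
  obtain ⟨⟨h1, h2⟩, h3⟩ := h
  exact ⟨h1, nodup_of_ndB h3, h2, by rw [card_listSet (nodup_of_ndB h3) fun q hq => tree_lt h1 hq, h2]⟩

/-- The base point. -/
noncomputable def o : Fin octA.N := ⟨0, by decide +kernel⟩

theorem o_val : (o : ℕ) = 0 := rfl

theorem transitive (p : Fin octA.N) : ∃ y : H0, θ y o = p := by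
  have h := inv_ok
  simp only [chkOct, Bool.and_eq_true] at h
  refine tree_prop (o := (0, octTree)) h.1 (fun q => ∃ y : H0, θ y o = q) ?_ o.2 ⟨1, by rw [map_one]; rfl⟩ p ?_
  · rintro w - q ⟨y, rfl⟩
    exact ⟨ev gH w * y, by rw [map_mul]; rfl⟩
  · rw [← bit_maskOf, Nat.eq_of_beq_eq_true h.2, fullMask_bit]
    exact p.2

/-- The classes of the stabiliser of the base point. -/
noncomputable def octCls : List (ℕ × List (ℕ × ℕ × ℕ)) := [oct10, oct80, oct640, oct1024]

/-- The sizes of the classes. -/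
def octSizes : Fin 4 → ℕ := ![10, 80, 640, 1024]

/-- A class as a set of points. -/
noncomputable def cls (i : Fin 4) : Finset (Fin octA.N) := listSet (ptsOf (octCls.getD i (0, [])))

/-- The checked facts about the classes. -/
structure SubParts : Prop where
  fix : octA.chkFix stW 0 = true
  t10 : chkOrb octA stW oct10 10 = true
  t80 : chkOrb octA stW oct80 80 = true
  t640 : chkOrb octA stW oct640 640 = true
  t1024 : chkOrb octA stW oct1024 1024 = true
  cover : maskOf (0 :: (nearL ++ ptsOf oct1024)) = fullMask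
  nd : (0 :: (nearL ++ ptsOf oct1024)).Nodup

theorem subParts : SubParts := by
  have h := sub_ok
  simp only [chkSub, Bool.and_eq_true] at h
  obtain ⟨⟨⟨⟨⟨⟨h1, h2⟩, h3⟩, h4⟩, h5⟩, h6⟩, h7⟩ := h
  exact ⟨h1, h2, h3, h4, h5, Nat.eq_of_beq_eq_true h6, nodup_of_ndB h7⟩

theorem cls_spec (i : Fin 4) : chkTree octA stW (octCls.getD i (0, [])) = true ∧ #(cls i) = octSizes i := by
  fin_cases i
  exacts [⟨(chkOrb_spec subParts.t10).1, (chkOrb_spec subParts.t10).2.2.2⟩,
    ⟨(chkOrb_spec subParts.t80).1, (chkOrb_spec subParts.t80).2.2.2⟩,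
    ⟨(chkOrb_spec subParts.t640).1, (chkOrb_spec subParts.t640).2.2.2⟩,
    ⟨(chkOrb_spec subParts.t1024).1, (chkOrb_spec subParts.t1024).2.2.2⟩]

theorem mem_cls_or (q : Fin octA.N) : q = o ∨ ∃ i, q ∈ cls i := by
  have hq : (q : ℕ) ∈ 0 :: (nearL ++ ptsOf oct1024) := by
    rw [← bit_maskOf, subParts.cover, fullMask_bit]; exact q.2
  simp only [nearL, List.mem_cons, List.mem_append] at hq
  rcases hq with e | (((e | e) | e) | e)
  · exact Or.inl (Fin.ext e)
  exacts [Or.inr ⟨0, mem_listSet.2 e⟩, Or.inr ⟨1, mem_listSet.2 e⟩, Or.inr ⟨2, mem_listSet.2 e⟩,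
    Or.inr ⟨3, mem_listSet.2 e⟩]

theorem flat_eq : (octCls.map ptsOf).flatten = nearL ++ ptsOf oct1024 := by
  simp only [octCls, List.map_cons, List.map_nil, List.flatten_cons, List.flatten_nil, List.append_nil, nearL,
    List.append_assoc]

theorem cls_disjoint {i j : Fin 4} (hij : i ≠ j) : Disjoint (cls i) (cls j) := by
  have hnd := (List.nodup_cons.1 subParts.nd).2
  rw [← flat_eq, List.nodup_flatten] at hnd
  have hlen : (octCls.map ptsOf).length = 4 := rfl
  have key : ∀ a b : Fin 4, a < b → Disjoint (cls a) (cls b) := by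
    intro a b hab
    rw [disjoint_left]
    intro q ha hb
    have hd := List.pairwise_iff_getElem.1 hnd.2 a b (hlen.symm ▸ a.2) (hlen.symm ▸ b.2) hab
    have e : ∀ c : Fin 4, q ∈ cls c → (q : ℕ) ∈ (octCls.map ptsOf)[(c : ℕ)]'(hlen.symm ▸ c.2) := fun c hc => by
      rw [List.getElem_map, ← List.getD_eq_getElem _ (0, [])]
      exact mem_listSet.1 hc
    exact hd (e a ha) (e b hb)
  rcases lt_or_gt_of_ne hij with h | h
  · exact key i j h
  · exact (key j i h).symm

theorem cls_mem_flat {i : Fin 4} {q : Fin octA.N} (h : q ∈ cls i) : (q : ℕ) ∈ nearL ++ ptsOf oct1024 := by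
  rw [← flat_eq, List.mem_flatten]
  exact ⟨_, List.mem_map.2 ⟨_, getD_mem (show (i : ℕ) < octCls.length from i.2), rfl⟩, mem_listSet.1 h⟩

theorem o_notMem (i : Fin 4) : o ∉ cls i := fun h =>
  (List.nodup_cons.1 subParts.nd).1 (o_val ▸ cls_mem_flat h)

theorem stW_fix {w : List ℕ} (hw : w ∈ stW) : (∀ s ∈ w, s < 6) ∧ θ (ev gH w) o = o := by
  have hl : ∀ s ∈ w, s < 6 := Act.lt_of_lettersOk (n := 6) (tree_letters (chkOrb_spec subParts.t10).1) hw
  refine ⟨hl, Fin.ext ((theta_spec hl _).trans ?_)⟩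
  exact Nat.eq_of_beq_eq_true (List.all_eq_true.1 subParts.fix w hw)

/-- An invariant set avoiding the base is a union of classes. -/
theorem invariant_set (T : Finset (Fin octA.N)) (hinv : ∀ w ∈ stW, ∀ p, p ∈ T ↔ θ (ev gH w) p ∈ T)
    (ho : o ∉ T) : T = (univ.filter fun i => cls i ⊆ T).biUnion cls := by
  refine Subset.antisymm (fun q hq => ?_) fun q hq => ?_
  · rcases mem_cls_or q with rfl | ⟨i, hi⟩
    · exact absurd hq ho
    refine mem_biUnion.2 ⟨i, mem_filter.2 ⟨mem_univ _, fun p hp => ?_⟩, hi⟩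
    have hr : (octCls.getD i (0, [])).1 < octA.N := tree_lt (cls_spec i).1 (List.mem_cons_self ..)
    have key : ∀ t, t ∈ cls i → (t ∈ T ↔ (⟨_, hr⟩ : Fin octA.N) ∈ T) := fun t ht =>
      tree_prop (cls_spec i).1 (fun t => t ∈ T ↔ (⟨_, hr⟩ : Fin octA.N) ∈ T)
        (fun w hw t ht => (hinv w hw t).symm.trans ht) hr Iff.rfl t (mem_listSet.1 ht)
    exact (key p hp).2 ((key q hi).1 hq)
  · obtain ⟨i, hi, e⟩ := mem_biUnion.1 hq
    exact (mem_filter.1 hi).2 e

theorem card_union (s : Finset (Fin 4)) : #(s.biUnion cls) = ∑ i ∈ s, octSizes i := by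
  rw [card_biUnion fun a _ b _ hab => cls_disjoint hab]
  exact sum_congr rfl fun k _ => (cls_spec k).2

/-- The points at distance one to three. -/
noncomputable def near : Finset (Fin octA.N) := listSet nearL

theorem near_eq : near = ({0, 1, 2} : Finset (Fin 4)).biUnion cls := by
  ext q
  simp only [near, mem_listSet, nearL, List.mem_append, mem_biUnion, mem_insert, mem_singleton]
  constructor
  · rintro ((e | e) | e)
    exacts [⟨0, Or.inl rfl, mem_listSet.2 e⟩, ⟨1, Or.inr (Or.inl rfl), mem_listSet.2 e⟩,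
      ⟨2, Or.inr (Or.inr rfl), mem_listSet.2 e⟩]
  · rintro ⟨i, rfl | rfl | rfl, e⟩
    exacts [Or.inl (Or.inl (mem_listSet.1 e)), Or.inl (Or.inr (mem_listSet.1 e)), Or.inr (mem_listSet.1 e)]

theorem card_near : #near = 730 := by rw [near_eq, card_union]; rfl

theorem nearL_lt : ∀ x ∈ nearL, x < octA.N := by
  intro x hx
  simp only [nearL, List.mem_append] at hx
  rcases hx with (e | e) | e
  exacts [tree_lt (chkOrb_spec subParts.t10).1 e, tree_lt (chkOrb_spec subParts.t80).1 e,
    tree_lt (chkOrb_spec subParts.t640).1 e]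

theorem nearL_nodup : nearL.Nodup := (List.nodup_append.1 (List.nodup_cons.1 subParts.nd).2).1

theorem clW_facts : clW.length = 10 ∧ ∀ w ∈ clW, ∀ s ∈ w, s < 6 := by
  have h := nbs_ok
  simp only [chkNbs, Bool.and_eq_true] at h
  exact ⟨Nat.eq_of_beq_eq_true h.1.1, fun w hw => Act.lt_of_lettersOk h.1.2 hw⟩

theorem clW_lt {k : ℕ} (hk : k < 10) : ∀ s ∈ clW.getD k [], s < 6 :=
  clW_facts.2 _ (getD_mem (clW_facts.1.symm ▸ hk))

/-- The points collinear to the base. -/
noncomputable def cp (k : Fin 10) : Fin octA.N := θ (ev gH (clW.getD k [])) o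

theorem cp_val (k : Fin 10) : (cp k : ℕ) = octA.go (clW.getD k []) 0 := theta_spec (clW_lt k.2) _

theorem cp_injective : Function.Injective cp := by
  intro i j e
  have hc := count_ok
  simp only [chkCount, Bool.and_eq_true] at hc
  have hnd := nodup_of_ndB hc.1.2
  have hi : i.1 < clW.length := clW_facts.1.symm ▸ i.2
  have hj : j.1 < clW.length := clW_facts.1.symm ▸ j.2
  have e' := congrArg Fin.val e
  rw [cp_val, cp_val, List.getD_eq_getElem _ _ hi, List.getD_eq_getElem _ _ hj] at e'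
  have hi' : i.1 < (clW.map fun w => octA.go w 0).length := by rw [List.length_map]; exact hi
  have hj' : j.1 < (clW.map fun w => octA.go w 0).length := by rw [List.length_map]; exact hj
  exact Fin.ext ((hnd.getElem_inj_iff (hi := hi') (hj := hj')).1 (by rw [List.getElem_map, List.getElem_map]; exact e'))

theorem cp_range (q : Fin octA.N) : (q : ℕ) ∈ ptsOf oct10 ↔ ∃ k, cp k = q := by
  have hc := count_ok
  simp only [chkCount, Bool.and_eq_true] at hc
  rw [← maskOf_eq.1 (Nat.eq_of_beq_eq_true hc.1.1.2) q, List.mem_map]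
  constructor
  · rintro ⟨w, hw, e⟩
    obtain ⟨i, hi, rfl⟩ := List.getElem_of_mem hw
    refine ⟨⟨i, clW_facts.1 ▸ hi⟩, Fin.ext ?_⟩
    rw [cp_val, List.getD_eq_getElem _ _ hi]
    exact e
  · rintro ⟨k, rfl⟩
    exact ⟨_, getD_mem (clW_facts.1.symm ▸ k.2), (cp_val k).symm⟩

/-- The points at distance one to three from an image of the base. -/
noncomputable def nb (y : H0) : Finset (Fin octA.N) := near.image (θ y)

theorem mem_nb {y : H0} {p : Fin octA.N} : p ∈ nb y ↔ θ y⁻¹ p ∈ near := by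
  rw [nb, mem_image]
  constructor
  · rintro ⟨q, hq, rfl⟩
    rwa [theta_self_inv]
  · exact fun hp => ⟨_, hp, theta_inv_self y p⟩

theorem nb_one : nb 1 = near := by
  rw [nb, map_one, Equiv.Perm.coe_one, image_id]

theorem nb_word {w : List ℕ} (hw : ∀ s ∈ w, s < 6) {l : List ℕ} (e : nearL.map (fun x => octA.go w x) = l) :
    nb (ev gH w) = listSet l ∧ l.Nodup ∧ ∀ x ∈ l, x < octA.N := by
  subst e
  refine ⟨?_, ?_, ?_⟩
  · ext p
    rw [mem_listSet, List.mem_map, nb, mem_image]
    constructor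
    · rintro ⟨q, hq, rfl⟩
      exact ⟨q, mem_listSet.1 hq, (theta_spec hw q).symm⟩
    · rintro ⟨x, hx, hx'⟩
      exact ⟨⟨x, nearL_lt x hx⟩, mem_listSet.2 hx, Fin.ext ((theta_spec hw _).trans hx')⟩
  · refine List.Nodup.map_on (fun x hx y hy hxy => ?_) nearL_nodup
    exact congrArg Fin.val ((θ (ev gH w)).injective (a₁ := ⟨x, nearL_lt x hx⟩) (a₂ := ⟨y, nearL_lt y hy⟩)
      (Fin.ext (by rw [theta_spec hw, theta_spec hw]; exact hxy)))
  · intro x hx
    obtain ⟨z, hz, rfl⟩ := List.mem_map.1 hx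
    exact (theta_spec hw ⟨z, nearL_lt z hz⟩) ▸ (θ _ _).2

theorem nb_cp (k : Fin 10) : nb (ev gH (clW.getD k [])) = listSet (nbs.getD k []) ∧ (nbs.getD k []).Nodup ∧
    ∀ x ∈ nbs.getD k [], x < octA.N := by
  have hc := nbs_ok
  simp only [chkNbs, Bool.and_eq_true, List.all_eq_true, List.mem_range] at hc
  exact nb_word (clW_lt k.2) (beq_iff_eq.1 (hc.2 k k.2))

/-- The points of some bits. -/
noncomputable def maskSet (m : ℕ) : Finset (Fin octA.N) := univ.filter fun p => bit m p = true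

theorem listSet_mask (l : List ℕ) : (listSet l : Finset (Fin octA.N)) = maskSet (maskOf l) := by
  ext p
  simp [maskSet, mem_listSet, bit_maskOf]

/-- The points common to two sets. -/
theorem card_inter_list {m : ℕ} {l : List ℕ} (hn : l.Nodup) (hl : ∀ x ∈ l, x < octA.N) :
    #(maskSet m ∩ listSet l) = (l.filter fun x => bit m x).length := by
  rw [← card_listSet (n := octA.N) (hn.filter _) fun q hq => hl q (List.mem_of_mem_filter hq)]
  congr 1
  ext p
  simp only [maskSet, mem_inter, mem_filter, mem_univ, true_and, mem_listSet, List.mem_filter]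
  exact and_comm

end Cfsg.Agent.Spor.RuRec
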