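import Cfsg.Agent.Lib.Spor.RuRec.Sets

/-! The sets kept by the five-group and meeting every ten collinear points in five or four points. -/

set_option autoImplicit false
set_option maxRecDepth 100000

open Cfsg.Agent.Spor.Cos Finset
open Cfsg.Agent.Spor.SuzRec (bit maskOf ptsOf chkTree bit_maskOf maskOf_eq bit_eq STree tree_lt)

namespace Cfsg.Agent.Spor.RuRec

theorem bit_zero (p : ℕ) : bit 0 p = false := by rw [bit_eq, Nat.zero_testBit]

theorem bit_ins (v m p : ℕ) : bit (Nat.lor (1 <<< v) m) p = (decide (v = p) || bit m p) := by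
  rw [bit_eq, bit_eq, show Nat.lor (1 <<< v) m = 1 <<< v ||| m from rfl, Nat.testBit_or, Nat.one_shiftLeft,
    Nat.testBit_two_pow]

/-- A search tree finds every solution. -/
theorem search_sound {eqs : List (List ℕ)} (val : ℕ → Prop) [DecidablePred val] {sols : List ℕ}
    (hlen : ∀ i < eqs.length, (eqs.getD i []).length = 10)
    (heq : ∀ i < eqs.length, ((eqs.getD i []).filter fun j => decide (val j)).length = if val i then 5 else 4) :
    ∀ (t : STree) (ones zeros : ℕ), chkSearch eqs sols t ones zeros = true → (∀ j, bit ones j = true → val j) →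
      (∀ j, bit zeros j = true → ¬ val j) → ∃ s ∈ sols, ∀ j < 75, val j ↔ bit s j = true
  | .bad i, ones, zeros, hc, ho, hz => by
    have hc' : (Nat.blt i eqs.length && badB (eqs.getD i []) i ones zeros) = true := hc
    simp only [badB, force_eq, Bool.and_eq_true, Bool.or_eq_true] at hc'
    obtain ⟨hi, h1, h2⟩ := hc'
    have hi' : i < eqs.length := Nat.le_of_ble_eq_true hi
    have he := heq i hi'
    have hl := hlen i hi'
    generalize eqs.getD i [] = e at he hl h1 h2
    have hlo : (e.filter fun j => bit ones j).length ≤ (e.filter fun j => decide (val j)).length :=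
      (List.monotone_filter_right e fun j hj => decide_eq_true (ho j hj)).length_le
    have hhi : (e.filter fun j => bit zeros j).length ≤ (e.filter fun j => !decide (val j)).length :=
      (List.monotone_filter_right e fun j hj => by simp [hz j hj]).length_le
    have hsum : (e.filter fun j => decide (val j)).length + (e.filter fun j => !decide (val j)).length = 10 := by
      rw [← List.countP_eq_length_filter, ← List.countP_eq_length_filter]
      have := List.length_eq_countP_add_countP (fun j => decide (val j)) (l := e)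
      simp only [decide_eq_true_eq] at this
      rw [← hl, this]
      congr 1
      exact List.countP_congr fun j _ => by simp
    exfalso
    by_cases hv : val i
    · rw [if_pos hv] at he
      rcases h1 with (h1 | h1) | h1
      · exact hz i h1 hv
      · have : 5 < (e.filter fun j => bit ones j).length := Nat.le_of_ble_eq_true h1
        omega
      · have : 5 < (e.filter fun j => bit zeros j).length := Nat.le_of_ble_eq_true h1
        omega
    · rw [if_neg hv] at he
      rcases h2 with (h2 | h2) | h2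
      · exact hv (ho i h2)
      · have : 4 < (e.filter fun j => bit ones j).length := Nat.le_of_ble_eq_true h2
        omega
      · have : 6 < (e.filter fun j => bit zeros j).length := Nat.le_of_ble_eq_true h2
        omega
  | .sol, ones, zeros, hc, ho, hz => by
    have hc' : ((sols.any fun m => Nat.beq ones m) && Nat.beq (Nat.lor ones zeros) (2 ^ 75 - 1)) = true := hc
    rw [Bool.and_eq_true, List.any_eq_true] at hc'
    obtain ⟨⟨s, hs, hb⟩, hfull⟩ := hc'
    refine ⟨s, hs, fun j hj => ?_⟩
    have e := Nat.eq_of_beq_eq_true hb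
    constructor
    · intro hv
      have h2 : bit (Nat.lor ones zeros) j = true := by
        rw [Nat.eq_of_beq_eq_true hfull, bit_eq, Nat.testBit_two_pow_sub_one]
        exact decide_eq_true hj
      rw [bit_eq, show Nat.lor ones zeros = ones ||| zeros from rfl, Nat.testBit_or, Bool.or_eq_true] at h2
      rcases h2 with h2 | h2
      · rw [← e, bit_eq]; exact h2
      · exact absurd hv (hz j (by rw [bit_eq]; exact h2))
    · intro h2
      exact ho j (by rw [e]; exact h2)
  | .node v tl tr, ones, zeros, hc, ho, hz => by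
    have hc' : (Nat.blt v 75 && force (Nat.lor (1 <<< v) zeros) (fun z => chkSearch eqs sols tl ones z) &&
        force (Nat.lor (1 <<< v) ones) (fun o => chkSearch eqs sols tr o zeros)) = true := hc
    rw [force_eq, force_eq, Bool.and_eq_true, Bool.and_eq_true] at hc'
    by_cases hv : val v
    · refine search_sound val hlen heq tr _ _ hc'.2 (fun j hj => ?_) hz
      rw [bit_ins, Bool.or_eq_true, decide_eq_true_eq] at hj
      rcases hj with rfl | hj
      exacts [hv, ho j hj]
    · refine search_sound val hlen heq tl _ _ hc'.1.2 ho (fun j hj => ?_)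
      rw [bit_ins, Bool.or_eq_true, decide_eq_true_eq] at hj
      rcases hj with rfl | hj
      exacts [hv, hz j hj]

/-- The parts of the check of the orbits of the five-group. -/
structure OrbParts : Prop where
  len : orbs.length = 75
  trees : ∀ o ∈ orbs, chkTree octA pW o = true
  cover : maskOf (orbs.flatMap ptsOf) = fullMask
  eqLen : eqs.length = 75
  repLen : repW.length = 75
  repLt : Act.lettersOk 6 repW = true
  rep : ∀ i < 75, octA.go (repW.getD i []) 0 = (orbs.getD i (0, [])).1 ∧ (eqs.getD i []).length = 10 ∧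
    ∀ k < 10, (eqs.getD i []).getD k 0 < 75 ∧
      octA.go (repW.getD i []) (octA.go (clW.getD k []) 0) ∈
        ptsOf (orbs.getD ((eqs.getD i []).getD k 0) (0, []))

theorem orbParts : OrbParts := by
  have h := orbs_ok
  simp only [chkOrbs, force_eq, Bool.and_eq_true, List.all_eq_true, List.mem_range] at h
  obtain ⟨⟨⟨⟨⟨⟨⟨-, h2⟩, h3⟩, h4⟩, h5⟩, h6⟩, h7⟩, h8⟩ := h
  refine ⟨Nat.eq_of_beq_eq_true h2, h3, Nat.eq_of_beq_eq_true h4, Nat.eq_of_beq_eq_true h5,
    Nat.eq_of_beq_eq_true h6, h7, fun i hi => ?_⟩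
  obtain ⟨⟨a1, a2⟩, a3⟩ := h8 i hi
  exact ⟨Nat.eq_of_beq_eq_true a1, Nat.eq_of_beq_eq_true a2,
    fun k hk => ⟨Nat.le_of_ble_eq_true (a3 k hk).1, bit_maskOf.1 (a3 k hk).2⟩⟩

/-- The five-group's generators. -/
noncomputable def fiveGens : List H0 := [ev gH aW, ev gH bW]

theorem ev_mem_fiveGens {w : List ℕ} (hw : w ∈ pW) : ev gH w ∈ fiveGens := by
  simp only [pW, List.mem_cons, List.not_mem_nil, or_false] at hw
  rcases hw with rfl | rfl <;> simp [fiveGens]

theorem orbit_val (Rp : Fin octA.N → Prop) (hinv : ∀ y ∈ fiveGens, ∀ p, Rp (θ y p) ↔ Rp p)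
    (p : Fin octA.N) {i : ℕ} (hi : i < 75) (hp : (p : ℕ) ∈ ptsOf (orbs.getD i (0, []))) :
    Rp p ↔ ∃ hlt : (orbs.getD i (0, [])).1 < octA.N, Rp ⟨_, hlt⟩ := by
  have ho := orbParts
  have hm : orbs.getD i (0, []) ∈ orbs := getD_mem (ho.len.symm ▸ hi)
  have hlt := tree_lt (ho.trees _ hm) (List.mem_cons_self ..)
  refine Iff.trans ?_ ⟨fun hr => ⟨hlt, hr⟩, fun ⟨_, hr⟩ => hr⟩
  exact tree_prop (ho.trees _ hm) (fun q => Rp q ↔ Rp ⟨_, hlt⟩)
    (fun w hw q hq => (hinv _ (ev_mem_fiveGens hw) q).trans hq) hlt Iff.rfl p hp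

/-- A set kept by the five-group with the counts is a translate of one of the two sets. -/
theorem search (Rp : Fin octA.N → Prop) [DecidablePred Rp]
    (hinv : ∀ y ∈ fiveGens, ∀ p, Rp (θ y p) ↔ Rp p)
    (hfive : ∀ y : H0, #(univ.filter fun k : Fin 10 => Rp (θ y (cp k))) = if Rp (θ y o) then 5 else 4) :
    ∃ (y : H0) (l : List ℕ), (l = setRL ∨ l = setBL) ∧ ∀ p, Rp (θ y p) ↔ (p : ℕ) ∈ l := by
  classical
  have ho := orbParts
  let val : ℕ → Prop := fun i => ∃ hlt : (orbs.getD i (0, [])).1 < octA.N, Rp ⟨_, hlt⟩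
  have hcl : ∀ i < eqs.length,
      ((eqs.getD i []).filter fun j => decide (val j)).length = if val i then 5 else 4 := by
    intro i hi
    rw [ho.eqLen] at hi
    obtain ⟨hr, hl, hk⟩ := ho.rep i hi
    set y := ev gH (repW.getD i [])
    have hlt : ∀ s ∈ repW.getD i [], s < 6 := Act.lt_of_lettersOk ho.repLt (getD_mem (by rw [ho.repLen]; exact hi))
    have hy : ∀ q, (θ y q : ℕ) = octA.go (repW.getD i []) q := fun q => theta_spec hlt q
    have hvi : val i ↔ Rp (θ y o) :=
      (orbit_val Rp hinv _ hi (by rw [hy]; exact hr ▸ List.mem_cons_self ..)).symm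
    have hvk : ∀ k : Fin 10, val ((eqs.getD i []).getD k 0) ↔ Rp (θ y (cp k)) := fun k =>
      (orbit_val Rp hinv _ (hk k k.2).1 (by rw [hy, cp_val]; exact (hk k k.2).2)).symm
    rw [if_congr hvi rfl rfl, ← hfive y]
    have e : eqs.getD i [] = (List.finRange 10).map fun k : Fin 10 => (eqs.getD i []).getD k 0 := by
      refine List.ext_getElem (by rw [hl, List.length_map, List.length_finRange]) fun n h1 h2 => ?_
      rw [List.getElem_map, List.getElem_finRange]
      exact (List.getD_eq_getElem _ _ h1).symm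
    conv_lhs => rw [e]
    rw [List.filter_map, List.length_map, ← List.toFinset_card_of_nodup ((List.nodup_finRange 10).filter _)]
    congr 1
    ext k
    simp only [List.mem_toFinset, List.mem_filter, List.mem_finRange, true_and, mem_filter, mem_univ,
      Function.comp_apply, decide_eq_true_eq]
    exact hvk k
  obtain ⟨s, hs, hv⟩ := search_sound val (fun i hi => (ho.rep i (ho.eqLen ▸ hi)).2.1) hcl cert 0 0 search_ok
    (fun j hj => by rw [bit_zero] at hj; cases hj) (fun j hj => by rw [bit_zero] at hj; cases hj)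
  have hsols := sols_ok
  simp only [chkSols, force_eq, Bool.and_eq_true, List.all_eq_true, List.mem_range] at hsols
  obtain ⟨⟨⟨hn1, hn2⟩, hlet⟩, hsol⟩ := hsols
  have hn1' : solL.length = 8 := Nat.eq_of_beq_eq_true hn1
  have hn2' : solW.length = 8 := Nat.eq_of_beq_eq_true hn2
  obtain ⟨k, hk, rfl⟩ := List.getElem_of_mem hs
  have hk8 : k < 8 := hn1' ▸ hk
  have hm := maskOf_eq.1 (Nat.eq_of_beq_eq_true (hsol k hk8))
  replace hv : ∀ j < 75, val j ↔ bit (solL.getD k 0) j = true := by
    rw [List.getD_eq_getElem _ _ hk]; exact hv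
  generalize solL.getD k 0 = s at hm hv
  set bw := solW.getD k (false, [])
  have hw : ∀ t ∈ bw.2, t < 6 := Act.lt_of_lettersOk hlet (List.mem_map.2 ⟨_, getD_mem (hn2'.symm ▸ hk8), rfl⟩)
  have hset := sets_ok
  simp only [chkSets, force_eq, Bool.and_eq_true, List.all_eq_true] at hset
  set l := bif bw.1 then setRL else setBL
  have hl : l = setRL ∨ l = setBL := by
    cases hb : bw.1
    · exact Or.inr (by simp [l, hb])
    · exact Or.inl (by simp [l, hb])
  have hllt : ∀ q ∈ l, q < octA.N := fun q hq => by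
    rcases hl with e | e <;> rw [e] at hq
    · exact Nat.le_of_ble_eq_true (hset.1.1.2 q hq)
    · exact Nat.le_of_ble_eq_true (hset.1.2 q hq)
  refine ⟨ev gH bw.2, l, hl, fun p => ?_⟩
  have hiff := hm (θ (ev gH bw.2) p)
  rw [List.mem_map] at hiff
  obtain ⟨i, hi, hpi⟩ : ∃ i < 75, (θ (ev gH bw.2) p : ℕ) ∈ ptsOf (orbs.getD i (0, [])) := by
    have hp : (θ (ev gH bw.2) p : ℕ) ∈ orbs.flatMap ptsOf := by
      rw [← bit_maskOf, ho.cover, fullMask_bit]; exact (θ _ p).2
    obtain ⟨o, hmo, hpo⟩ := List.mem_flatMap.1 hp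
    obtain ⟨i, hi, rfl⟩ := List.getElem_of_mem hmo
    exact ⟨i, ho.len ▸ hi, by rw [List.getD_eq_getElem _ _ hi]; exact hpo⟩
  constructor
  · intro hr
    have hvi : bit s i = true := (hv i hi).1 ((orbit_val Rp hinv _ hi hpi).1 hr)
    obtain ⟨x, hx, e⟩ := hiff.1 (List.mem_flatMap.2 ⟨i, List.mem_range.2 hi, by rw [hvi]; exact hpi⟩)
    have e' : θ (ev gH bw.2) ⟨x, hllt x hx⟩ = θ (ev gH bw.2) p := Fin.ext ((theta_spec hw _).trans e)
    rw [← congrArg Fin.val ((θ (ev gH bw.2)).injective e')]
    exact hx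
  · intro hp
    obtain ⟨j, hj, hpj⟩ := List.mem_flatMap.1 (hiff.2 ⟨p, hp, (theta_spec hw p).symm⟩)
    rw [List.mem_range] at hj
    cases hb : bit s j
    · rw [hb] at hpj; simp at hpj
    · rw [hb] at hpj
      exact (orbit_val Rp hinv _ hj hpj).2 ((hv j hj).2 hb)

end Cfsg.Agent.Spor.RuRec
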