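import Cfsg.Agent.Lib.Spor.RuRec.Oct
import Cfsg.Agent.Lib.Spor.RuRec.CheckFp
import Cfsg.Agent.Lib.Spor.RuRec.CheckSearch

/-! The two sets of points and their stabilisers. -/

set_option autoImplicit false
set_option maxRecDepth 100000

open Cfsg.Agent.Spor.Cos Finset
open Cfsg.Agent.Spor.SuzRec (bit maskOf ptsOf chkTree bit_maskOf maskOf_eq mem_listSet card_listSet listSet
  nodup_of_ndB bit_eq)

namespace Cfsg.Agent.Spor.RuRec

/-- The stabiliser of a set of points. -/
def stSet (l : List ℕ) : Subgroup H0 where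
  carrier := {y | ∀ p : Fin octA.N, (θ y p : ℕ) ∈ l ↔ (p : ℕ) ∈ l}
  one_mem' := fun p => by rw [map_one]; rfl
  mul_mem' := fun {x y} hx hy p => by rw [map_mul, Equiv.Perm.mul_apply]; exact (hx _).trans (hy p)
  inv_mem' := fun {x} hx p => by
    rw [← hx (θ x⁻¹ p), theta_inv_self]

theorem mem_stSet {l : List ℕ} {y : H0} : y ∈ stSet l ↔ ∀ p : Fin octA.N, (θ y p : ℕ) ∈ l ↔ (p : ℕ) ∈ l := Iff.rfl

theorem bitsOf_congr {m m' : ℕ} : ∀ (l l' : List ℕ), l.length = l'.length →
    (∀ k < l.length, bit m (l.getD k 0) = bit m' (l'.getD k 0)) → bitsOf m l = bitsOf m' l'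
  | [], [], _, _ => rfl
  | [], _ :: _, h, _ => by simp at h
  | _ :: _, [], h, _ => by simp at h
  | x :: l, x' :: l', h, hb => by
    show force (bitsOf m l) (fun r' => 2 * r' + bif bit m x then 1 else 0) =
      force (bitsOf m' l') (fun r' => 2 * r' + bif bit m' x' then 1 else 0)
    rw [force_eq, force_eq, bitsOf_congr l l' (by simpa using h) fun k hk => by
      simpa using hb (k + 1) (by simp; omega)]
    have h0 : bit m x = bit m' x' := by simpa using hb 0 (by simp)
    rw [h0]

theorem inc_spec : ∀ (l : List ℕ) (b : ℕ), incFrom l b = true → l.Pairwise (· < ·) ∧ ∀ x ∈ l, b ≤ x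
  | [], _, _ => ⟨List.Pairwise.nil, by simp⟩
  | v :: l, b, h => by
    have h' : (force v fun v' => Nat.ble b v' && force (v' + 1) (incFrom l)) = true := h
    rw [force_eq, force_eq, Bool.and_eq_true] at h'
    obtain ⟨i1, i2⟩ := inc_spec l _ h'.2
    refine ⟨List.pairwise_cons.2 ⟨fun x hx => i2 x hx, i1⟩, fun x hx => ?_⟩
    have hb : b ≤ v := Nat.le_of_ble_eq_true h'.1
    rcases List.mem_cons.1 hx with rfl | hx
    · exact hb
    · exact le_trans hb (le_of_lt (i2 x hx))

/-- Many different translates make a small stabiliser. -/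
theorem card_stSet_le {base : List ℕ} {A : List (ℕ × ℕ)} {Ms : List ℕ} {B : List (List ℕ)} {P : List ℕ}
    {Z : List (List ℕ)} {L : List (ℕ × ℕ)} {n : ℕ} (h : chkFp base A Ms B P Z L n = true)
    (hA : ∀ i < A.length, chkFpA A Ms i = true) : n * Nat.card (stSet base) ≤ 35942400 := by
  simp only [chkFp, Bool.and_eq_true, List.all_eq_true, List.mem_range] at h
  obtain ⟨⟨⟨⟨⟨⟨⟨⟨⟨h1, h2⟩, h3⟩, h4⟩, h5⟩, h6⟩, h7⟩, h8⟩, h9⟩, h10⟩ := h
  have hMl : Ms.length = A.length + 1 := Nat.eq_of_beq_eq_true h1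
  have hsem : ∀ i < Ms.length, ∃ a : H0, ∀ q : Fin octA.N, bit (Ms.getD i 0) q = true ↔ (θ a q : ℕ) ∈ base := by
    intro i
    induction i using Nat.strong_induction_on with
    | _ i ih =>
      intro hi
      cases i with
      | zero =>
        exact ⟨1, fun q => by rw [Nat.eq_of_beq_eq_true h2, bit_maskOf, map_one]; rfl⟩
      | succ j =>
        have hj : j < A.length := by omega
        have hc := hA j hj
        simp only [chkFpA, force_eq, Bool.and_eq_true] at hc
        obtain ⟨⟨hp, hs⟩, hm⟩ := hc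
        have hp' : (A.getD j (0, 0)).1 ≤ j := Nat.le_of_ble_eq_true hp
        have hs' : (A.getD j (0, 0)).2 < 6 := Nat.le_of_ble_eq_true hs
        obtain ⟨a, ha⟩ := ih (A.getD j (0, 0)).1 (by omega) (by omega)
        refine ⟨a * ev gH [(A.getD j (0, 0)).2], fun q => ?_⟩
        have hlt : ∀ s ∈ [(A.getD j (0, 0)).2], s < 6 := by simpa using hs'
        rw [Nat.eq_of_beq_eq_true hm, bit_maskOf, List.mem_filter, List.mem_range, map_mul, Equiv.Perm.mul_apply,
          ← ha, theta_spec hlt, Act.go_cons, Act.go_nil]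
        exact and_iff_right q.2
  have hZl : Z.length = B.length := Nat.eq_of_beq_eq_true h6
  have hL : L.length = n := Nat.eq_of_beq_eq_true h8
  have hLi : ∀ k : Fin L.length, (L.getD k (0, 0)).1 < Ms.length ∧ (L.getD k (0, 0)).2 < B.length := fun k => by
    obtain ⟨a, b⟩ := h9 _ (getD_mem k.2)
    exact ⟨Nat.le_of_ble_eq_true a, Nat.le_of_ble_eq_true b⟩
  choose a ha using fun k : Fin L.length => hsem _ (hLi k).1
  let y : Fin L.length → H0 := fun k => a k * ev gH (B.getD (L.getD k (0, 0)).2 [])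
  have hinj : Function.Injective fun k => (((y k)⁻¹ : H0) : H0 ⧸ stSet base) := by
    intro k k' e
    rw [QuotientGroup.eq, inv_inv, mem_stSet] at e
    by_contra hne
    obtain ⟨hpw, -⟩ := inc_spec _ _ h10
    have heq : bitsOf (Ms.getD (L.getD k (0, 0)).1 0) (Z.getD (L.getD k (0, 0)).2 []) =
        bitsOf (Ms.getD (L.getD k' (0, 0)).1 0) (Z.getD (L.getD k' (0, 0)).2 []) := by
      rw [← beq_iff_eq.1 (h7 _ (hLi k).2), ← beq_iff_eq.1 (h7 _ (hLi k').2)]
      refine bitsOf_congr _ _ (by simp) fun l hl => ?_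
      rw [List.length_map] at hl
      have hp : P.getD l 0 < octA.N := Nat.le_of_ble_eq_true (h5 _ (getD_mem hl))
      have hget : ∀ g : ℕ → ℕ, (P.map g).getD l 0 = g (P.getD l 0) := fun g => by
        rw [List.getD_eq_getElem _ _ (by simpa using hl), List.getElem_map, List.getD_eq_getElem _ _ hl]
      rw [hget, hget]
      have key : ∀ j : Fin L.length,
          bit (Ms.getD (L.getD j (0, 0)).1 0) (octA.go (B.getD (L.getD j (0, 0)).2 []) (P.getD l 0)) = true ↔
            (θ (y j) ⟨_, hp⟩ : ℕ) ∈ base := fun j => by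
        rw [map_mul, Equiv.Perm.mul_apply, ← ha j,
          theta_spec (Act.lt_of_lettersOk h4 (getD_mem (hLi j).2))]
      rw [Bool.eq_iff_iff, key, key]
      have := e (θ (y k') ⟨_, hp⟩)
      rwa [← Equiv.Perm.mul_apply, ← map_mul, inv_mul_cancel_right] at this
    rcases Nat.lt_trichotomy k k' with hlt | he | hlt
    · have := List.pairwise_iff_getElem.1 hpw k k' (by simp) (by simp) hlt
      rw [List.getElem_map, List.getElem_map, ← List.getD_eq_getElem _ (0, 0) k.2,
        ← List.getD_eq_getElem _ (0, 0) k'.2, heq] at this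
      exact lt_irrefl _ this
    · exact hne (Fin.ext he)
    · have := List.pairwise_iff_getElem.1 hpw k' k (by simp) (by simp) hlt
      rw [List.getElem_map, List.getElem_map, ← List.getD_eq_getElem _ (0, 0) k.2,
        ← List.getD_eq_getElem _ (0, 0) k'.2, heq] at this
      exact lt_irrefl _ this
  have hle := Nat.card_le_card_of_injective _ hinj
  rw [Nat.card_fin, hL, ← Subgroup.index_eq_card] at hle
  rw [← card_H0, ← Subgroup.card_mul_index (stSet base), mul_comm]
  exact Nat.mul_le_mul_left _ hle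

/-- The stabiliser of the first set. -/
noncomputable def stR : Subgroup H0 := stSet setRL

theorem card_stR_le : Nat.card stR ≤ 15600 := by
  have h : 2304 * Nat.card stR ≤ 35942400 := card_stSet_le fpR_ok fpRA_ok
  omega

theorem card_stB_lt : Nat.card (stSet setBL) < 15600 := by
  have h : 2305 * Nat.card (stSet setBL) ≤ 35942400 := card_stSet_le fpB_ok fpBA_ok
  omega

/-- The invariant set of points. -/
def InR (p : Fin octA.N) : Prop := (p : ℕ) ∈ setRL

theorem sets_parts : setRL.length = 780 ∧ setRL.Nodup ∧ (∀ q ∈ setRL, q < octA.N) ∧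
    ∀ w ∈ tW, (∀ s ∈ w, s < 6) ∧ ev gH w ∈ stR := by
  have h := sets_ok
  simp only [chkSets, force_eq, Bool.and_eq_true, List.all_eq_true, beq_iff_eq] at h
  obtain ⟨⟨⟨⟨h1, h2⟩, h3⟩, -⟩, h5, h6⟩ := h
  have hlt : ∀ q ∈ setRL, q < octA.N := fun q hq => Nat.le_of_ble_eq_true (h3 q hq)
  refine ⟨h1, nodup_of_ndB h2, hlt, fun w hw => ?_⟩
  have hl : ∀ s ∈ w, s < 6 := Act.lt_of_lettersOk h5 hw
  have hmap : ∀ q, q ∈ setRL.map (fun q => octA.go w q) ↔ q ∈ setRL := maskOf_eq.1 (Nat.eq_of_beq_eq_true (h6 w hw))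
  refine ⟨hl, fun p => ?_⟩
  rw [← hmap (θ (ev gH w) p), List.mem_map]
  constructor
  · rintro ⟨x, hx, e⟩
    have e' : θ (ev gH w) ⟨x, hlt x hx⟩ = θ (ev gH w) p := Fin.ext ((theta_spec hl _).trans e)
    rw [← congrArg Fin.val ((θ (ev gH w)).injective e')]
    exact hx
  · exact fun hp => ⟨p, hp, (theta_spec hl p).symm⟩

theorem card_InR : Nat.card {p : Fin octA.N // InR p} = 780 := by
  classical
  rw [Nat.card_eq_fintype_card, Fintype.card_subtype,
    show (univ.filter fun p : Fin octA.N => InR p) = listSet setRL from Finset.ext fun p => ((mem_filter).trans (and_iff_right (mem_univ p))).trans mem_listSet.symm,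
    card_listSet sets_parts.2.1 sets_parts.2.2.1, sets_parts.1]

end Cfsg.Agent.Spor.RuRec
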