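import Cfsg.Agent.Lib.Spor.RuRec.Local
import Cfsg.Agent.Lib.Spor.RuRec.Geo
import Cfsg.Agent.Lib.Spor.RuRec.Five
import Cfsg.Agent.Lib.Spor.RuRec.Conj

/-! The graph of a rank three group of degree 4060 with point stabiliser `²F₄(2)` is determined. -/

set_option autoImplicit false
set_option maxRecDepth 100000
set_option maxHeartbeats 1000000

open Cfsg.Agent.Spor.Cos Finset
open Cfsg.Agent.Spor.SuzRec (ptsOf)

namespace Cfsg.Agent.Spor.RuRec

/-- An orbit of the point stabiliser as cosets of a point stabiliser in it. -/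
theorem exists_equivariant {Ω : Type*} {N : ℕ} (π : H0 →* Equiv.Perm (Fin N)) (r : H0 →* Equiv.Perm Ω) (o : Fin N)
    (x : Ω) (htr : ∀ p, ∃ y, π y o = p) (hst : ∀ y, π y o = o ↔ r y x = x) :
    ∃ φ : Fin N → Ω, Function.Injective φ ∧ (∀ y p, φ (π y p) = r y (φ p)) ∧ φ o = x := by
  choose w hw using htr
  have key : ∀ y z, π y o = π z o ↔ r y x = r z x := by
    intro y z
    have h1 := hst (z⁻¹ * y)
    rw [map_mul, map_mul, map_inv, map_inv, Equiv.Perm.mul_apply, Equiv.Perm.mul_apply, Equiv.Perm.inv_eq_iff_eq,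
      Equiv.Perm.inv_eq_iff_eq] at h1
    exact ⟨fun e => h1.1 e, fun e => h1.2 e⟩
  refine ⟨fun p => r (w p) x, fun p q e => ?_, fun y p => ?_, (hst _).1 (hw o)⟩
  · rw [← hw p, ← hw q]; exact (key _ _).2 e
  · show r (w (π y p)) x = r y (r (w p) x)
    rw [← Equiv.Perm.mul_apply, ← map_mul]
    exact (key _ _).1 (by rw [hw, map_mul, Equiv.Perm.mul_apply, hw])

section

variable {Ω : Type*} [Fintype Ω] [DecidableEq Ω]

theorem outerV_perm {Γ : SimpleGraph Ω} [DecidableRel Γ.Adj] {a : Ω} {r : H0 →* Equiv.Perm Ω} {l m : ℕ}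
    (hA : Around Γ a r l m) (y : H0) {u : Ω} (hu : u ∈ outerV Γ a) : r y u ∈ outerV Γ a := by
  rw [mem_outerV] at hu ⊢
  refine ⟨fun e => hu.1 ((r y).injective (e.trans (hA.fix y).symm)), ?_⟩
  rw [← hA.fix y, hA.inv]
  exact hu.2

/-- The stabiliser in the point stabiliser of a vertex, seen in it. -/
noncomputable def stabIn (G : Subgroup (Equiv.Perm Ω)) (a : Ω) (ψ : H0 ≃* MulAction.stabilizer G a) (x : Ω) :
    Subgroup H0 := (MulAction.stabilizer (MulAction.stabilizer G a) x).comap ψ.toMonoidHom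

/-- The action on the vertices. -/
noncomputable def actOn (G : Subgroup (Equiv.Perm Ω)) (a : Ω) (ψ : H0 ≃* MulAction.stabilizer G a) :
    H0 →* Equiv.Perm Ω := (G.subtype.comp (MulAction.stabilizer G a).subtype).comp ψ.toMonoidHom

theorem mem_stabIn {G : Subgroup (Equiv.Perm Ω)} {a : Ω} {ψ : H0 ≃* MulAction.stabilizer G a} {x : Ω} {y : H0} :
    y ∈ stabIn G a ψ x ↔ actOn G a ψ y x = x := Iff.rfl

theorem card_stabIn {G : Subgroup (Equiv.Perm Ω)} {a : Ω} (ψ : H0 ≃* MulAction.stabilizer G a) (x : Ω) :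
    (MulAction.orbit (MulAction.stabilizer G a) x).ncard * Nat.card (stabIn G a ψ x) = 35942400 := by
  have hcard : Nat.card (MulAction.stabilizer G a) = 35942400 := (Nat.card_congr ψ.toEquiv).symm.trans card_H0
  rw [← hcard, ← Nat.card_coe_set_eq, show Nat.card (stabIn G a ψ x) =
    Nat.card (MulAction.stabilizer (MulAction.stabilizer G a) x) from
    Nat.card_congr (ψ.toEquiv.subtypeEquiv fun y => Iff.rfl), ← Nat.card_prod]
  exact Nat.card_congr (MulAction.orbitProdStabilizerEquivGroup (MulAction.stabilizer G a) x)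

/-- The octagon around the base vertex, and a vertex outside whose neighbours in it are the set. -/
theorem exists_core (hΩ : Fintype.card Ω = 4060) (G : Subgroup (Equiv.Perm Ω)) [MulAction.IsPretransitive G Ω]
    (a : Ω) (ψ : H0 ≃* MulAction.stabilizer G a) (b c : Ω)
    (hb : (MulAction.orbit (MulAction.stabilizer G a) b).ncard = 1755)
    (hc : (MulAction.orbit (MulAction.stabilizer G a) c).ncard = 2304) :
    ∃ (Γ : SimpleGraph Ω) (_ : DecidableRel Γ.Adj) (l m : ℕ) (φ : Fin octA.N → Ω) (u : Ω),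
      (∀ (g : G) x z, Γ.Adj (g • x) (g • z) ↔ Γ.Adj x z) ∧
      (∀ x, Γ.Adj a x ↔ x ∈ MulAction.orbit (MulAction.stabilizer G a) b) ∧
      Around Γ a (actOn G a ψ) l m ∧ Inner Γ a (actOn G a ψ) φ ∧ u ∈ outerV Γ a ∧
      (∀ p, Γ.Adj u (φ p) ↔ InR p) ∧ ∀ y, actOn G a ψ y u = u ↔ y ∈ stR := by
  classical
  obtain ⟨hab, hcases⟩ := orbit_cases hΩ hb hc
  obtain ⟨Γ, hdec, l, m, hO⟩ := exists_orbital hΩ hb hc
  set r := actOn G a ψ with hr
  have hry : ∀ y x, r y x = ((ψ y : (MulAction.stabilizer G a)) : G) • x := fun y x => rfl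
  have hfix : ∀ y, r y a = a := fun y => (ψ y).2
  have hA : Around Γ a r l m :=
    ⟨fun y x z => hO.inv _ x z, hfix, hO.deg, hO.adj, hO.nadj, hO.count, hO.not_clique hΩ⟩
  have hSx : ∀ x y, y ∈ stabIn G a ψ x ↔ r y x = x := fun x y => Iff.rfl
  have horb : ∀ x y, r y x ∈ MulAction.orbit (MulAction.stabilizer G a) x := fun x y => ⟨ψ y, rfl⟩
  have horb' : ∀ x z, z ∈ MulAction.orbit (MulAction.stabilizer G a) x → ∃ y, r y x = z := fun x z ⟨g, hg⟩ =>
    ⟨ψ.symm g, by rw [hry, ψ.apply_symm_apply]; exact hg⟩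
  -- a neighbour with the stabiliser of a point
  have hT : Nat.card (stabIn G a ψ b) = 20480 := by
    have := card_stabIn ψ b
    rw [hb] at this
    omega
  obtain ⟨g, hg⟩ := exists_conj (stabIn G a ψ b) hT
  set b' := r g b with hb'
  have hb'o : b' ∈ MulAction.orbit (MulAction.stabilizer G a) b := horb b g
  have hstab : ∀ y, r y b' = b' ↔ g⁻¹ * y * g ∈ stabIn G a ψ b := by
    intro y
    rw [hSx, hb']
    constructor
    · intro e
      rw [map_mul, map_mul, Equiv.Perm.mul_apply, Equiv.Perm.mul_apply, e, perm_inv_smul]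
    · intro e
      rw [map_mul, map_mul, Equiv.Perm.mul_apply, Equiv.Perm.mul_apply] at e
      have := congrArg (r g) e
      rwa [perm_smul_inv] at this
  obtain ⟨φ, hinj, heq, ho⟩ := exists_equivariant θ r o b' transitive fun y => by
    rw [hstab, hg, show g * (g⁻¹ * y * g) * g⁻¹ = y by group, mem_St]
  have hF : Inner Γ a r φ := by
    refine ⟨hinj, fun x => ?_, heq⟩
    rw [hO.nbr]
    constructor
    · intro hx
      obtain ⟨y, rfl⟩ := horb' b' x (by rw [MulAction.orbit_eq_iff.2 hb'o]; exact hx)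
      exact ⟨θ y o, by rw [heq, ho]⟩
    · rintro ⟨p, rfl⟩
      obtain ⟨y, rfl⟩ := transitive p
      rw [heq, ho, ← MulAction.orbit_eq_iff.2 hb'o]
      exact horb b' y
  -- a vertex outside fixed by the five-group
  have hca : c ∈ outerV Γ a := by
    rw [mem_outerV, hO.nbr]
    have hca' : a ∉ MulAction.orbit (MulAction.stabilizer G a) c := fun e => by
      rw [← MulAction.orbit_eq_iff.2 e] at hc
      have : MulAction.orbit (MulAction.stabilizer G a) a = {a} := by
        ext y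
        simp only [MulAction.mem_orbit_iff, Set.mem_singleton_iff]
        exact ⟨fun ⟨g, hg⟩ => hg ▸ g.2, fun e' => ⟨1, by rw [e', one_smul]⟩⟩
      rw [this, Set.ncard_singleton] at hc
      omega
    refine ⟨fun e => hca' ?_, fun e => ?_⟩
    · have h := MulAction.mem_orbit_self (M := MulAction.stabilizer G a) c
      nth_rw 2 [e] at h
      exact h
    · rw [MulAction.orbit_eq_iff.2 e, hb] at hc
      omega
  have hC : Nat.card (stabIn G a ψ c) = 15600 := by
    have := card_stabIn ψ c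
    rw [hc] at this
    omega
  have : Fact (Nat.Prime 5) := ⟨by norm_num⟩
  obtain ⟨R, hR⟩ := Sylow.exists_subgroup_card_pow_prime 5 (G := stabIn G a ψ c) (n := 2) (by rw [hC]; norm_num)
  obtain ⟨P, hP⟩ := isPGroup_Q5.exists_le_sylow
  have hR' : Nat.card (R.map (stabIn G a ψ c).subtype) = 5 ^ (Nat.card H0).factorization 5 := by
    rw [← Nat.card_congr (Subgroup.equivMapOfInjective R _ (stabIn G a ψ c).subtype_injective).toEquiv, hR, card_H0,
      show 35942400 = 5 ^ 2 * 1437696 by norm_num, Nat.factorization_mul (by norm_num) (by norm_num),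
      Finsupp.add_apply, Nat.Prime.factorization_pow (by norm_num : Nat.Prime 5),
      Nat.factorization_eq_zero_of_not_dvd (show ¬ 5 ∣ 1437696 by norm_num)]
    simp
  obtain ⟨k, hk⟩ := MulAction.exists_smul_eq H0 (Sylow.ofCard _ hR') P
  set u1 := r k c with hu1
  have hu1o : u1 ∈ outerV Γ a := outerV_perm hA k hca
  have hu5 : ∀ y ∈ fiveGens, r y u1 = u1 := by
    intro y hy
    have h1 : y ∈ ((k • Sylow.ofCard _ hR' : Sylow 5 H0) : Subgroup H0) := by
      rw [hk]; exact hP (Subgroup.subset_closure hy)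
    have h2 : y ∈ (R.map (stabIn G a ψ c).subtype).map (MulAut.conj k).toMonoidHom := h1
    obtain ⟨z, ⟨q, -, rfl⟩, e⟩ := h2
    have e' : k * q * k⁻¹ = y := e
    rw [← e', hu1, map_mul, map_mul, Equiv.Perm.mul_apply, Equiv.Perm.mul_apply, perm_inv_smul, (hSx c q).1 q.2]
  obtain ⟨y, L, hL, hy⟩ := search (fun p => Γ.Adj u1 (φ p))
    (fun z hz p => by conv_lhs => rw [hF.equiv, ← hu5 z hz, hA.inv])
    (fun z => by
      have key := hF.five_four hA hΩ (outerV_perm hA z⁻¹ hu1o)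
      have e : ∀ p, Γ.Adj u1 (φ (θ z p)) ↔ Γ.Adj (r z⁻¹ u1) (φ p) := fun p => by
        conv_lhs => rw [hF.equiv, ← perm_smul_inv (r := r) z u1, hA.inv]
      simp only [e]
      exact key)
  -- moved to the set
  set u := r y⁻¹ u1 with hu
  have hup : ∀ p, Γ.Adj u (φ p) ↔ (p : ℕ) ∈ L := fun p => by
    rw [← hy p]
    conv_rhs => rw [hF.equiv, ← perm_smul_inv (r := r) y u1, hA.inv]
  have huc : Nat.card (stabIn G a ψ u) = 15600 := by
    have h1 := card_stabIn ψ u
    have hmem : u ∈ MulAction.orbit (MulAction.stabilizer G a) c := by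
      rw [hu, hu1, ← Equiv.Perm.mul_apply, ← map_mul]; exact horb c _
    rw [MulAction.orbit_eq_iff.2 hmem, hc] at h1
    omega
  have hle : stabIn G a ψ u ≤ stSet L := by
    intro z hz p
    refine Iff.trans (hup (θ z p)).symm (Iff.trans ?_ (hup p))
    conv_lhs => rw [show φ (θ z p) = r z (φ p) from hF.equiv z p, ← (hSx u z).1 hz, hA.inv]
  rcases hL with rfl | rfl
  · have heq' : stabIn G a ψ u = stR :=
      Subgroup.eq_of_le_of_card_ge hle (by rw [huc]; exact card_stR_le)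
    exact ⟨Γ, hdec, l, m, φ, u, hO.inv, hO.nbr, hA, hF, outerV_perm hA _ hu1o, hup,
      fun z => by rw [← hSx, heq']⟩
  · exfalso
    have h1 := Subgroup.card_le_of_le hle
    have h2 := card_stB_lt
    omega

end

/-- The Rudvalis group as permutations. -/
noncomputable def ruP : Subgroup (Equiv.Perm V) := genGroup Cos.Ru.actA

instance : MulAction.IsPretransitive ruP V := by
  refine ⟨fun x y => ?_⟩
  obtain ⟨a, ha⟩ := transV x
  obtain ⟨b, hb⟩ := transV y
  refine ⟨(b * a⁻¹ : Cos.Ru.G4060), ?_⟩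
  show Cos.Ru.pi (b * a⁻¹) x = y
  rw [map_mul, map_inv, Equiv.Perm.mul_apply, ← ha, Equiv.Perm.inv_def, Equiv.symm_apply_apply, hb]

theorem exists_ru_psi : ∃ ψ : H0 ≃* MulAction.stabilizer ruP v0, ∀ y x, actOn ruP v0 ψ y x = piV y x := by
  let f : H0 →* MulAction.stabilizer ruP v0 :=
    { toFun := fun y => ⟨(y : Cos.Ru.G4060), piV_v0 y⟩
      map_one' := rfl
      map_mul' := fun a b => rfl }
  have hf : Function.Bijective f := by
    refine ⟨fun a b e => Subtype.ext (congrArg (fun z : MulAction.stabilizer ruP v0 => (z.1 : Cos.Ru.G4060)) e), ?_⟩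
    rintro ⟨z, hz⟩
    exact ⟨⟨z, mem_H0.2 hz⟩, rfl⟩
  exact ⟨MulEquiv.ofBijective f hf, fun _ _ => rfl⟩

theorem ru_orbits {ψ : H0 ≃* MulAction.stabilizer ruP v0} (hψ : ∀ y x, actOn ruP v0 ψ y x = piV y x) :
    MulAction.orbit (MulAction.stabilizer ruP v0) (emb o) = Set.range emb ∧
      (MulAction.orbit (MulAction.stabilizer ruP v0) (emb o)).ncard = 1755 ∧
      (MulAction.orbit (MulAction.stabilizer ruP v0) u0).ncard = 2304 := by
  classical
  have horb : ∀ x z : V, z ∈ MulAction.orbit (MulAction.stabilizer ruP v0) x ↔ ∃ y, piV y x = z := fun x z =>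
    ⟨fun ⟨g, hg⟩ => ⟨ψ.symm g, by rw [← hψ]; show ((ψ (ψ.symm g)).1 : Equiv.Perm V) x = z
                                  rw [ψ.apply_symm_apply]; exact hg⟩,
      fun ⟨y, hy⟩ => ⟨ψ y, (hψ y x).trans hy⟩⟩
  have e : MulAction.orbit (MulAction.stabilizer ruP v0) (emb o) = Set.range emb := by
    ext z
    rw [horb]
    constructor
    · rintro ⟨y, rfl⟩; exact ⟨_, (piV_emb y o).symm⟩
    · rintro ⟨p, rfl⟩
      obtain ⟨y, hy⟩ := transitive p
      exact ⟨y, (piV_emb y o).trans (congrArg emb hy)⟩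
  refine ⟨e, ?_, ?_⟩
  · rw [e, Set.ncard_range_of_injective emb_injective, Nat.card_fin]
    rfl
  · rw [← card_out, ← Set.ncard_coe_finset]
    congr 1
    ext z
    rw [horb, coe_filter, Set.mem_ofPred_eq]
    constructor
    · rintro ⟨y, rfl⟩; exact ⟨mem_univ _, out_piV y u0_out⟩
    · exact fun hz => out_orbit hz.2

/-- The stabiliser of the outer base vertex keeps the set. -/
theorem stR_iff (y : H0) : piV y u0 = u0 ↔ y ∈ stR := by
  obtain ⟨ψ, hψ⟩ := exists_ru_psi
  obtain ⟨he, hb, hc⟩ := ru_orbits hψ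
  obtain ⟨Γ, hdec, l, m, φ, u, -, hnbr, -, -, hu, -, hst⟩ :=
    exists_core (by rw [Fintype.card_fin]; rfl) ruP v0 ψ (emb o) u0 hb hc
  obtain ⟨h1, h2⟩ := mem_outerV.1 hu
  have hout : isOut u := by
    rcases kind_cases u with e | e | ⟨p, e⟩
    · exact absurd e h1
    · exact e
    · exact absurd ((hnbr u).2 (he ▸ ⟨p, e⟩)) h2
  have hu0 : u = u0 := unique_fix hout fun w hw => by
    rw [← hψ]; exact (hst _).2 (sets_parts.2.2.2 w hw).2
  rw [← hψ, ← hu0]
  exact hst y

/-- The standard labelling of a graph. -/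
structure Std {Ω : Type*} (Γ : SimpleGraph Ω) (r : H0 →* Equiv.Perm Ω) (Φ : V → Ω) : Prop where
  bij : Function.Bijective Φ
  equiv : ∀ y v, Φ (piV y v) = r y (Φ v)
  inv : ∀ y x z, Γ.Adj (r y x) (r y z) ↔ Γ.Adj x z
  base : ∀ v, Γ.Adj (Φ v0) (Φ v) ↔ ∃ p, emb p = v
  outer : ∀ v : V, isOut v → (Γ.Adj (Φ u0) (Φ v) ↔ (v : ℕ) ∈ ptsOf outer975)
  mixed : ∀ q, Γ.Adj (Φ u0) (Φ (emb q)) ↔ InR q
  inner : ∀ q, Γ.Adj (Φ (emb o)) (Φ (emb q)) ↔ q ∈ near

/-- Two standard labellings agree. -/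
theorem Std.adj_iff {Ω Ω' : Type*} {Γ : SimpleGraph Ω} {Γ' : SimpleGraph Ω'} {r : H0 →* Equiv.Perm Ω}
    {r' : H0 →* Equiv.Perm Ω'} {Φ : V → Ω} {Φ' : V → Ω'} (h : Std Γ r Φ) (h' : Std Γ' r' Φ') (x z : V) :
    Γ.Adj (Φ x) (Φ z) ↔ Γ'.Adj (Φ' x) (Φ' z) := by
  have hout : ∀ {x : V}, isOut x → ∀ z, Γ.Adj (Φ x) (Φ z) ↔ Γ'.Adj (Φ' x) (Φ' z) := by
    intro x hx z
    rcases kind_cases z with rfl | hz | ⟨q, rfl⟩
    · rw [Γ.adj_comm, Γ'.adj_comm, h.base, h'.base]
    · obtain ⟨y, rfl⟩ := out_orbit hx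
      have hz' : isOut (piV y⁻¹ z) := out_piV y⁻¹ hz
      rw [← piV_inv_self y z, h.equiv, h.equiv, h'.equiv, h'.equiv, h.inv, h'.inv, h.outer _ hz', h'.outer _ hz']
    · obtain ⟨y, rfl⟩ := out_orbit hx
      rw [← theta_inv_self y q, ← piV_emb, h.equiv, h.equiv, h'.equiv, h'.equiv, h.inv, h'.inv, h.mixed, h'.mixed]
  rcases kind_cases x with rfl | hx | ⟨p, rfl⟩
  · rw [h.base, h'.base]
  · exact hout hx z
  · rcases kind_cases z with rfl | hz | ⟨q, rfl⟩
    · rw [Γ.adj_comm, Γ'.adj_comm, h.base, h'.base]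
    · rw [Γ.adj_comm, Γ'.adj_comm]
      exact hout hz _
    · obtain ⟨y, hy⟩ := transitive p
      rw [← hy, ← theta_inv_self y q, ← piV_emb, ← piV_emb, h.equiv, h.equiv, h'.equiv, h'.equiv, h.inv, h'.inv,
        h.inner, h'.inner]

/-- The graph and a standard labelling. -/
theorem exists_std {Ω : Type*} [Fintype Ω] [DecidableEq Ω] (hΩ : Fintype.card Ω = 4060)
    (G : Subgroup (Equiv.Perm Ω)) [MulAction.IsPretransitive G Ω] (a : Ω) (ψ : H0 ≃* MulAction.stabilizer G a)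
    (b c : Ω) (hb : (MulAction.orbit (MulAction.stabilizer G a) b).ncard = 1755)
    (hc : (MulAction.orbit (MulAction.stabilizer G a) c).ncard = 2304) :
    ∃ (Γ : SimpleGraph Ω) (Φ : V → Ω), (∀ (g : G) x z, Γ.Adj (g • x) (g • z) ↔ Γ.Adj x z) ∧ Φ v0 = a ∧
      Std Γ (actOn G a ψ) Φ := by
  classical
  obtain ⟨Γ, _, l, m, φ, u, hinvG, -, hA, hF, hu, hR0, hst⟩ := exists_core hΩ G a ψ b c hb hc
  obtain ⟨hl, hm, hnear⟩ := hF.params hA
  set r := actOn G a ψ
  have key : ∀ y z, piV y u0 = piV z u0 ↔ r y u = r z u := by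
    intro y z
    have h1 : piV (z⁻¹ * y) u0 = u0 ↔ r (z⁻¹ * y) u = u := (stR_iff _).trans (hst _).symm
    rw [map_mul, map_mul, map_inv, map_inv, Equiv.Perm.mul_apply, Equiv.Perm.mul_apply, Equiv.Perm.inv_eq_iff_eq,
      Equiv.Perm.inv_eq_iff_eq] at h1
    exact h1
  let Φ : V → Ω := fun v =>
    if v = v0 then a
    else if hv : isOut v then r (out_orbit hv).choose u
    else if hv' : ∃ p, emb p = v then φ hv'.choose else a
  have hΦ0 : Φ v0 = a := by simp [Φ]
  have hΦn : ∀ y, Φ (piV y u0) = r y u := fun y => by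
    have hm' := out_piV y u0_out
    simp only [Φ, if_neg (fun e : piV y u0 = v0 => v0_not_out (e ▸ hm')), dif_pos hm']
    exact (key _ _).1 (out_orbit hm').choose_spec
  have hΦe : ∀ p, Φ (emb p) = φ p := fun p => by
    have h' : ∃ q, emb q = emb p := ⟨p, rfl⟩
    simp only [Φ, if_neg emb_ne_v0, dif_neg emb_not_out, dif_pos h']
    exact congrArg φ (emb_injective h'.choose_spec)
  have hΦu : Φ u0 = u := by
    have := hΦn 1
    rwa [map_one, map_one, Equiv.Perm.one_apply, Equiv.Perm.one_apply] at this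
  have hequiv : ∀ y v, Φ (piV y v) = r y (Φ v) := by
    intro y v
    rcases kind_cases v with rfl | hv | ⟨p, rfl⟩
    · rw [piV_v0, hΦ0, hA.fix]
    · obtain ⟨z, rfl⟩ := out_orbit hv
      rw [← Equiv.Perm.mul_apply, ← map_mul, hΦn, hΦn, map_mul, Equiv.Perm.mul_apply]
    · rw [piV_emb, hΦe, hΦe]; exact hF.equiv y p
  have hur : ∀ y, r y u ≠ a ∧ ¬ Γ.Adj a (r y u) := fun y => mem_outerV.1 (outerV_perm hA y hu)
  have hinj : Function.Injective Φ := by
    intro x z e
    rcases kind_cases x with rfl | hx | ⟨p, rfl⟩ <;> rcases kind_cases z with rfl | hz | ⟨q, rfl⟩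
    · rfl
    · obtain ⟨y, rfl⟩ := out_orbit hz
      rw [hΦ0, hΦn] at e
      exact absurd e.symm (hur y).1
    · rw [hΦ0, hΦe] at e
      exact absurd (hF.adj_base q) (e ▸ Γ.irrefl)
    · obtain ⟨y, rfl⟩ := out_orbit hx
      rw [hΦ0, hΦn] at e
      exact absurd e (hur y).1
    · obtain ⟨y, rfl⟩ := out_orbit hx
      obtain ⟨y', rfl⟩ := out_orbit hz
      rw [hΦn, hΦn] at e
      exact (key _ _).2 e
    · obtain ⟨y, rfl⟩ := out_orbit hx
      rw [hΦn, hΦe] at e
      exact absurd (hF.adj_base q) (e ▸ (hur y).2)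
    · rw [hΦ0, hΦe] at e
      exact absurd (hF.adj_base p) (e ▸ Γ.irrefl)
    · obtain ⟨y, rfl⟩ := out_orbit hz
      rw [hΦn, hΦe] at e
      exact absurd (hF.adj_base p) (e ▸ (hur y).2)
    · rw [hΦe, hΦe] at e
      rw [hF.inj e]
  have hbij : Function.Bijective Φ := (Fintype.bijective_iff_injective_and_card Φ).2 ⟨hinj, by
    rw [hΩ, Fintype.card_fin]; rfl⟩
  have hbase : ∀ v, Γ.Adj (Φ v0) (Φ v) ↔ ∃ p, emb p = v := by
    intro v
    rw [hΦ0]
    rcases kind_cases v with rfl | hv | ⟨p, rfl⟩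
    · rw [hΦ0]
      exact iff_of_false Γ.irrefl fun ⟨p, e⟩ => emb_ne_v0 e
    · obtain ⟨y, rfl⟩ := out_orbit hv
      rw [hΦn]
      exact iff_of_false (hur y).2 fun ⟨p, e⟩ => emb_not_out (e ▸ hv)
    · rw [hΦe]
      exact iff_of_true (hF.adj_base p) ⟨p, rfl⟩
  refine ⟨Γ, Φ, hinvG, hΦ0, hbij, hequiv, hA.inv, hbase, fun v hv => ?_, fun q => by rw [hΦu, hΦe]; exact hR0 q,
    fun q => by rw [hΦe, hΦe]; exact hnear q⟩
  -- the vertices outside adjacent to the outer base vertex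
  set T : Finset V := univ.filter fun v : V => isOut v ∧ Γ.Adj u (Φ v)
  have hu' := mem_outerV.1 hu
  have hRc : #(univ.filter fun p : Fin octA.N => Γ.Adj u (φ p)) = 780 := by
    rw [show (univ.filter fun p : Fin octA.N => Γ.Adj u (φ p)) = univ.filter fun p => InR p from
      filter_congr fun p _ => hR0 p, ← Fintype.card_subtype, ← Nat.card_eq_fintype_card]
    exact card_InR
  have hTc : #T = 975 := by
    have hsplit : (univ.filter fun z => Γ.Adj u z) =
        T.image Φ ∪ (univ.filter fun p : Fin octA.N => Γ.Adj u (φ p)).image φ := by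
      ext z
      obtain ⟨v, rfl⟩ := hbij.2 z
      simp only [T, mem_union, mem_image, mem_filter, mem_univ, true_and]
      constructor
      · intro hz
        rcases kind_cases v with rfl | hv | ⟨p, rfl⟩
        · rw [hΦ0] at hz
          exact absurd hz.symm hu'.2
        · exact Or.inl ⟨v, ⟨hv, hz⟩, rfl⟩
        · exact Or.inr ⟨p, (hΦe p) ▸ hz, (hΦe p).symm⟩
      · rintro (⟨v', ⟨-, h2⟩, e⟩ | ⟨p, h2, e⟩)
        · exact e ▸ h2
        · exact e ▸ h2
    have hdis : Disjoint (T.image Φ) ((univ.filter fun p : Fin octA.N => Γ.Adj u (φ p)).image φ) := by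
      rw [disjoint_left]
      intro z hz hz'
      obtain ⟨v', hv', rfl⟩ := mem_image.1 hz
      obtain ⟨p, -, e⟩ := mem_image.1 hz'
      rw [← hΦe] at e
      exact emb_not_out ((hinj e).symm ▸ (mem_filter.1 hv').2.1)
    have hdeg := hA.deg u
    rw [hsplit, card_union_of_disjoint hdis, card_image_of_injective _ hinj, card_image_of_injective _ hF.inj, hRc]
      at hdeg
    omega
  have hTinv : ∀ y ∈ stR, ∀ v, v ∈ T → piV y v ∈ T := by
    intro y hy v hv'
    obtain ⟨-, h1, h2⟩ := mem_filter.1 hv'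
    refine mem_filter.2 ⟨mem_univ _, out_piV y h1, ?_⟩
    rw [hequiv, ← (hst y).2 hy, hA.inv]
    exact h2
  have := nbr_outer T (fun v hv' => (mem_filter.1 hv').2.1) (by simp [T, hΦu]) hTinv hTc v
  rw [hΦu, ← this]
  simp [T, hv]

end Cfsg.Agent.Spor.RuRec
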